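import Mathlib
import Cfsg.Prelude.Def_LocalEven
import Cfsg.Agent.Lib.helper39.Induced

/-!
Involvement of a group in another, in homomorphism form (helper40).

* `Invd H X`: `H` is a homomorphic image of a subgroup of `X`; `involves_iff_invd : Involves H X ↔ Invd H X`.
* `Invd.of_injective`, `Invd.of_surjective`: transport along injective / surjective homomorphisms.
* `exists_normalizer_lift`: normalizers of `p`-subgroups of a quotient are images of normalizers of `p`-subgroups.
* `invd_normalizer_of_section`: a group involved in the normalizer of a nontrivial `p`-subgroup of a section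
  `K / R` of `G` is involved in the normalizer of a nontrivial `p`-subgroup of `G`.
-/

set_option autoImplicit false

namespace Cfsg.Agent.Lib.helper40

open Cfsg

universe u v w

/-- `H` is a homomorphic image of a subgroup of `X`. -/
def Invd (H : Type u) [Group H] (X : Type v) [Group X] : Prop :=
  ∃ (K : Subgroup X) (f : ↥K →* H), Function.Surjective f

theorem involves_iff_invd {H : Type u} [Group H] {X : Type v} [Group X] :
    Involves H X ↔ Invd H X := by
  constructor
  · rintro ⟨K, R, hR, ⟨e⟩⟩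
    exact ⟨K, e.toMonoidHom.comp (QuotientGroup.mk' (R.subgroupOf K)),
      e.surjective.comp (QuotientGroup.mk'_surjective _)⟩
  · rintro ⟨K, f, hf⟩
    have e : (f.ker.map K.subtype).subgroupOf K = f.ker :=
      Subgroup.comap_map_eq_self_of_injective (Subgroup.subtype_injective K) f.ker
    have hL : ((f.ker.map K.subtype).subgroupOf K).Normal := by rw [e]; infer_instance
    exact ⟨K, f.ker.map K.subtype, hL,
      ⟨(QuotientGroup.quotientMulEquivOfEq e).trans (QuotientGroup.quotientKerEquivOfSurjective f hf)⟩⟩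

theorem Invd.of_injective {H : Type u} [Group H] {Y : Type v} [Group Y] {Z : Type w} [Group Z]
    (ι : Y →* Z) (hι : Function.Injective ι) (h : Invd H Y) : Invd H Z := by
  obtain ⟨K, f, hf⟩ := h
  exact ⟨K.map ι, f.comp (K.equivMapOfInjective ι hι).symm.toMonoidHom,
    hf.comp (MulEquiv.surjective _)⟩

theorem Invd.of_surjective {H : Type u} [Group H] {Y : Type v} [Group Y] {Z : Type w} [Group Z]
    (g : Z →* Y) (hg : Function.Surjective g) (h : Invd H Y) : Invd H Z := by
  obtain ⟨K, f, hf⟩ := h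
  exact ⟨K.comap g, f.comp (g.subgroupComap K),
    hf.comp (g.subgroupComap_surjective_of_surjective K hg)⟩

/-- Normalizers of `p`-subgroups of a quotient are images of normalizers of `p`-subgroups. -/
theorem exists_normalizer_lift {p : ℕ} [Fact p.Prime] {Y X : Type*} [Group Y] [Finite Y] [Group X]
    (π : Y →* X) (hπ : Function.Surjective π) (Q : Subgroup X) (hQ : IsPGroup p Q) :
    ∃ Q₁ : Subgroup Y, IsPGroup p Q₁ ∧ Q₁.map π = Q ∧
      ∀ n ∈ Subgroup.normalizer (Q : Set X), ∃ m ∈ Subgroup.normalizer (Q₁ : Set Y), π m = n := by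
  obtain ⟨P⟩ : Nonempty (Sylow p ↥(Q.comap π)) := inferInstance
  have hsyl : helper39.IsSylIn p ((P : Subgroup ↥(Q.comap π)).map (Q.comap π).subtype) (Q.comap π) :=
    helper39.sylow_isSylIn P
  have hmap : ((P : Subgroup ↥(Q.comap π)).map (Q.comap π).subtype).map π = Q := by
    apply le_antisymm
    · rintro _ ⟨y, hy, rfl⟩
      exact hsyl.1 hy
    · intro q hq
      have hf : Function.Surjective (π.subgroupComap Q) :=
        π.subgroupComap_surjective_of_surjective Q hπ
      have h1 : ((P.mapSurjective hf : Sylow p ↥Q) : Subgroup ↥Q) = ⊤ := by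
        have hQtop : IsPGroup p (⊤ : Subgroup ↥Q) := fun x => by
          obtain ⟨k, hk⟩ := hQ x.1
          exact ⟨k, Subtype.ext hk⟩
        exact ((P.mapSurjective hf).is_maximal' hQtop le_top).symm
      have h2 : (⟨q, hq⟩ : ↥Q) ∈ ((P.mapSurjective hf : Sylow p ↥Q) : Subgroup ↥Q) := by
        rw [h1]; exact Subgroup.mem_top _
      rw [Sylow.coe_mapSurjective] at h2
      obtain ⟨y, hy, hyq⟩ := h2
      refine ⟨(y : Y), ⟨y, hy, rfl⟩, ?_⟩
      exact congrArg Subtype.val hyq
  refine ⟨_, hsyl.2.1, hmap, ?_⟩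
  intro n hn
  obtain ⟨n₀, rfl⟩ := hπ n
  have hn₀ : n₀ ∈ Subgroup.normalizer ((Q.comap π : Subgroup Y) : Set Y) := by
    rw [Subgroup.mem_normalizer_iff]
    intro y
    rw [Subgroup.mem_comap, Subgroup.mem_comap, map_mul, map_mul, map_inv]
    exact (Subgroup.mem_normalizer_iff.1 hn) (π y)
  have hsyl' := hsyl.conj n₀
  rw [helper39.cj_eq_self_iff.2 hn₀] at hsyl'
  obtain ⟨k, hk, hkeq⟩ := hsyl'.exists_cj_eq hsyl
  rw [← helper39.cj_mul] at hkeq
  have hkn : k * n₀ ∈ Subgroup.normalizer
      (((P : Subgroup ↥(Q.comap π)).map (Q.comap π).subtype : Subgroup Y) : Set Y) :=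
    helper39.cj_eq_self_iff.1 hkeq
  have hπk : π k ∈ Q := hk
  rw [← hmap] at hπk
  obtain ⟨q₁, hq₁, hq₁k⟩ := hπk
  refine ⟨q₁⁻¹ * (k * n₀), Subgroup.mul_mem _ (Subgroup.inv_mem _ (Subgroup.le_normalizer hq₁)) hkn, ?_⟩
  rw [map_mul, map_mul, map_inv, hq₁k, inv_mul_cancel_left]

/-- A group involved in the normalizer of a nontrivial `p`-subgroup of a section of `G` is involved in the
normalizer of a nontrivial `p`-subgroup of `G`. -/
theorem invd_normalizer_of_section {p : ℕ} [Fact p.Prime] {G : Type*} [Group G] [Finite G]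
    {H : Type*} [Group H] (K R : Subgroup G) [hR : (R.subgroupOf K).Normal]
    (Q : Subgroup (↥K ⧸ R.subgroupOf K)) (hQ : IsPGroup p Q) (hQ1 : Q ≠ ⊥)
    (h : Invd H ↥(Subgroup.normalizer (Q : Set (↥K ⧸ R.subgroupOf K)))) :
    ∃ P : Subgroup G, IsPGroup p P ∧ P ≠ ⊥ ∧ Invd H ↥(Subgroup.normalizer (P : Set G)) := by
  obtain ⟨Q₁, hQ₁p, hQ₁map, hlift⟩ := exists_normalizer_lift (QuotientGroup.mk' (R.subgroupOf K))
    (QuotientGroup.mk'_surjective _) Q hQ
  refine ⟨Q₁.map K.subtype, hQ₁p.map _, ?_, ?_⟩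
  · intro hbot
    rw [Subgroup.map_eq_bot_iff_of_injective _ K.subtype_injective] at hbot
    apply hQ1
    rw [← hQ₁map, hbot, Subgroup.map_bot]
  · have hmem : ∀ m : ↥(Subgroup.normalizer (Q₁ : Set ↥K)),
        ((QuotientGroup.mk' (R.subgroupOf K)).comp (Subgroup.normalizer (Q₁ : Set ↥K)).subtype) m ∈
          Subgroup.normalizer (Q : Set (↥K ⧸ R.subgroupOf K)) := by
      intro m
      have := helper39.map_mem_normalizer (QuotientGroup.mk' (R.subgroupOf K)) m.2
      rw [hQ₁map] at this
      exact this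
    have hmem' : ∀ m : ↥(Subgroup.normalizer (Q₁ : Set ↥K)),
        (K.subtype.comp (Subgroup.normalizer (Q₁ : Set ↥K)).subtype) m ∈
          Subgroup.normalizer ((Q₁.map K.subtype : Subgroup G) : Set G) := fun m =>
      helper39.map_mem_normalizer K.subtype m.2
    have h1 : Invd H ↥(Subgroup.normalizer (Q₁ : Set ↥K)) := by
      refine Invd.of_surjective (((QuotientGroup.mk' (R.subgroupOf K)).comp
        (Subgroup.normalizer (Q₁ : Set ↥K)).subtype).codRestrict _ hmem) ?_ h
      rintro ⟨n, hn⟩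
      obtain ⟨m, hm, hmn⟩ := hlift n hn
      exact ⟨⟨m, hm⟩, Subtype.ext hmn⟩
    refine Invd.of_injective ((K.subtype.comp
      (Subgroup.normalizer (Q₁ : Set ↥K)).subtype).codRestrict _ hmem') ?_ h1
    rw [MonoidHom.injective_codRestrict]
    exact K.subtype_injective.comp (Subgroup.subtype_injective _)

end Cfsg.Agent.Lib.helper40
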