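import Mathlib
import Cfsg.Prelude.Def_Transfer
import Cfsg.Prelude.Def_Solvable
import Cfsg.Prelude.Def_CaseTheorems
import Cfsg.Agent.Lib.helper40.ThompsonRed
import Cfsg.Agent.Lib.helper13.NilAct

/-!
Structure of the minimal configuration of the Thompson reduction (helper40).

`Γ` a finite group with `Γ / O_p(Γ)` `p`-nilpotent and a Sylow `p`-subgroup `T` that is a maximal subgroup.
With `Q` the preimage of the normal `p`-complement of `Γ / O_p(Γ)` (`exists_Q_of_hasNPC_quot`):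
* `sup_sylow_eq_top` : `Q ⊔ T = ⊤`;
* `eq_or_eq_of_le_normalizer` : a `T`-invariant subgroup between `O_p(Γ)` and `Q` is one of the two;
* `exists_prime_pow_mem_pCore` : `Q / O_p(Γ)` is a `q`-group for some prime `q`;
* `commutator_le_pCore` : `Q / O_p(Γ)` is abelian.
Also `minimal_normal_centralized`, `minimal_normal_comm`, `minimal_normal_exp`: minimal normal `p`-subgroups
are centralized by normal subgroups acting as `p`-groups, abelian, of exponent `p`.
-/

set_option autoImplicit false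

namespace Cfsg.Agent.Lib.helper40

open Cfsg Cfsg.Agent.Lib.helper67

theorem relIndex_sup_of_normal' {G : Type*} [Group G] [Finite G] (A N : Subgroup G) [N.Normal] :
    A.relIndex (A ⊔ N) = A.relIndex N := by
  have h1 : Nat.card A * A.relIndex (A ⊔ N) = Nat.card ↥(A ⊔ N) := by
    rw [← Subgroup.relIndex_bot_left, Subgroup.relIndex_mul_relIndex _ _ _ bot_le le_sup_left,
      Subgroup.relIndex_bot_left]
  have h2 : Nat.card N * N.relIndex (A ⊔ N) = Nat.card ↥(A ⊔ N) := by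
    rw [← Subgroup.relIndex_bot_left, Subgroup.relIndex_mul_relIndex _ _ _ bot_le le_sup_right,
      Subgroup.relIndex_bot_left]
  have h3 : N.relIndex (A ⊔ N) = (A ⊓ N).relIndex A := by
    rw [Subgroup.relIndex_sup_right, ← Subgroup.inf_relIndex_right, inf_comm]
  have h4 : Nat.card ↥(A ⊓ N) * (A ⊓ N).relIndex A = Nat.card A := by
    rw [← Subgroup.relIndex_bot_left, Subgroup.relIndex_mul_relIndex _ _ _ bot_le inf_le_left,
      Subgroup.relIndex_bot_left]
  have h5 : Nat.card ↥(A ⊓ N) * (A ⊓ N).relIndex N = Nat.card N := by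
    rw [← Subgroup.relIndex_bot_left, Subgroup.relIndex_mul_relIndex _ _ _ bot_le inf_le_right,
      Subgroup.relIndex_bot_left]
  have h6 : A.relIndex N = (A ⊓ N).relIndex N := by rw [Subgroup.inf_relIndex_right]
  rw [h6]
  have hpos : 0 < Nat.card A := Nat.card_pos
  apply Nat.eq_of_mul_eq_mul_left hpos
  rw [h1, ← h2, h3, ← h5, ← h4]
  ring

/-- `Q`: the preimage of the normal `p`-complement of `Γ / O_p(Γ)`. -/
theorem exists_Q_of_hasNPC_quot {p : ℕ} [Fact p.Prime] {Γ : Type*} [Group Γ] [Finite Γ]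
    (hq : HasNormalPComplement p (Γ ⧸ pCore p Γ)) :
    ∃ Q : Subgroup Γ, Q.Normal ∧ pCore p Γ ≤ Q ∧ (∃ k, Q.index = p ^ k) ∧
      (∀ x ∈ Q, ∀ j : ℕ, x ^ (p ^ j) = 1 → x ∈ pCore p Γ) ∧
      ((pCore p Γ).relIndex Q).Coprime p := by
  obtain ⟨K, hKn, hK, k, hk⟩ := exists_normal_coprime_of_hasNPC hq
  have hf : Function.Surjective (QuotientGroup.mk' (pCore p Γ)) := QuotientGroup.mk'_surjective _
  refine ⟨K.comap (QuotientGroup.mk' (pCore p Γ)), hKn.comap _, ?_, ⟨k, ?_⟩, ?_, ?_⟩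
  · have h1 := Subgroup.ker_le_comap (QuotientGroup.mk' (pCore p Γ)) K
    rwa [QuotientGroup.ker_mk'] at h1
  · rw [Subgroup.index_comap_of_surjective _ hf]; exact hk
  · intro x hx j hxj
    rw [Subgroup.mem_comap] at hx
    have h1 : (QuotientGroup.mk' (pCore p Γ) x) ^ (p ^ j) = 1 := by
      rw [← map_pow, hxj, map_one]
    have h2 : orderOf (QuotientGroup.mk' (pCore p Γ) x) ∣ p ^ j := orderOf_dvd_of_pow_eq_one h1
    have h3 : orderOf (QuotientGroup.mk' (pCore p Γ) x) ∣ Nat.card K :=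
      Subgroup.orderOf_dvd_natCard K hx
    have h4 : orderOf (QuotientGroup.mk' (pCore p Γ) x) = 1 :=
      Nat.Coprime.eq_one_of_dvd (Nat.Coprime.coprime_dvd_left h3 (Nat.Coprime.pow_right j hK)) h2
    have h5 : QuotientGroup.mk' (pCore p Γ) x = 1 := orderOf_eq_one_iff.1 h4
    exact (QuotientGroup.eq_one_iff x).1 h5
  · have h1 := Subgroup.relIndex_comap (⊥ : Subgroup (Γ ⧸ pCore p Γ))
      (QuotientGroup.mk' (pCore p Γ)) (K.comap (QuotientGroup.mk' (pCore p Γ)))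
    rw [MonoidHom.comap_bot, QuotientGroup.ker_mk', Subgroup.map_comap_eq_self_of_surjective hf,
      Subgroup.relIndex_bot_left] at h1
    rw [h1]; exact hK

section minconf

variable {p : ℕ} [Fact p.Prime] {Γ : Type*} [Group Γ] [Finite Γ]

omit [Fact p.Prime] [Finite Γ] in
theorem sup_sylow_eq_top (T : Sylow p Γ) (hT : IsCoatom (T : Subgroup Γ)) (Q : Subgroup Γ)
    [Q.Normal] (hidx : ∃ k, Q.index = p ^ k) : Q ⊔ (T : Subgroup Γ) = ⊤ := by
  rcases eq_or_lt_of_le (le_sup_right : (T : Subgroup Γ) ≤ Q ⊔ (T : Subgroup Γ)) with h | h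
  · exfalso
    have hQT : Q ≤ (T : Subgroup Γ) := by rw [h]; exact le_sup_left
    obtain ⟨k, hk⟩ := hidx
    have hΓ : IsPGroup p (⊤ : Subgroup Γ) := by
      intro x
      have h1 : (x : Γ) ^ (p ^ k) ∈ Q := hk ▸ Subgroup.pow_index_mem Q (x : Γ)
      obtain ⟨j, hj⟩ := T.isPGroup' ⟨(x : Γ) ^ (p ^ k), hQT h1⟩
      have hj' : ((x : Γ) ^ (p ^ k)) ^ (p ^ j) = 1 := by
        have h2 := congrArg Subtype.val hj
        rw [Subgroup.coe_pow, Subgroup.coe_one] at h2
        exact h2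
      refine ⟨k + j, ?_⟩
      apply Subtype.ext
      rw [Subgroup.coe_pow, Subgroup.coe_one, pow_add, pow_mul]
      exact hj'
    exact hT.1 (T.is_maximal' hΓ le_top).symm
  · exact hT.2 _ h

omit [Fact p.Prime] [Finite Γ] in
theorem eq_or_eq_of_le_normalizer (T : Sylow p Γ) (hT : IsCoatom (T : Subgroup Γ))
    (Q : Subgroup Γ) (hQ2 : ∀ x ∈ Q, ∀ j : ℕ, x ^ (p ^ j) = 1 → x ∈ pCore p Γ)
    (L : Subgroup Γ) (hHL : pCore p Γ ≤ L) (hLQ : L ≤ Q)
    (hTL : (T : Subgroup Γ) ≤ Subgroup.normalizer (L : Set Γ)) : L = pCore p Γ ∨ L = Q := by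
  have hpow : ∀ t ∈ (T : Subgroup Γ), ∃ j : ℕ, t ^ (p ^ j) = 1 := by
    intro t ht
    obtain ⟨j, hj⟩ := T.isPGroup' ⟨t, ht⟩
    refine ⟨j, ?_⟩
    have h2 := congrArg Subtype.val hj
    rw [Subgroup.coe_pow, Subgroup.coe_one] at h2
    exact h2
  rcases eq_or_lt_of_le (le_sup_right : (T : Subgroup Γ) ≤ L ⊔ (T : Subgroup Γ)) with h | h
  · left
    have hLT : L ≤ (T : Subgroup Γ) := by rw [h]; exact le_sup_left
    apply le_antisymm _ hHL
    intro x hx
    obtain ⟨j, hj⟩ := hpow x (hLT hx)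
    exact hQ2 x (hLQ hx) j hj
  · right
    have htop := hT.2 _ h
    apply le_antisymm hLQ
    intro x hx
    have hx' : x ∈ ((L ⊔ (T : Subgroup Γ) : Subgroup Γ) : Set Γ) := by
      rw [htop]; exact Subgroup.mem_top x
    rw [Subgroup.coe_mul_of_right_le_normalizer_left L (T : Subgroup Γ) hTL] at hx'
    obtain ⟨l, hl, t, ht, rfl⟩ := hx'
    have htQ : t ∈ Q := by
      have e : t = l⁻¹ * (l * t) := by group
      rw [e]; exact Q.mul_mem (Q.inv_mem (hLQ hl)) hx
    obtain ⟨j, hj⟩ := hpow t ht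
    exact L.mul_mem hl (hHL (hQ2 t htQ j hj))

theorem normalizer_le_normalizer_sup_normal {G : Type*} [Group G] (A H : Subgroup G) [hH : H.Normal] :
    Subgroup.normalizer (A : Set G) ≤ Subgroup.normalizer ((A ⊔ H : Subgroup G) : Set G) := by
  have key : ∀ x ∈ Subgroup.normalizer (A : Set G), ∀ n ∈ A ⊔ H, x * n * x⁻¹ ∈ A ⊔ H := by
    intro x hx n hn
    rw [← SetLike.mem_coe, Subgroup.mul_normal] at hn
    obtain ⟨a, ha, h, hh, rfl⟩ := hn
    have e : x * (a * h) * x⁻¹ = (x * a * x⁻¹) * (x * h * x⁻¹) := by group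
    rw [e]
    exact Subgroup.mul_mem_sup ((Subgroup.mem_normalizer_iff.1 hx a).1 ha) (hH.conj_mem h hh x)
  intro x hx
  rw [Subgroup.mem_normalizer_iff]
  intro n
  constructor
  · exact key x hx n
  · intro hn
    have h1 := key x⁻¹ (inv_mem hx) _ hn
    have e : x⁻¹ * (x * n * x⁻¹) * x⁻¹⁻¹ = n := by group
    rwa [e] at h1

theorem exists_sylow_le_of_not_dvd_index (N : Subgroup Γ) (h : ¬ p ∣ N.index) :
    ∃ R : Sylow p Γ, (R : Subgroup Γ) ≤ N := by
  obtain ⟨S'⟩ : Nonempty (Sylow p ↥N) := inferInstance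
  have h1 : Nat.card ((S' : Subgroup ↥N).map N.subtype) = p ^ ppart p N := card_sylow_map S'
  have h2 : ppart p N = (Nat.card Γ).factorization p := by
    rw [ppart_eq_of_not_dvd_index h]; unfold ppart; rw [Subgroup.card_top]
  refine ⟨Sylow.ofCard _ (h1.trans (by rw [h2])), ?_⟩
  rw [Sylow.coe_ofCard]
  rintro _ ⟨t, -, rfl⟩
  exact t.2

/-- `Q / O_p(Γ)` is a `q`-group for some prime `q`. -/
theorem exists_prime_pow_mem_pCore (T : Sylow p Γ) (hT : IsCoatom (T : Subgroup Γ))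
    (Q : Subgroup Γ) [hQn : Q.Normal] (hHQ : pCore p Γ ≤ Q)
    (hQ2 : ∀ x ∈ Q, ∀ j : ℕ, x ^ (p ^ j) = 1 → x ∈ pCore p Γ)
    (hcop : ((pCore p Γ).relIndex Q).Coprime p) :
    ∃ q : ℕ, q.Prime ∧ ∀ x ∈ Q, ∃ j : ℕ, x ^ (q ^ j) ∈ pCore p Γ := by
  have hp : p.Prime := Fact.out
  by_cases hQH : Q ≤ pCore p Γ
  · exact ⟨2, Nat.prime_two, fun x hx => ⟨0, by simpa using hQH hx⟩⟩
  -- a prime `q ≠ p` dividing `|Q|`
  have hq : ∃ q : ℕ, q.Prime ∧ q ∣ Nat.card Q ∧ q ≠ p := by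
    by_contra hcon
    simp only [not_exists, not_and, not_not] at hcon
    have h1 := Nat.eq_prime_pow_of_unique_prime_dvd (p := p) (Nat.card_pos (α := Q)).ne'
      (fun {d} hd hdvd => hcon d hd hdvd)
    have h2 : IsPGroup p Q := IsPGroup.of_card h1
    exact hQH (Cfsg.Agent.Lib.helper39.le_pCore hQn h2)
  obtain ⟨q, hqp, hqdvd, hqne⟩ := hq
  have : Fact q.Prime := ⟨hqp⟩
  obtain ⟨P⟩ : Nonempty (Sylow q ↥Q) := inferInstance
  have hP₀q : IsPGroup q ((P : Subgroup ↥Q).map Q.subtype) := P.isPGroup'.map _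
  have hP₀Q : (P : Subgroup ↥Q).map Q.subtype ≤ Q := by
    rintro _ ⟨t, -, rfl⟩; exact t.2
  have hP₀ne : (P : Subgroup ↥Q).map Q.subtype ≠ ⊥ := by
    intro h
    rw [Subgroup.map_eq_bot_iff_of_injective _ Q.subtype_injective] at h
    have h1 : Nat.card (P : Subgroup ↥Q) = 1 := by rw [h]; exact Subgroup.card_bot
    rw [P.card_eq_multiplicity] at h1
    have h2 : 0 < (Nat.card ↥Q).factorization q :=
      Nat.Prime.factorization_pos_of_dvd hqp Nat.card_pos.ne' hqdvd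
    have h3 : 1 < q ^ (Nat.card ↥Q).factorization q := Nat.one_lt_pow h2.ne' hqp.one_lt
    omega
  have hfrat := Sylow.normalizer_sup_eq_top P
  -- the normalizer of `L₀ = P₀ ⊔ O_p` has index prime to `p`
  have hN₁Q : Subgroup.normalizer
      (((P : Subgroup ↥Q).map Q.subtype ⊔ pCore p Γ : Subgroup Γ) : Set Γ) ⊔ Q = ⊤ := by
    apply top_le_iff.1
    rw [← hfrat]
    exact sup_le_sup_right (normalizer_le_normalizer_sup_normal _ _) Q
  have hidx : ¬ p ∣ (Subgroup.normalizer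
      (((P : Subgroup ↥Q).map Q.subtype ⊔ pCore p Γ : Subgroup Γ) : Set Γ)).index := by
    rw [← Subgroup.relIndex_top_right, ← hN₁Q, relIndex_sup_of_normal',
      ← Subgroup.inf_relIndex_right]
    have h1 : pCore p Γ ≤ Subgroup.normalizer
        (((P : Subgroup ↥Q).map Q.subtype ⊔ pCore p Γ : Subgroup Γ) : Set Γ) ⊓ Q :=
      le_inf (le_sup_right.trans Subgroup.le_normalizer) hHQ
    have h2 := Subgroup.relIndex_dvd_of_le_left Q h1
    intro h3
    exact (Nat.Prime.coprime_iff_not_dvd hp).1 hcop.symm (h3.trans h2)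
  obtain ⟨R, hR⟩ := exists_sylow_le_of_not_dvd_index _ hidx
  obtain ⟨γ, hγ⟩ := MulAction.exists_smul_eq Γ R T
  have hTR : (T : Subgroup Γ) = (R : Subgroup Γ).map (MulAut.conj γ).toMonoidHom := by
    rw [← hγ]; rfl
  have hTL : (T : Subgroup Γ) ≤ Subgroup.normalizer
      ((((P : Subgroup ↥Q).map Q.subtype ⊔ pCore p Γ : Subgroup Γ).map
        (MulAut.conj γ).toMonoidHom : Subgroup Γ) : Set Γ) := by
    rw [hTR, ← Subgroup.map_normalizer_eq_of_bijective _ (MulAut.conj γ).bijective]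
    exact Subgroup.map_mono hR
  have hHn : (pCore p Γ).Normal := inferInstance
  have hHL : pCore p Γ ≤ ((P : Subgroup ↥Q).map Q.subtype ⊔ pCore p Γ : Subgroup Γ).map
      (MulAut.conj γ).toMonoidHom := by
    intro h hh
    refine ⟨γ⁻¹ * h * γ, le_sup_right (a := (P : Subgroup ↥Q).map Q.subtype) ?_, ?_⟩
    · have := hHn.conj_mem h hh γ⁻¹
      rwa [inv_inv] at this
    · show γ * (γ⁻¹ * h * γ) * γ⁻¹ = h
      group
  have hLQ : ((P : Subgroup ↥Q).map Q.subtype ⊔ pCore p Γ : Subgroup Γ).map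
      (MulAut.conj γ).toMonoidHom ≤ Q := by
    rintro _ ⟨l, hl, rfl⟩
    exact hQn.conj_mem l ((sup_le hP₀Q hHQ) hl) γ
  rcases eq_or_eq_of_le_normalizer T hT Q hQ2 _ hHL hLQ hTL with h | h
  · -- then `P₀ ≤ O_p`, impossible
    exfalso
    apply hP₀ne
    rw [eq_bot_iff]
    intro y hy
    have h1 : γ * y * γ⁻¹ ∈ pCore p Γ := by
      rw [← h]
      exact ⟨y, le_sup_left (b := pCore p Γ) hy, rfl⟩
    have h2 : y ∈ pCore p Γ := by
      have := hHn.conj_mem _ h1 γ⁻¹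
      have e : γ⁻¹ * (γ * y * γ⁻¹) * γ⁻¹⁻¹ = y := by group
      rwa [e] at this
    -- `y` is a `p`-element and a `q`-element
    obtain ⟨a, ha⟩ := (Cfsg.Agent.Lib.helper39.pCore_isPGroup p Γ) ⟨y, h2⟩
    obtain ⟨b, hb⟩ := hP₀q ⟨y, hy⟩
    have ha' : y ^ (p ^ a) = 1 := by
      have h3 := congrArg Subtype.val ha
      rw [Subgroup.coe_pow, Subgroup.coe_one] at h3
      exact h3
    have hb' : y ^ (q ^ b) = 1 := by
      have h3 := congrArg Subtype.val hb
      rw [Subgroup.coe_pow, Subgroup.coe_one] at h3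
      exact h3
    have h4 : orderOf y ∣ p ^ a := orderOf_dvd_of_pow_eq_one ha'
    have h5 : orderOf y ∣ q ^ b := orderOf_dvd_of_pow_eq_one hb'
    have h6 : Nat.Coprime (p ^ a) (q ^ b) :=
      Nat.Coprime.pow _ _ ((Nat.coprime_primes hp hqp).2 (Ne.symm hqne))
    have h7 : orderOf y = 1 := Nat.eq_one_of_dvd_coprimes h6 h4 h5
    rw [Subgroup.mem_bot]
    exact orderOf_eq_one_iff.1 h7
  · -- then `Q = P₀ ⊔ O_p`
    refine ⟨q, hqp, ?_⟩
    intro x hx
    have h1 : γ * x * γ⁻¹ ∈ ((P : Subgroup ↥Q).map Q.subtype ⊔ pCore p Γ : Subgroup Γ).map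
        (MulAut.conj γ).toMonoidHom := by
      rw [h]; exact hQn.conj_mem x hx γ
    obtain ⟨l, hl, hlx⟩ := h1
    have hlx' : l = x := (MulAut.conj γ).injective hlx
    subst hlx'
    have hl' : l ∈ ((((P : Subgroup ↥Q).map Q.subtype ⊔ pCore p Γ : Subgroup Γ)) : Set Γ) := hl
    rw [Subgroup.mul_normal] at hl'
    obtain ⟨a, ha, h', hh', rfl⟩ := hl'
    obtain ⟨b, hb⟩ := hP₀q ⟨a, ha⟩
    have hb' : a ^ (q ^ b) = 1 := by
      have h3 := congrArg Subtype.val hb
      rw [Subgroup.coe_pow, Subgroup.coe_one] at h3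
      exact h3
    refine ⟨b, ?_⟩
    apply (QuotientGroup.eq_one_iff (N := pCore p Γ) _).1
    have h2 : ((h' : Γ) : Γ ⧸ pCore p Γ) = 1 := (QuotientGroup.eq_one_iff h').2 hh'
    rw [QuotientGroup.mk_pow, QuotientGroup.mk_mul, h2, mul_one, ← QuotientGroup.mk_pow, hb']
    rfl

/-- `Q / O_p(Γ)` is abelian. -/
theorem commutator_le_pCore (T : Sylow p Γ) (hT : IsCoatom (T : Subgroup Γ))
    (Q : Subgroup Γ) [hQn : Q.Normal] (hHQ : pCore p Γ ≤ Q)
    (hQ2 : ∀ x ∈ Q, ∀ j : ℕ, x ^ (p ^ j) = 1 → x ∈ pCore p Γ)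
    (hcop : ((pCore p Γ).relIndex Q).Coprime p) : ⁅Q, Q⁆ ≤ pCore p Γ := by
  obtain ⟨q, hqp, hq⟩ := exists_prime_pow_mem_pCore T hT Q hHQ hQ2 hcop
  have : Fact q.Prime := ⟨hqp⟩
  have hLn : (⁅Q, Q⁆ ⊔ pCore p Γ).Normal := inferInstance
  have hLQ : ⁅Q, Q⁆ ⊔ pCore p Γ ≤ Q := sup_le (Subgroup.commutator_le_right Q Q) hHQ
  have hTL : (T : Subgroup Γ) ≤ Subgroup.normalizer ((⁅Q, Q⁆ ⊔ pCore p Γ : Subgroup Γ) : Set Γ) := by
    rw [Subgroup.normalizer_eq_top_iff.2 hLn]; exact le_top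
  rcases eq_or_eq_of_le_normalizer T hT Q hQ2 _ le_sup_right hLQ hTL with h | h
  · rw [← h]; exact le_sup_left
  · -- the image of `Q` in the quotient is a perfect `q`-group, hence trivial
    have hQbar : IsPGroup q (Q.map (QuotientGroup.mk' (pCore p Γ))) := by
      rintro ⟨_, x, hx, rfl⟩
      obtain ⟨j, hj⟩ := hq x hx
      refine ⟨j, ?_⟩
      apply Subtype.ext
      rw [Subgroup.coe_pow, Subgroup.coe_one, ← map_pow]
      exact (QuotientGroup.eq_one_iff _).2 hj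
    have hmap : Q.map (QuotientGroup.mk' (pCore p Γ)) =
        ⁅Q.map (QuotientGroup.mk' (pCore p Γ)), Q.map (QuotientGroup.mk' (pCore p Γ))⁆ := by
      have h1 : (pCore p Γ).map (QuotientGroup.mk' (pCore p Γ)) = ⊥ := by
        rw [Subgroup.map_eq_bot_iff, QuotientGroup.ker_mk']
      conv_lhs => rw [← h, Subgroup.map_sup, Subgroup.map_commutator, h1, sup_bot_eq]
    have hbot := Cfsg.Agent.Lib.helper13.eq_bot_of_le_commutator
      (Q.map (QuotientGroup.mk' (pCore p Γ))) (Q.map (QuotientGroup.mk' (pCore p Γ)))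
      (Q.map (QuotientGroup.mk' (pCore p Γ))) hQbar Subgroup.le_normalizer
      (by
        intro a ha
        obtain ⟨k, hk⟩ := hQbar ⟨a, ha⟩
        refine ⟨k, ?_⟩
        have h3 := congrArg Subtype.val hk
        rw [Subgroup.coe_pow, Subgroup.coe_one] at h3
        rw [h3]; exact Subgroup.one_mem _)
      le_rfl hmap.le
    rw [Subgroup.map_eq_bot_iff, QuotientGroup.ker_mk'] at hbot
    exact (Subgroup.commutator_le_right Q Q).trans hbot

end minconf

/-! ### minimal normal `p`-subgroups -/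

section minimal

variable {G : Type*} [Group G] [Finite G] {p : ℕ} [Fact p.Prime]

/-- A minimal normal `p`-subgroup is centralized by every normal subgroup acting on it as a `p`-group. -/
theorem minimal_normal_centralized (M : Subgroup G) [hMn : M.Normal] (hMp : IsPGroup p M)
    (hMmin : ∀ L : Subgroup G, L.Normal → L ≤ M → L = ⊥ ∨ L = M)
    (D : Subgroup G) [hDn : D.Normal]
    (hp : ∀ d ∈ D, ∃ k : ℕ, d ^ (p ^ k) ∈ Subgroup.centralizer (M : Set G)) :
    D ≤ Subgroup.centralizer (M : Set G) := by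
  have hXn : (⁅M, D⁆ : Subgroup G).Normal := inferInstance
  have hXM : ⁅M, D⁆ ≤ M := Subgroup.commutator_le_left M D
  have hbot : ⁅M, D⁆ = ⊥ := by
    rcases hMmin _ hXn hXM with h | h
    · exact h
    · have hM := Cfsg.Agent.Lib.helper13.eq_bot_of_le_commutator M D M hMp
        (by rw [Subgroup.normalizer_eq_top_iff.2 hMn]; exact le_top) hp le_rfl h.ge
      rw [h, hM]
  rw [Subgroup.commutator_comm] at hbot
  exact Subgroup.commutator_eq_bot_iff_le_centralizer.1 hbot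

theorem minimal_normal_comm (M : Subgroup G) [hMn : M.Normal] (hMp : IsPGroup p M)
    (hMmin : ∀ L : Subgroup G, L.Normal → L ≤ M → L = ⊥ ∨ L = M) :
    ∀ a ∈ M, ∀ b ∈ M, a * b = b * a := by
  have h := minimal_normal_centralized M hMp hMmin M (by
    intro d hd
    obtain ⟨k, hk⟩ := hMp ⟨d, hd⟩
    refine ⟨k, ?_⟩
    have h3 := congrArg Subtype.val hk
    rw [Subgroup.coe_pow, Subgroup.coe_one] at h3
    rw [h3]; exact Subgroup.one_mem _)
  intro a ha b hb
  exact Subgroup.mem_centralizer_iff.1 (h hb) a ha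

theorem minimal_normal_exp (M : Subgroup G) [hMn : M.Normal] (hMp : IsPGroup p M)
    (hMmin : ∀ L : Subgroup G, L.Normal → L ≤ M → L = ⊥ ∨ L = M) :
    ∀ m ∈ M, m ^ p = 1 := by
  have hcomm := minimal_normal_comm M hMp hMmin
  let Ω : Subgroup G :=
    { carrier := {m | m ∈ M ∧ m ^ p = 1}
      one_mem' := ⟨M.one_mem, one_pow p⟩
      mul_mem' := by
        rintro a b ⟨ha, ha'⟩ ⟨hb, hb'⟩
        refine ⟨M.mul_mem ha hb, ?_⟩
        rw [(show Commute a b from hcomm a ha b hb).mul_pow, ha', hb', one_mul]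
      inv_mem' := by
        rintro a ⟨ha, ha'⟩
        exact ⟨M.inv_mem ha, by rw [inv_pow, ha', inv_one]⟩ }
  have hΩn : Ω.Normal := by
    constructor
    rintro n ⟨hn, hn'⟩ g
    exact ⟨hMn.conj_mem n hn g, by rw [conj_pow, hn', mul_one, mul_inv_cancel]⟩
  have hΩM : Ω ≤ M := fun m hm => hm.1
  by_cases hM : M = ⊥
  · intro m hm
    rw [hM, Subgroup.mem_bot] at hm
    rw [hm, one_pow]
  rcases hMmin Ω hΩn hΩM with h | h
  · exfalso
    have hcard : p ∣ Nat.card M := by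
      have h1 : Nat.card M ≠ 1 := fun h => hM (Subgroup.card_eq_one.1 h)
      exact (hMp.card_eq_or_dvd).resolve_left h1
    obtain ⟨y, hy⟩ := exists_prime_orderOf_dvd_card' p hcard
    have hy0 : orderOf (y : G) = p := by rw [Subgroup.orderOf_coe]; exact hy
    have hy1 : (y : G) ∈ Ω := ⟨y.2, by rw [← hy0]; exact pow_orderOf_eq_one _⟩
    rw [h, Subgroup.mem_bot] at hy1
    rw [hy1, orderOf_one] at hy0
    exact (Fact.out : p.Prime).ne_one hy0.symm
  · intro m hm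
    have h1 : m ∈ Ω := h ▸ hm
    exact h1.2

end minimal

end Cfsg.Agent.Lib.helper40
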