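import Mathlib
import Cfsg.Agent.Lib.helper3.GfDefs

/-!
# S4395 (helper3 split): a model for an irreducible `(V, T)`

`h40_irr_model`: if `Irr p q T` then `V` is, as a group with operator `T`, the field
`AdjoinRoot g` with multiplication by `root g`, for an irreducible factor `g` of the `q`-th
cyclotomic polynomial over `ZMod p`.
-/

set_option autoImplicit false

namespace Cfsg.Agent.Lib.helper3.Gf

open Polynomial

theorem h40_irr_model (p q : ℕ) [Fact p.Prime] [Fact q.Prime] (hpq : p ≠ q) {V : Type*}
    [AddCommGroup V] [Finite V] (T : V ≃+ V) (h : Irr p q T) :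
    ∃ g : (ZMod p)[X], Irreducible g ∧ g ∣ cyclotomic q (ZMod p) ∧
      ∃ e : AdjoinRoot g ≃+ V, ∀ x, e (AdjoinRoot.root g * x) = T (e x) := by
  have inst : Module (ZMod p) V := AddCommGroup.zmodModule h.exp
  obtain ⟨Tl, hTl⟩ : ∃ Tl : V →ₗ[ZMod p] V, ∀ v, Tl v = T v :=
    ⟨T.toAddMonoidHom.toZModLinearMap p, fun v => rfl⟩
  have hint : IsIntegral (ZMod p) Tl := Algebra.IsIntegral.isIntegral Tl
  obtain ⟨g, hg⟩ : ∃ g : (ZMod p)[X], g = minpoly (ZMod p) Tl := ⟨_, rfl⟩
  have hg0 : g ≠ 0 := by rw [hg]; exact minpoly.ne_zero hint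
  have hgT : aeval Tl g = 0 := by rw [hg]; exact minpoly.aeval _ _
  have hdvd : ∀ f : (ZMod p)[X], aeval Tl f = 0 → g ∣ f := by
    intro f hf; rw [hg]; exact minpoly.dvd _ _ hf
  -- polynomials in `Tl` commute with `T`
  have hcomm : ∀ (f : (ZMod p)[X]) (v : V), T (aeval Tl f v) = aeval Tl f (T v) := by
    intro f v
    have h1 : Tl * aeval Tl f = aeval Tl f * Tl := by
      have h2 : aeval Tl (X * f) = aeval Tl (f * X) := by rw [mul_comm]
      rw [map_mul, map_mul, aeval_X] at h2
      exact h2
    have h3 := congrArg (fun φ : Module.End (ZMod p) V => φ v) h1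
    simp only [Module.End.mul_apply] at h3
    rw [← hTl, ← hTl]
    exact h3
  -- invariant ranges
  have hrange : ∀ f : (ZMod p)[X], aeval Tl f = 0 ∨ Function.Surjective (aeval Tl f) := by
    intro f
    rcases h.irr (LinearMap.range (aeval Tl f)).toAddSubgroup (by
      rintro w ⟨v, rfl⟩
      exact ⟨T v, (hcomm f v).symm⟩) with h1 | h1
    · left
      ext v
      have h2 : aeval Tl f v ∈ (LinearMap.range (aeval Tl f)).toAddSubgroup := ⟨v, rfl⟩
      rw [h1] at h2
      simpa using h2
    · right
      intro w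
      have h2 : w ∈ (LinearMap.range (aeval Tl f)).toAddSubgroup := by rw [h1]; trivial
      exact h2
  -- `g` is irreducible
  have hirr : Irreducible g := by
    rw [irreducible_iff]
    refine ⟨?_, ?_⟩
    · intro hu
      obtain ⟨c, hc⟩ := isUnit_iff_dvd_one.mp hu
      have h1 : aeval Tl (1 : (ZMod p)[X]) = 0 := by rw [hc, map_mul, hgT, zero_mul]
      rw [map_one] at h1
      obtain ⟨v, hv⟩ := h.ne
      apply hv
      have h2 : (1 : Module.End (ZMod p) V) v = (1 : Module.End (ZMod p) V) (T v) := by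
        rw [h1]; rfl
      exact h2.symm
    intro a b hab
    have hab0 : aeval Tl a * aeval Tl b = 0 := by rw [← map_mul, ← hab, hgT]
    have ha0 : a ≠ 0 := by rintro rfl; rw [zero_mul] at hab; exact hg0 hab
    have hb0 : b ≠ 0 := by rintro rfl; rw [mul_zero] at hab; exact hg0 hab
    rcases hrange b with hb | hb
    · left
      obtain ⟨c, hc⟩ := hdvd b hb
      have h1 : b * (1 - a * c) = 0 := by
        have : b = a * b * c := by rw [← hab]; exact hc
        linear_combination this
      rcases mul_eq_zero.mp h1 with h2 | h2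
      · exact absurd h2 hb0
      · exact IsUnit.of_mul_eq_one c (by linear_combination -h2)
    · right
      have ha : aeval Tl a = 0 := by
        ext w
        obtain ⟨v, rfl⟩ := hb w
        have := congrArg (fun φ : Module.End (ZMod p) V => φ v) hab0
        simpa using this
      obtain ⟨c, hc⟩ := hdvd a ha
      have h1 : a * (1 - b * c) = 0 := by
        have : a = a * b * c := by rw [← hab]; exact hc
        linear_combination this
      rcases mul_eq_zero.mp h1 with h2 | h2
      · exact absurd h2 ha0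
      · exact IsUnit.of_mul_eq_one c (by linear_combination -h2)
  -- `g` divides the cyclotomic polynomial
  have hcyc : g ∣ cyclotomic q (ZMod p) := by
    have hpowq : Tl ^ q = 1 := by
      ext v
      rw [Module.End.pow_apply, Module.End.one_apply]
      have h1 : ∀ (k : ℕ) (w : V), (⇑Tl)^[k] w = (⇑T)^[k] w := by
        intro k
        induction k with
        | zero => intro w; rfl
        | succ k ih => intro w; rw [Function.iterate_succ_apply, Function.iterate_succ_apply, hTl, ih]
      rw [h1]
      exact h.pow v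
    have h1 : g ∣ cyclotomic q (ZMod p) * (X - 1) := by
      rw [cyclotomic_prime_mul_X_sub_one]
      apply hdvd
      rw [map_sub, map_pow, aeval_X, map_one, hpowq, sub_self]
    rcases hirr.prime.dvd_or_dvd h1 with h2 | h2
    · exact h2
    · exfalso
      obtain ⟨c, hc⟩ := h2
      have h3 : aeval Tl (X - 1 : (ZMod p)[X]) = 0 := by rw [hc, map_mul, hgT, zero_mul]
      rw [map_sub, aeval_X, map_one] at h3
      obtain ⟨v, hv⟩ := h.ne
      apply hv
      rw [← hTl, sub_eq_zero.mp h3, Module.End.one_apply]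
  refine ⟨g, hirr, hcyc, ?_⟩
  haveI : Fact (Irreducible g) := ⟨hirr⟩
  -- the map
  obtain ⟨v₀, hv₀⟩ := h.ne
  have hv₀0 : v₀ ≠ 0 := by
    rintro rfl
    apply hv₀
    rw [map_zero]
  obtain ⟨L, hL⟩ : ∃ L : AdjoinRoot g →+* Module.End (ZMod p) V,
      ∀ f : (ZMod p)[X], L (AdjoinRoot.mk g f) = aeval Tl f :=
    ⟨Ideal.Quotient.lift (Ideal.span {g}) (aeval Tl : (ZMod p)[X] →ₐ[ZMod p] _).toRingHom (by
        intro a ha
        obtain ⟨c, rfl⟩ := Ideal.mem_span_singleton.mp ha
        show aeval Tl (g * c) = 0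
        rw [map_mul, hgT, zero_mul]), fun f => rfl⟩
  have hLroot : L (AdjoinRoot.root g) = Tl := by
    have h1 : AdjoinRoot.root g = AdjoinRoot.mk g X := rfl
    rw [h1, hL, aeval_X]
  obtain ⟨ε, hε⟩ : ∃ ε : AdjoinRoot g →+ V, ∀ x, ε x = L x v₀ :=
    ⟨{ toFun := fun x => L x v₀
       map_zero' := by simp
       map_add' := by intro x y; simp }, fun x => rfl⟩
  have hεT : ∀ x, ε (AdjoinRoot.root g * x) = T (ε x) := by
    intro x
    rw [hε, hε, map_mul, hLroot, Module.End.mul_apply, hTl]
  have hinj : Function.Injective ε := by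
    rw [injective_iff_map_eq_zero]
    intro x hx
    by_contra hx0
    rw [hε] at hx
    have h1 : L x⁻¹ (L x v₀) = v₀ := by
      rw [← Module.End.mul_apply, ← map_mul, inv_mul_cancel₀ hx0, map_one, Module.End.one_apply]
    rw [hx, map_zero] at h1
    exact hv₀0 h1.symm
  have hsurj : Function.Surjective ε := by
    rcases h.irr ε.range (by
      rintro w ⟨x, rfl⟩
      exact ⟨AdjoinRoot.root g * x, hεT x⟩) with h1 | h1
    · exfalso
      have h2 : ε 1 ∈ ε.range := ⟨1, rfl⟩
      rw [h1, AddSubgroup.mem_bot, hε, map_one, Module.End.one_apply] at h2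
      exact hv₀0 h2
    · intro w
      have h2 : w ∈ ε.range := by rw [h1]; trivial
      exact h2
  exact ⟨AddEquiv.ofBijective ε ⟨hinj, hsurj⟩, hεT⟩

end Cfsg.Agent.Lib.helper3.Gf
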