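import Mathlib
import Cfsg.Agent.Lib.helper40.GfIRRcore

/-!
# S4395 piece IRRDIM: an irreducible `(V, T)` has `p ^ orderOf (p : ZMod q)` elements

`h40_irr_card` has the verbatim skeleton statement of `irr_card` (racer copy, prefixed name).
-/

set_option autoImplicit false

namespace Cfsg.Agent.Lib.helper3.Gf

open Polynomial

/-- the degree of an irreducible factor of the `q`-th cyclotomic polynomial over `ZMod p` -/
theorem h40_natDegree_cyc (p q : ℕ) [Fact p.Prime] [Fact q.Prime] (hpq : p ≠ q)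
    (g : (ZMod p)[X]) (hirr : Irreducible g) (hcyc : g ∣ cyclotomic q (ZMod p)) :
    g.natDegree = orderOf (p : ZMod q) := by
  have hp : p.Prime := Fact.out
  have hq : q.Prime := Fact.out
  have hcop : p.Coprime q := (Nat.coprime_primes hp hq).mpr hpq
  have h1 := natDegree_of_dvd_cyclotomic_of_irreducible (K := ZMod p) (p := p) (f := 1) (n := q)
    (by rw [ZMod.card, pow_one]) hcop hcyc hirr
  rw [h1, ← orderOf_units, ZMod.coe_unitOfCoprime]
  simp

/-- IRRDIM -/
theorem h40_irr_card (p q : ℕ) [Fact p.Prime] [Fact q.Prime] (hpq : p ≠ q) {V : Type*}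
    [AddCommGroup V] [Finite V]
    (T : V ≃+ V) (h : Irr p q T) : Nat.card V = p ^ orderOf (p : ZMod q) := by
  obtain ⟨g, hirr, hcyc, e, _⟩ := h40_irr_model p q hpq T h
  rw [← h40_natDegree_cyc p q hpq g hirr hcyc, ← Nat.card_congr e.toEquiv]
  have pb := AdjoinRoot.powerBasis hirr.ne_zero
  have hdim : (AdjoinRoot.powerBasis hirr.ne_zero).dim = g.natDegree :=
    AdjoinRoot.powerBasis_dim hirr.ne_zero
  rw [Nat.card_congr (AdjoinRoot.powerBasis hirr.ne_zero).basis.equivFun.toEquiv, Nat.card_fun,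
    Nat.card_zmod, Nat.card_fin, hdim]

end Cfsg.Agent.Lib.helper3.Gf
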