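import Mathlib
import Cfsg.Agent.Lib.helper40.GfIRRDIM

/-!
# S4395 piece IRRMATCH: two irreducible `(V, T)` are isomorphic up to a power of the operator

`h40_irr_match` has the verbatim skeleton statement of `irr_match` (racer copy, prefixed name).
-/

set_option autoImplicit false

namespace Cfsg.Agent.Lib.helper3.Gf

open Polynomial

/-- in the model, the root has order `q` -/
theorem h40_model_root (p q : ℕ) [Fact p.Prime] [Fact q.Prime] {V : Type*}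
    [AddCommGroup V] (T : V ≃+ V) (h : Irr p q T) (g : (ZMod p)[X])
    (e : AdjoinRoot g ≃+ V) (he : ∀ x, e (AdjoinRoot.root g * x) = T (e x)) :
    (∀ (k : ℕ) (y : AdjoinRoot g), e (AdjoinRoot.root g ^ k * y) = (⇑T)^[k] (e y)) ∧
      AdjoinRoot.root g ^ q = 1 ∧ AdjoinRoot.root g ≠ 1 := by
  have hiter : ∀ (k : ℕ) (y : AdjoinRoot g), e (AdjoinRoot.root g ^ k * y) = (⇑T)^[k] (e y) := by
    intro k
    induction k with
    | zero => intro y; simp
    | succ k ih =>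
      intro y
      rw [pow_succ', mul_assoc, he, ih, Function.iterate_succ_apply']
  refine ⟨hiter, ?_, ?_⟩
  · have h1 := hiter q 1
    rw [h.pow, mul_one] at h1
    exact e.injective h1
  · intro h1
    obtain ⟨v, hv⟩ := h.ne
    apply hv
    have h2 := he (e.symm v)
    rw [h1, one_mul, AddEquiv.apply_symm_apply] at h2
    exact h2.symm

/-- IRRMATCH -/
theorem h40_irr_match (p q : ℕ) [Fact p.Prime] [Fact q.Prime] (hpq : p ≠ q) {V₁ V₂ : Type*}
    [AddCommGroup V₁] [Finite V₁] [AddCommGroup V₂] [Finite V₂]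
    (T₁ : V₁ ≃+ V₁) (T₂ : V₂ ≃+ V₂) (h₁ : Irr p q T₁) (h₂ : Irr p q T₂) :
    ∃ (m : ℕ) (ψ : V₁ ≃+ V₂), ¬ q ∣ m ∧ ∀ v : V₁, ψ (T₁ v) = (⇑T₂)^[m] (ψ v) := by
  classical
  have hq : q.Prime := Fact.out
  obtain ⟨g₁, hi₁, hc₁, e₁, he₁⟩ := h40_irr_model p q hpq T₁ h₁
  obtain ⟨g₂, hi₂, hc₂, e₂, he₂⟩ := h40_irr_model p q hpq T₂ h₂
  haveI : Fact (Irreducible g₁) := ⟨hi₁⟩
  haveI : Fact (Irreducible g₂) := ⟨hi₂⟩
  haveI : Finite (AdjoinRoot g₁) := Finite.of_equiv V₁ e₁.symm.toEquiv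
  haveI : Finite (AdjoinRoot g₂) := Finite.of_equiv V₂ e₂.symm.toEquiv
  letI : Fintype (AdjoinRoot g₁) := Fintype.ofFinite _
  letI : Fintype (AdjoinRoot g₂) := Fintype.ofFinite _
  have hcard : Fintype.card (AdjoinRoot g₁) = Fintype.card (AdjoinRoot g₂) := by
    rw [← Nat.card_eq_fintype_card, ← Nat.card_eq_fintype_card, Nat.card_congr e₁.toEquiv,
      Nat.card_congr e₂.toEquiv, h40_irr_card p q hpq T₁ h₁, h40_irr_card p q hpq T₂ h₂]
  obtain ⟨ι⟩ : Nonempty (AdjoinRoot g₁ ≃+* AdjoinRoot g₂) :=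
    ⟨FiniteField.ringEquivOfCardEq hcard⟩
  obtain ⟨hit₁, hpow₁, hne₁⟩ := h40_model_root p q T₁ h₁ g₁ e₁ he₁
  obtain ⟨hit₂, hpow₂, hne₂⟩ := h40_model_root p q T₂ h₂ g₂ e₂ he₂
  have hprim : IsPrimitiveRoot (AdjoinRoot.root g₂) q := by
    have h1 := IsPrimitiveRoot.orderOf (AdjoinRoot.root g₂)
    rw [orderOf_eq_prime hpow₂ hne₂] at h1
    exact h1
  haveI : NeZero q := ⟨hq.ne_zero⟩
  have hα : ι (AdjoinRoot.root g₁) ^ q = 1 := by
    rw [← map_pow, hpow₁, map_one]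
  obtain ⟨m, hmq, hm⟩ := hprim.eq_pow_of_pow_eq_one hα
  have hm0 : m ≠ 0 := by
    rintro rfl
    rw [pow_zero] at hm
    apply hne₁
    apply ι.injective
    rw [← hm, map_one]
  refine ⟨m, e₁.symm.trans (ι.toAddEquiv.trans e₂), ?_, ?_⟩
  · intro hd
    have := Nat.le_of_dvd (Nat.pos_of_ne_zero hm0) hd
    omega
  · intro v
    have h1 : e₁.symm (T₁ v) = AdjoinRoot.root g₁ * e₁.symm v := by
      apply e₁.injective
      rw [he₁, AddEquiv.apply_symm_apply, AddEquiv.apply_symm_apply]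
    show e₂ (ι (e₁.symm (T₁ v))) = (⇑T₂)^[m] (e₂ (ι (e₁.symm v)))
    rw [h1, map_mul, ← hm, hit₂]

end Cfsg.Agent.Lib.helper3.Gf
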