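import Mathlib

/-! S4504 split (helper2), piece Q: `center_preg`. -/

set_option autoImplicit false

namespace Cfsg.Agent.Lib.helper2.BG

variable {G : Type*} [Group G] [Fintype G]

omit [Fintype G] in
/-- A `p`-element centralizing a Sylow `p`-subgroup lies in it. -/
theorem helper40_mem_sylow_of_mem_centralizer (p : ℕ) [Fact p.Prime] (P : Sylow p G)
    (u : G) (hu : u ∈ Subgroup.centralizer ((P : Subgroup G) : Set G)) (k : ℕ)
    (huo : u ^ p ^ k = 1) : u ∈ (P : Subgroup G) := by
  have h1 : IsPGroup p (Subgroup.zpowers u) := by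
    rintro ⟨y, hy⟩
    obtain ⟨j, rfl⟩ := Subgroup.mem_zpowers_iff.mp hy
    refine ⟨k, Subtype.ext ?_⟩
    show (u ^ j) ^ p ^ k = 1
    rw [← zpow_natCast, ← zpow_mul, mul_comm, zpow_mul, zpow_natCast, huo, one_zpow]
  have h2 : Subgroup.zpowers u ≤ Subgroup.normalizer ((P : Subgroup G) : Set G) := by
    rw [Subgroup.zpowers_le]
    exact Subgroup.centralizer_le_normalizer _ hu
  have h3 := IsPGroup.to_sup_of_normal_right' h1 P.2 h2
  have h4 := P.is_maximal' h3 le_sup_right
  have h5 : u ∈ Subgroup.zpowers u ⊔ (P : Subgroup G) :=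
    Subgroup.mem_sup_left (Subgroup.mem_zpowers u)
  rw [h4] at h5
  exact h5

/-- Q. -/
theorem center_preg (p : ℕ) [Fact p.Prime] (P : Sylow p G) (hP : Nat.card P = p)
    (x : G) (hx : x ∈ (P : Subgroup G)) (hx1 : x ≠ 1) (hxc : x ∉ Subgroup.center G) :
    ∀ z ∈ Subgroup.center G, ¬ p ∣ orderOf z := by
  have hp : p.Prime := Fact.out
  intro z hz hdvd
  -- a central element `w` of order `p`
  have hzpos : 0 < orderOf z := orderOf_pos z
  have hw : orderOf (z ^ (orderOf z / p)) = p := orderOf_pow_orderOf_div hzpos.ne' hdvd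
  have hwc : z ^ (orderOf z / p) ∈ Subgroup.center G := Subgroup.pow_mem _ hz _
  have hwC : z ^ (orderOf z / p) ∈ Subgroup.centralizer ((P : Subgroup G) : Set G) := by
    rw [Subgroup.mem_centralizer_iff]
    intro h _
    exact (Subgroup.mem_center_iff.mp hwc h)
  have hwP : z ^ (orderOf z / p) ∈ (P : Subgroup G) := by
    apply helper40_mem_sylow_of_mem_centralizer p P _ hwC 1
    have h6 := pow_orderOf_eq_one (z ^ (orderOf z / p))
    rw [hw] at h6
    rw [Nat.pow_one]
    exact h6
  -- `P` is generated by `w`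
  have hle : Subgroup.zpowers (z ^ (orderOf z / p)) ≤ (P : Subgroup G) := by
    rw [Subgroup.zpowers_le]
    exact hwP
  have hcard : Nat.card (Subgroup.zpowers (z ^ (orderOf z / p))) = p := by
    rw [Nat.card_zpowers, hw]
  have heq : Subgroup.zpowers (z ^ (orderOf z / p)) = (P : Subgroup G) := by
    apply Subgroup.eq_of_le_of_card_ge hle
    rw [hcard]
    exact le_of_eq hP
  apply hxc
  rw [← heq] at hx
  obtain ⟨j, rfl⟩ := Subgroup.mem_zpowers_iff.mp hx
  exact Subgroup.zpow_mem _ hwc j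

end Cfsg.Agent.Lib.helper2.BG
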