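import Mathlib
import Cfsg.Agent.Lib.helper40.BGQ

/-! S4504 split (helper2), piece O00: `card_centralizer`. -/

set_option autoImplicit false

namespace Cfsg.Agent.Lib.helper2.BG

variable {G : Type*} [Group G] [Fintype G]

/-- O00 (`C(P) = P × Z(G)`). -/
theorem card_centralizer (p : ℕ) [Fact p.Prime] (P : Sylow p G) (hP : Nat.card P = p)
    (hK : ∀ k ∈ Subgroup.centralizer ((P : Subgroup G) : Set G), ¬ p ∣ orderOf k →
      k ∈ Subgroup.center G)
    (hZ : ∀ z ∈ Subgroup.center G, ¬ p ∣ orderOf z) :
    Nat.card (Subgroup.centralizer ((P : Subgroup G) : Set G)) =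
      p * Nat.card (Subgroup.center G) ∧
    ∀ k : G, (k ∈ Subgroup.centralizer ((P : Subgroup G) : Set G) ∧ ¬ p ∣ orderOf k) ↔
      k ∈ Subgroup.center G := by
  have hp : p.Prime := Fact.out
  have hZC : Subgroup.center G ≤ Subgroup.centralizer ((P : Subgroup G) : Set G) :=
    Subgroup.center_le_centralizer _
  -- `P` is abelian
  have hcyc : IsCyclic ↥(P : Subgroup G) := isCyclic_of_prime_card hP
  have hPC : (P : Subgroup G) ≤ Subgroup.centralizer ((P : Subgroup G) : Set G) := by
    intro u hu
    rw [Subgroup.mem_centralizer_iff]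
    intro h hh
    have h0 := (isMulCommutative_iff.mp (IsCyclic.isMulCommutative (α := ↥(P : Subgroup G))))
      ⟨h, hh⟩ ⟨u, hu⟩
    exact congrArg Subtype.val h0
  -- `P ∩ Z = 1`
  have hPZ : ∀ w : G, w ∈ (P : Subgroup G) → w ∈ Subgroup.center G → w = 1 := by
    intro w hwP hwZ
    by_contra hw1
    have h1 : orderOf w ∣ p := by
      have h0 := Subgroup.orderOf_dvd_natCard (P : Subgroup G) hwP
      rwa [hP] at h0
    rcases (Nat.dvd_prime hp).mp h1 with h | h
    · exact hw1 (orderOf_eq_one_iff.mp h)
    · exact hZ w hwZ (by rw [h])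
  refine ⟨?_, ?_⟩
  · -- the bijection `P × Z → C`
    have hmem : ∀ a : ↥(P : Subgroup G) × ↥(Subgroup.center G),
        (a.1 : G) * (a.2 : G) ∈ Subgroup.centralizer ((P : Subgroup G) : Set G) :=
      fun a => mul_mem (hPC a.1.2) (hZC a.2.2)
    have hbij : Function.Bijective (fun a : ↥(P : Subgroup G) × ↥(Subgroup.center G) =>
        (⟨(a.1 : G) * (a.2 : G), hmem a⟩ :
          ↥(Subgroup.centralizer ((P : Subgroup G) : Set G)))) := by
      constructor
      · rintro ⟨u, z⟩ ⟨u', z'⟩ h
        have h1 : (u : G) * (z : G) = (u' : G) * (z' : G) := congrArg Subtype.val h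
        have h2 : (u' : G)⁻¹ * (u : G) = (z' : G) * (z : G)⁻¹ := by
          rw [inv_mul_eq_iff_eq_mul, ← mul_assoc, ← h1, mul_assoc, mul_inv_cancel, mul_one]
        have h3 : (u' : G)⁻¹ * (u : G) = 1 :=
          hPZ _ (mul_mem (inv_mem u'.2) u.2) (by rw [h2]; exact mul_mem z'.2 (inv_mem z.2))
        have h4 : (u : G) = (u' : G) := by
          rw [inv_mul_eq_one] at h3
          exact h3.symm
        have h5 : (z : G) = (z' : G) := by
          rw [h4] at h1
          exact mul_left_cancel h1
        exact Prod.ext (Subtype.ext h4) (Subtype.ext h5)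
      · rintro ⟨k, hk⟩
        have hn0 : orderOf k ≠ 0 := (orderOf_pos k).ne'
        have hAm : p ^ (orderOf k).factorization p * (orderOf k / p ^ (orderOf k).factorization p)
            = orderOf k := Nat.ordProj_mul_ordCompl_eq_self (orderOf k) p
        have hv : ¬ p ∣ orderOf (k ^ (p ^ (orderOf k).factorization p)) := by
          have h0 : orderOf (k ^ (p ^ (orderOf k).factorization p)) =
              orderOf k / p ^ (orderOf k).factorization p :=
            orderOf_pow_of_dvd (pow_ne_zero _ hp.ne_zero) (Nat.ordProj_dvd (orderOf k) p)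
          rw [h0]
          exact Nat.not_dvd_ordCompl hp hn0
        have hvZ : k ^ (p ^ (orderOf k).factorization p) ∈ Subgroup.center G :=
          hK _ (pow_mem hk _) hv
        have huP : k ^ (orderOf k / p ^ (orderOf k).factorization p) ∈ (P : Subgroup G) := by
          apply helper40_mem_sylow_of_mem_centralizer p P _ (pow_mem hk _)
            ((orderOf k).factorization p)
          rw [← pow_mul, mul_comm, hAm]
          exact pow_orderOf_eq_one k
        have hcop : Nat.Coprime (p ^ (orderOf k).factorization p)
            (orderOf k / p ^ (orderOf k).factorization p) :=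
          (Nat.coprime_ordCompl hp hn0).pow_left _
        have hbez := Int.gcd_eq_gcd_ab ((p ^ (orderOf k).factorization p : ℕ) : ℤ)
          ((orderOf k / p ^ (orderOf k).factorization p : ℕ) : ℤ)
        rw [Int.gcd_natCast_natCast, hcop.gcd_eq_one] at hbez
        have hk' : k = (k ^ (orderOf k / p ^ (orderOf k).factorization p)) ^
              (Int.gcdB ((p ^ (orderOf k).factorization p : ℕ) : ℤ)
                ((orderOf k / p ^ (orderOf k).factorization p : ℕ) : ℤ)) *
            (k ^ (p ^ (orderOf k).factorization p)) ^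
              (Int.gcdA ((p ^ (orderOf k).factorization p : ℕ) : ℤ)
                ((orderOf k / p ^ (orderOf k).factorization p : ℕ) : ℤ)) := by
          rw [← zpow_natCast k (orderOf k / p ^ (orderOf k).factorization p),
            ← zpow_natCast k (p ^ (orderOf k).factorization p), ← zpow_mul, ← zpow_mul,
            ← zpow_add]
          have h0 : ((orderOf k / p ^ (orderOf k).factorization p : ℕ) : ℤ) *
                (Int.gcdB ((p ^ (orderOf k).factorization p : ℕ) : ℤ)
                  ((orderOf k / p ^ (orderOf k).factorization p : ℕ) : ℤ)) +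
              ((p ^ (orderOf k).factorization p : ℕ) : ℤ) *
                (Int.gcdA ((p ^ (orderOf k).factorization p : ℕ) : ℤ)
                  ((orderOf k / p ^ (orderOf k).factorization p : ℕ) : ℤ)) = 1 := by
            rw [add_comm]
            exact_mod_cast hbez.symm
          rw [h0, zpow_one]
        refine ⟨(⟨_, Subgroup.zpow_mem _ huP
            (Int.gcdB ((p ^ (orderOf k).factorization p : ℕ) : ℤ)
              ((orderOf k / p ^ (orderOf k).factorization p : ℕ) : ℤ))⟩,
          ⟨_, Subgroup.zpow_mem _ hvZ
            (Int.gcdA ((p ^ (orderOf k).factorization p : ℕ) : ℤ)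
              ((orderOf k / p ^ (orderOf k).factorization p : ℕ) : ℤ))⟩), ?_⟩
        exact Subtype.ext hk'.symm
    rw [← Nat.card_congr (Equiv.ofBijective _ hbij), Nat.card_prod, hP]
  · intro k
    constructor
    · rintro ⟨h1, h2⟩
      exact hK k h1 h2
    · intro h
      exact ⟨hZC h, hZ k h⟩

end Cfsg.Agent.Lib.helper2.BG
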