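import Mathlib
import Cfsg.Prelude.Def_Classical

/-!
# S5977/S5978 block C, piece N1P: the number of vectors with `Σ xᵢ yᵢ = 1`

`qfc_count_plus` has the verbatim skeleton statement. The auxiliary lemma
`h40_hyperplane_card` (an affine hyperplane of `F^d` has `q^(d-1)` points) is reusable for N1M.
-/

set_option autoImplicit false

namespace Cfsg.Agent.Lib.helper2

open Matrix

/-- an affine hyperplane `{y | Σ xᵢ yᵢ = c}` (`x ≠ 0`) of `F^d` has `q^(d-1)` points -/
theorem h40_hyperplane_card {F : Type*} [Field F] [Fintype F] (d : ℕ) (x : Fin d → F)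
    (hx : x ≠ 0) (c : F) :
    Nat.card {y : Fin d → F // ∑ i, x i * y i = c} = Fintype.card F ^ (d - 1) := by
  classical
  let φ : (Fin d → F) →ₗ[F] F := ∑ i, x i • LinearMap.proj i
  have hφ : ∀ y, φ y = ∑ i, x i * y i := by
    intro y
    simp [φ, LinearMap.sum_apply]
  obtain ⟨i0, hi0⟩ : ∃ i0, x i0 ≠ 0 := by
    by_contra hcon
    apply hx
    funext i
    by_contra h2
    exact hcon ⟨i, h2⟩
  have hsurj : Function.Surjective φ := by
    intro t
    refine ⟨Pi.single i0 (t / x i0), ?_⟩
    rw [hφ, Finset.sum_eq_single i0]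
    · rw [Pi.single_eq_same]
      field_simp
    · intro j _ hj
      rw [Pi.single_eq_of_ne hj, mul_zero]
    · intro h
      exact absurd (Finset.mem_univ _) h
  obtain ⟨y0, hy0⟩ := hsurj c
  let e : {y : Fin d → F // φ y = c} ≃ LinearMap.ker φ :=
    { toFun := fun y => ⟨y.1 - y0, by rw [LinearMap.mem_ker, map_sub, y.2, hy0, sub_self]⟩
      invFun := fun k => ⟨k.1 + y0, by rw [map_add, LinearMap.mem_ker.1 k.2, zero_add, hy0]⟩
      left_inv := fun y => by simp
      right_inv := fun k => by simp }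
  have h1 : Nat.card {y : Fin d → F // ∑ i, x i * y i = c} = Nat.card (LinearMap.ker φ) := by
    rw [← Nat.card_congr e]
    exact Nat.card_congr (Equiv.subtypeEquivRight (fun y => by rw [hφ]))
  have h2 := LinearMap.finrank_range_add_finrank_ker φ
  rw [LinearMap.range_eq_top.2 hsurj, finrank_top, Module.finrank_self, Module.finrank_fin_fun]
    at h2
  have h3 : Module.finrank F (LinearMap.ker φ) = d - 1 := by omega
  rw [h1, Module.natCard_eq_pow_finrank (K := F), h3, Nat.card_eq_fintype_card]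

/-- N1P -/
theorem qfc_count_plus {F : Type*} [Field F] [Fintype F] (d : ℕ) (hd : 2 ≤ d) :
    Nat.card {v : Fin d ⊕ Fin d → F // Cfsg.quadFormPlus d F v = 1} =
      Fintype.card F ^ (d - 1) * (Fintype.card F ^ d - 1) := by
  classical
  have e1 : {v : Fin d ⊕ Fin d → F // Cfsg.quadFormPlus d F v = 1} ≃
      {p : (Fin d → F) × (Fin d → F) // ∑ i, p.1 i * p.2 i = 1} :=
    (Equiv.sumArrowEquivProdArrow (Fin d) (Fin d) F).subtypeEquiv (fun v => Iff.rfl)
  have e2 := Equiv.subtypeProdEquivSigmaSubtype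
    (fun (x y : Fin d → F) => ∑ i, x i * y i = 1)
  rw [Nat.card_congr e1, Nat.card_congr e2, Nat.card_sigma]
  have h0 : Nat.card {y : Fin d → F // ∑ i, (0 : Fin d → F) i * y i = 1} = 0 := by
    rw [Nat.card_eq_zero]
    left
    constructor
    rintro ⟨y, hy⟩
    simp at hy
  rw [← Finset.sum_erase Finset.univ
    (f := fun x : Fin d → F => Nat.card {y : Fin d → F // ∑ i, x i * y i = 1}) (a := 0) h0]
  rw [Finset.sum_congr rfl (fun x hx => h40_hyperplane_card d x (Finset.ne_of_mem_erase hx) 1)]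
  rw [Finset.sum_const, smul_eq_mul, Finset.card_erase_of_mem (Finset.mem_univ _),
    Finset.card_univ, Fintype.card_fun, Fintype.card_fin, mul_comm]

end Cfsg.Agent.Lib.helper2
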