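import Mathlib
import Cfsg.Prelude.Def_Characters
import Cfsg.Agent.Lib.helper81.Kernel

/-! S4504 split (helper2), piece D2 (`ker_le_center`), core form: the statement of piece D
(`ker_central`) is an explicit hypothesis `hD`. -/

set_option autoImplicit false
set_option linter.unusedVariables false

open Cfsg
open scoped ComplexConjugate

namespace Cfsg.Agent.Lib.helper2.BG

variable {G : Type*} [Group G] [Fintype G]

/-- D2 (core): from the conclusion of D for all normal subgroups avoiding `x`. -/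
theorem helper40_ker_le_center_core (p : ℕ) [Fact p.Prime] (P : Sylow p G) (hP : Nat.card P = p)
    (x : G) (hx : x ∈ (P : Subgroup G)) (hx1 : x ≠ 1)
    (hgen : Subgroup.normalClosure ({x} : Set G) = ⊤)
    (ψ : IrrCharacter G) (hdeg : 2 * charDegree (ψ : G → ℂ) + 1 ≤ p)
    (hfaith : ∀ g : G, (ψ : G → ℂ) g = (ψ : G → ℂ) 1 → g = 1)
    (hns : ‖(ψ : G → ℂ) x‖ ≠ ‖(ψ : G → ℂ) 1‖)
    (hD : ∀ (L : Subgroup G), L.Normal → x ∉ L →
      ∀ k ∈ L, (ψ : G → ℂ) (x * k * x⁻¹ * k⁻¹) = (ψ : G → ℂ) 1)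
    (ξ : G → ℂ) (hξ : IsCharacter G ξ) (hξx : ξ x ≠ ξ 1) :
    ∀ k : G, ξ k = ξ 1 → k ∈ Subgroup.center G := by
  intro k hk
  have hLn : (Cfsg.Agent.Lib.helper81.charKer ξ hξ).Normal := inferInstance
  have hxL : x ∉ Cfsg.Agent.Lib.helper81.charKer ξ hξ := hξx
  have hkL : k ∈ Cfsg.Agent.Lib.helper81.charKer ξ hξ := hk
  have hcomm : ∀ k' ∈ Cfsg.Agent.Lib.helper81.charKer ξ hξ, x * k' = k' * x := by
    intro k' hk'
    have h1 : x * k' * x⁻¹ * k'⁻¹ = 1 := hfaith _ (hD _ hLn hxL k' hk')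
    calc x * k' = (x * k' * x⁻¹ * k'⁻¹) * (k' * x) := by group
      _ = k' * x := by rw [h1, one_mul]
  have hle : Subgroup.normalClosure ({x} : Set G) ≤ Subgroup.centralizer ({k} : Set G) := by
    unfold Subgroup.normalClosure
    rw [Subgroup.closure_le]
    intro a ha
    obtain ⟨b, hb, hba⟩ := Group.mem_conjugatesOfSet_iff.mp ha
    rw [Set.mem_singleton_iff] at hb
    subst hb
    obtain ⟨c, rfl⟩ := isConj_iff.mp hba
    rw [SetLike.mem_coe, Subgroup.mem_centralizer_iff]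
    intro h hh
    rw [Set.mem_singleton_iff] at hh
    subst hh
    have h2 : c⁻¹ * h * c ∈ Cfsg.Agent.Lib.helper81.charKer ξ hξ := by
      have := hLn.conj_mem h hkL c⁻¹
      simpa using this
    have h3 := hcomm _ h2
    calc h * (c * b * c⁻¹) = c * ((c⁻¹ * h * c) * b) * c⁻¹ := by group
      _ = c * (b * (c⁻¹ * h * c)) * c⁻¹ := by rw [h3]
      _ = c * b * c⁻¹ * h := by group
  rw [hgen] at hle
  rw [Subgroup.mem_center_iff]
  intro g
  have h4 := hle (Subgroup.mem_top g)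
  rw [Subgroup.mem_centralizer_iff] at h4
  exact (h4 k (Set.mem_singleton k)).symm

end Cfsg.Agent.Lib.helper2.BG
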