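import Mathlib
import Cfsg.Agent.Lib.helper97.BFB6a
import Cfsg.Agent.Lib.helper40.BGO00

/-! S4504 split (helper2), piece O0 (`psing_sum`), insurance copy under a prefixed name. -/

set_option autoImplicit false
set_option linter.unusedVariables false

open Cfsg Cfsg.Agent.Lib.helper20.D1E Cfsg.Agent.Lib.helper2.BF
open scoped ComplexConjugate

namespace Cfsg.Agent.Lib.helper2.BG

variable {G : Type*} [Group G] [Fintype G]

/-- O0 (sum of a class function over the `p`-singular elements). -/
theorem helper40_psing_sum (p : ℕ) [Fact p.Prime] (P : Sylow p G) (hP : Nat.card P = p)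
    (x : G) (hx : x ∈ (P : Subgroup G)) (hx1 : x ≠ 1) (H : Subgroup (ZMod p)ˣ)
    (hH : ∀ r : (ZMod p)ˣ, r ∈ H ↔ ∃ n : G, n * x * n⁻¹ = x ^ ((r : ZMod p).val))
    (hHc : Nat.card H = (Subgroup.centralizer ((P : Subgroup G) : Set G)).relIndex
        (Subgroup.normalizer ((P : Subgroup G) : Set G)))
    (hK : ∀ k ∈ Subgroup.centralizer ((P : Subgroup G) : Set G), ¬ p ∣ orderOf k →
      k ∈ Subgroup.center G)
    (hZ : ∀ z ∈ Subgroup.center G, ¬ p ∣ orderOf z)
    (F : G → ℂ) (hF : IsClassFunction G F) (hreg : ∀ g, ¬ p ∣ orderOf g → F g = 0)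
    (hFz : ∀ g z : G, z ∈ Subgroup.center G → F (g * z) = F g) :
    ((p : ℂ) * (Nat.card H : ℂ)) * ∑ g : G, F g =
      (Nat.card G : ℂ) * ∑ u : (ZMod p)ˣ, F (x ^ ((u : ZMod p).val)) := by
  classical
  obtain ⟨hcardC, hmemZ⟩ := card_centralizer p P hP hK hZ
  have hTI := norm_TI p P hP x hx hx1 F hF hreg
  have hcardZ : (Finset.univ.filter (fun k : G => k ∈ Subgroup.center G)).card =
      Nat.card (Subgroup.center G) :=
    (Nat.subtype_card (Finset.univ.filter (fun k : G => k ∈ Subgroup.center G))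
      (by intro k; simp)).symm
  have hinner : ∀ u : (ZMod p)ˣ, ∑ k : G, Set.indicator
        {k : G | k ∈ Subgroup.centralizer ((P : Subgroup G) : Set G) ∧ ¬ p ∣ orderOf k}
        (fun k => F (x ^ (u : ZMod p).val * k)) k =
      (Nat.card (Subgroup.center G) : ℂ) * F (x ^ (u : ZMod p).val) := by
    intro u
    have h1 : ∀ k : G, Set.indicator
        {k : G | k ∈ Subgroup.centralizer ((P : Subgroup G) : Set G) ∧ ¬ p ∣ orderOf k}
        (fun k => F (x ^ (u : ZMod p).val * k)) k =
        if k ∈ Subgroup.center G then F (x ^ (u : ZMod p).val) else 0 := by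
      intro k
      by_cases hk : k ∈ Subgroup.center G
      · rw [if_pos hk, Set.indicator_of_mem (show k ∈ {k : G |
          k ∈ Subgroup.centralizer ((P : Subgroup G) : Set G) ∧ ¬ p ∣ orderOf k} from
          (hmemZ k).mpr hk)]
        exact hFz _ k hk
      · rw [if_neg hk, Set.indicator_of_notMem (show k ∉ {k : G |
          k ∈ Subgroup.centralizer ((P : Subgroup G) : Set G) ∧ ¬ p ∣ orderOf k} from
          fun h => hk ((hmemZ k).mp h))]
    rw [Finset.sum_congr rfl (fun k _ => h1 k), Finset.sum_ite, Finset.sum_const_zero, add_zero,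
      Finset.sum_const, nsmul_eq_mul, hcardZ]
  rw [Finset.sum_congr rfl (fun u _ => hinner u), ← Finset.mul_sum] at hTI
  have hCN : Subgroup.centralizer ((P : Subgroup G) : Set G) ≤
      Subgroup.normalizer ((P : Subgroup G) : Set G) := Subgroup.centralizer_le_normalizer _
  have hN : Nat.card (Subgroup.normalizer ((P : Subgroup G) : Set G)) =
      p * Nat.card (Subgroup.center G) * Nat.card H := by
    have h2 := Subgroup.relIndex_mul_relIndex ⊥ _ _ bot_le hCN
    rw [Subgroup.relIndex_bot_left, Subgroup.relIndex_bot_left, hcardC, ← hHc] at h2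
    exact h2.symm
  rw [hN] at hTI
  have hZ0 : (Nat.card (Subgroup.center G) : ℂ) ≠ 0 := by
    have : 0 < Nat.card (Subgroup.center G) := Nat.card_pos
    exact_mod_cast this.ne'
  have h3 : (Nat.card (Subgroup.center G) : ℂ) * (((p : ℂ) * (Nat.card H : ℂ)) * ∑ g : G, F g) =
      (Nat.card (Subgroup.center G) : ℂ) *
        ((Nat.card G : ℂ) * ∑ u : (ZMod p)ˣ, F (x ^ ((u : ZMod p).val))) := by
    push_cast at hTI
    linear_combination hTI
  exact mul_left_cancel₀ hZ0 h3

end Cfsg.Agent.Lib.helper2.BG
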