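import Mathlib
import Cfsg.Agent.Lib.helper49.SPEDefs

/-!
# S2333 piece PAIRTR: `GL_n` is transitive on independent pairs

`pair_trans` has the verbatim skeleton statement.
-/

set_option autoImplicit false

namespace Cfsg.Agent.Lib.helper49.SPE

open Matrix

/-- PAIRTR (L) -/
theorem pair_trans {F : Type*} [Field F] {n : ℕ} (u v u' v' : Fin n → F) (h : Indep u v)
    (h' : Indep u' v') :
    ∃ B : Matrix (Fin n) (Fin n) F, B.det ≠ 0 ∧ B *ᵥ u = u' ∧ B *ᵥ v = v' := by
  classical
  have hli : LinearIndependent F ![u, v] := LinearIndependent.pair_iff.2 h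
  have hli' : LinearIndependent F ![u', v'] := LinearIndependent.pair_iff.2 h'
  let b := Module.Basis.span hli
  let b' := Module.Basis.span hli'
  let f := b.equiv b' (Equiv.refl _)
  obtain ⟨g, hg⟩ := Submodule.exists_linearEquiv_restrict_eq f
  have hb : ∀ i, ((b i : Submodule.span F (Set.range ![u, v])) : Fin n → F) = ![u, v] i :=
    fun i => congrArg Subtype.val (Module.Basis.span_apply hli i)
  have hb' : ∀ i, ((b' i : Submodule.span F (Set.range ![u', v'])) : Fin n → F) = ![u', v'] i :=
    fun i => congrArg Subtype.val (Module.Basis.span_apply hli' i)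
  have hgi : ∀ i, g (![u, v] i) = ![u', v'] i := by
    intro i
    have h0 := hg (b i)
    rw [Module.Basis.equiv_apply, hb, Equiv.refl_apply, hb'] at h0
    exact h0.symm
  refine ⟨LinearMap.toMatrix' (g : (Fin n → F) →ₗ[F] (Fin n → F)), ?_, ?_, ?_⟩
  · rw [LinearMap.det_toMatrix']
    exact (LinearEquiv.isUnit_det' g).ne_zero
  · rw [← Matrix.toLin'_apply, Matrix.toLin'_toMatrix']
    exact hgi 0
  · rw [← Matrix.toLin'_apply, Matrix.toLin'_toMatrix']
    exact hgi 1

end Cfsg.Agent.Lib.helper49.SPE
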