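import Mathlib
import Cfsg.Agent.Lib.helper24.SfoDefs

/-!
# S5981 piece OEVEN: the support of a similarity of odd prime order `r ∤ q - 1` of a nondegenerate
quadratic form is even-dimensional

`h40_sfo_fix_even` has the verbatim skeleton statement of `sfo_fix_even` (racer copy, prefixed
name). Proof: on `U = range (g - 1)` the form `ω(u, v) = B(u, g v) - B(g u, v)` is alternating and
nondegenerate, so its Gram matrix `W` satisfies `Wᵀ = -W`, `det W ≠ 0`.
-/

set_option autoImplicit false

namespace Cfsg.Agent.Lib.helper24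

open Module Matrix Cfsg.Geo

/-- OEVEN -/
theorem h40_sfo_fix_even {F : Type*} [Field F] [Fintype F] {n : ℕ} (h2 : (2 : F) ≠ 0)
    (Q : (Fin n → F) → F) (hQ : IsNondegenerateQuadraticForm Q) (r : ℕ) [Fact r.Prime]
    (hr2 : r ≠ 2) (hrF : (r : F) ≠ 0) (hnd : ¬ r ∣ Fintype.card F - 1) (g : GL (Fin n) F)
    (hg : g ∈ quadSimilarityGroup Q) (hgr : (g : Matrix (Fin n) (Fin n) F) ^ r = 1) :
    Even (n - Module.finrank F
      (LinearMap.ker (Matrix.toLin' (g : Matrix (Fin n) (Fin n) F) - 1))) := by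
  classical
  have hr : r.Prime := Fact.out
  have hrodd : Odd r := hr.odd_of_ne_two hr2
  obtain ⟨T, hT⟩ : ∃ T : (Fin n → F) →ₗ[F] (Fin n → F),
      T = Matrix.toLin' (g : Matrix (Fin n) (Fin n) F) := ⟨_, rfl⟩
  rw [← hT]
  obtain ⟨m, hm⟩ : ∃ m : ℕ, m = n - Module.finrank F (LinearMap.ker (T - 1)) := ⟨_, rfl⟩
  rw [← hm]
  rcases Nat.eq_zero_or_pos m with hm0 | hmpos
  · rw [hm0]; exact Even.zero
  have hn : 0 < n := by omega
  have hTapp : ∀ v, T v = (g : Matrix (Fin n) (Fin n) F) *ᵥ v := by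
    intro v; rw [hT, Matrix.toLin'_apply]
  have hTr : T ^ r = 1 := by
    have h1 : T = Matrix.toLinAlgEquiv' (g : Matrix (Fin n) (Fin n) F) := by
      rw [hT]; rfl
    rw [h1, ← map_pow, hgr, map_one]
  -- the polar form
  obtain ⟨B, hB⟩ : ∃ B : (Fin n → F) → (Fin n → F) → F, B = QuadraticMap.polar Q := ⟨_, rfl⟩
  have hBl := hQ.polar_bilinear
  have hBnd := hQ.nondegenerate
  rw [← hB] at hBl hBnd
  have hBsymm : ∀ u v, B u v = B v u := by
    intro u v; rw [hB]; exact QuadraticMap.polar_comm Q u v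
  -- some vector with Q v ≠ 0
  obtain ⟨v₀, hv₀⟩ : ∃ v, Q v ≠ 0 := by
    by_contra hcon
    simp only [not_exists, not_not] at hcon
    obtain ⟨⟨x, hx⟩, _⟩ := hBnd (Pi.single ⟨0, hn⟩ 1) (by
      intro h
      have := congrFun h ⟨0, hn⟩
      simp at this)
    apply hx
    rw [hB]
    unfold QuadraticMap.polar
    rw [hcon, hcon, hcon]; ring
  -- the multiplier is 1
  obtain ⟨c, hc⟩ := hg
  have hcpow : ∀ (j : ℕ) (v : Fin n → F), Q ((T ^ j) v) = (c : F) ^ j * Q v := by
    intro j
    induction j with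
    | zero => intro v; simp
    | succ j ih =>
      intro v
      rw [pow_succ', Module.End.mul_apply, hTapp, hc, ih, pow_succ]
      ring
  have hc1 : (c : F) = 1 := by
    have h1 := hcpow r v₀
    rw [hTr] at h1
    simp only [Module.End.one_apply] at h1
    have h2' : (c : F) ^ r = 1 := by
      have h3 : ((c : F) ^ r - 1) * Q v₀ = 0 := by
        rw [sub_mul, one_mul, ← h1, sub_self]
      rcases mul_eq_zero.mp h3 with h4 | h4
      · exact sub_eq_zero.mp h4
      · exact absurd h4 hv₀
    have h5 : c ^ r = 1 := Units.ext (by rw [Units.val_pow_eq_pow_val, h2']; rfl)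
    have h6 : orderOf c ∣ r := orderOf_dvd_of_pow_eq_one h5
    have h7 : orderOf c ∣ Fintype.card F - 1 := by
      rw [← Fintype.card_units]; exact orderOf_dvd_card
    rcases (Nat.dvd_prime hr).mp h6 with h8 | h8
    · rw [orderOf_eq_one_iff] at h8
      rw [h8]; rfl
    · rw [h8] at h7; exact absurd h7 hnd
  have hQiso : ∀ v, Q (T v) = Q v := by
    intro v
    rw [hTapp, hc, hc1, one_mul]
  have hiso : ∀ u v, B (T u) (T v) = B u v := by
    intro u v
    rw [hB]
    unfold QuadraticMap.polar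
    rw [← map_add, hQiso, hQiso, hQiso]
  have hsubr : ∀ v x y, B v (x - y) = B v x - B v y := by
    intro v x y
    have h := hBl.add_right v (x - y) y
    rw [sub_add_cancel] at h
    rw [h, add_sub_cancel_right]
  -- the subspace U
  obtain ⟨U, hU⟩ : ∃ U : Submodule F (Fin n → F), U = LinearMap.range (T - 1) := ⟨_, rfl⟩
  have hUmem : ∀ w, T w - w ∈ U := by
    intro w
    rw [hU]
    exact ⟨w, by simp⟩
  have hUT : ∀ u ∈ U, T u ∈ U := by
    intro u hu
    rw [hU] at hu ⊢
    obtain ⟨w, rfl⟩ := hu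
    exact ⟨T w, by simp⟩
  have hUTpow : ∀ (j : ℕ), ∀ u ∈ U, (T ^ j) u ∈ U := by
    intro j
    induction j with
    | zero => intro u hu; simpa using hu
    | succ j ih =>
      intro u hu
      rw [pow_succ', Module.End.mul_apply]
      exact hUT _ (ih u hu)
  -- orthogonality
  have horth : ∀ k u, T k = k → u ∈ U → B k u = 0 := by
    intro k u hk hu
    rw [hU] at hu
    obtain ⟨w, rfl⟩ := hu
    have : (T - 1) w = T w - w := by simp
    rw [this, hsubr]
    nth_rewrite 1 [← hk]
    rw [hiso, sub_self]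
  -- decomposition
  have hpowU : ∀ (j : ℕ) (x : Fin n → F), x - (T ^ j) x ∈ U := by
    intro j
    induction j with
    | zero => intro x; simp
    | succ j ih =>
      intro x
      have h1 : x - (T ^ (j + 1)) x = (x - (T ^ j) x) - (T ((T ^ j) x) - (T ^ j) x) := by
        rw [pow_succ', Module.End.mul_apply]; abel
      rw [h1]
      exact U.sub_mem (ih x) (hUmem _)
  have hdec : ∀ x : Fin n → F, ∃ k u, T k = k ∧ u ∈ U ∧ x = k + u := by
    intro x
    refine ⟨(r : F)⁻¹ • ∑ j ∈ Finset.range r, (T ^ j) x,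
      (r : F)⁻¹ • ∑ j ∈ Finset.range r, (x - (T ^ j) x), ?_, ?_, ?_⟩
    · rw [map_smul, map_sum]
      congr 1
      have h1 : ∀ j, T ((T ^ j) x) = (T ^ (j + 1)) x := by
        intro j; rw [pow_succ', Module.End.mul_apply]
      simp only [h1]
      have h2' := Finset.sum_range_succ (fun j => (T ^ j) x) r
      have h3 := Finset.sum_range_succ' (fun j => (T ^ j) x) r
      rw [h2'] at h3
      simp only [hTr, pow_zero, Module.End.one_apply] at h3
      exact (add_right_cancel h3).symm
    · exact U.smul_mem _ (U.sum_mem (fun j _ => hpowU j x))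
    · rw [← smul_add, ← Finset.sum_add_distrib]
      simp only [add_sub_cancel, Finset.sum_const, Finset.card_range]
      rw [← Nat.cast_smul_eq_nsmul F, smul_smul, inv_mul_cancel₀ hrF, one_smul]
  -- nondegeneracy on U
  have hnondegU : ∀ u ∈ U, u ≠ 0 → ∃ u' ∈ U, B u' u ≠ 0 := by
    intro u hu hu0
    obtain ⟨⟨x, hx⟩, _⟩ := hBnd u hu0
    obtain ⟨k, u', hk, hu', rfl⟩ := hdec x
    rw [hBl.add_left, horth k u hk hu, zero_add] at hx
    exact ⟨u', hu', hx⟩
  have hKU : ∀ u ∈ U, T u = u → u = 0 := by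
    intro u hu hTu
    by_contra hu0
    obtain ⟨u', hu', h⟩ := hnondegU u hu hu0
    apply h
    rw [hBsymm]
    exact horth u u' hTu hu'
  -- dimension of U
  have hdimU : Module.finrank F U = m := by
    have h1 := LinearMap.finrank_range_add_finrank_ker (T - 1)
    rw [Module.finrank_fin_fun] at h1
    rw [hU, hm]
    omega
  -- coordinates on U
  let b : Basis (Fin m) F U := Module.finBasisOfFinrankEq F U hdimU
  obtain ⟨φ, hφ⟩ : ∃ φ : (Fin m → F) →ₗ[F] (Fin n → F),
      φ = U.subtype.comp (b.equivFun.symm : (Fin m → F) ≃ₗ[F] U).toLinearMap := ⟨_, rfl⟩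
  have hφU : ∀ x, φ x ∈ U := by
    intro x; rw [hφ]; exact (b.equivFun.symm x).2
  have hφsurj : ∀ u ∈ U, ∃ x, φ x = u := by
    intro u hu
    refine ⟨b.equivFun ⟨u, hu⟩, ?_⟩
    rw [hφ]
    simp
  have hφinj : Function.Injective φ := by
    rw [hφ]
    intro x y hxy
    have h1 : (b.equivFun.symm x : Fin n → F) = (b.equivFun.symm y : Fin n → F) := hxy
    exact b.equivFun.symm.injective (Subtype.ext h1)
  -- the alternating form
  let ω : LinearMap.BilinForm F (Fin m → F) :=
    LinearMap.mk₂ F (fun x y => B (φ x) (T (φ y)) - B (T (φ x)) (φ y))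
      (by
        intro x₁ x₂ y
        simp only [map_add]
        rw [hBl.add_left, hBl.add_left]; ring)
      (by
        intro a x y
        simp only [map_smul]
        rw [hBl.smul_left, hBl.smul_left, smul_eq_mul]; ring)
      (by
        intro x y₁ y₂
        simp only [map_add]
        rw [hBl.add_right, hBl.add_right]; ring)
      (by
        intro a x y
        simp only [map_smul]
        rw [hBl.smul_right, hBl.smul_right, smul_eq_mul]; ring)
  have hωapp : ∀ x y, ω x y = B (φ x) (T (φ y)) - B (T (φ x)) (φ y) := fun x y => rfl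
  have hωskew : ∀ x y, ω x y = - ω y x := by
    intro x y
    rw [hωapp, hωapp, hBsymm (φ x) (T (φ y)), hBsymm (T (φ x)) (φ y)]
    ring
  have hsepR : ∀ y, (∀ x, ω x y = 0) → y = 0 := by
    intro y hy
    have hu : φ y ∈ U := hφU y
    have hTrm : T ((T ^ (r - 1)) (φ y)) = φ y := by
      have h1 : T ((T ^ (r - 1)) (φ y)) = (T ^ (r - 1 + 1)) (φ y) := by
        rw [pow_succ', Module.End.mul_apply]
      rw [h1, Nat.sub_add_cancel hr.one_le, hTr]
      rfl
    have h1 : ∀ u' ∈ U, B u' (T (φ y) - (T ^ (r - 1)) (φ y)) = 0 := by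
      intro u' hu'
      obtain ⟨x, rfl⟩ := hφsurj u' hu'
      have h3 := hy x
      rw [hωapp] at h3
      rw [hsubr, sub_eq_zero.mp h3]
      nth_rewrite 1 [← hTrm]
      rw [hiso, sub_self]
    have h4 : T (φ y) - (T ^ (r - 1)) (φ y) = 0 := by
      by_contra hw
      obtain ⟨u', hu', h⟩ := hnondegU _ (U.sub_mem (hUT _ hu) (hUTpow _ _ hu)) hw
      exact h (h1 u' hu')
    have h5 : T (T (φ y)) = φ y := by
      rw [sub_eq_zero.mp h4, hTrm]
    have h6 : ∀ j : ℕ, (T ^ (2 * j)) (φ y) = φ y := by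
      intro j
      induction j with
      | zero => simp
      | succ j ih =>
        have : 2 * (j + 1) = 2 * j + 1 + 1 := by ring
        rw [this, pow_succ, pow_succ, Module.End.mul_apply, Module.End.mul_apply, h5, ih]
    obtain ⟨s, hs⟩ := hrodd
    have h7 : T (φ y) = φ y := by
      have h8 : (T ^ (r + 1)) (φ y) = T (φ y) := by
        rw [pow_succ, Module.End.mul_apply, hTr]
        rfl
      rw [← h8]
      have : r + 1 = 2 * (s + 1) := by omega
      rw [this]
      exact h6 (s + 1)
    have h9 := hKU _ hu h7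
    apply hφinj
    rw [h9, map_zero]
  have hnondeg : ω.Nondegenerate := by
    refine ⟨?_, ?_⟩
    · intro x hx
      apply hsepR
      intro y
      rw [hωskew, hx y, neg_zero]
    · intro y hy
      exact hsepR y hy
  obtain ⟨W, hW⟩ : ∃ W : Matrix (Fin m) (Fin m) F, W = LinearMap.BilinForm.toMatrix' ω :=
    ⟨_, rfl⟩
  have hWdet : W.det ≠ 0 := by
    rw [hW]
    exact Matrix.nondegenerate_iff_det_ne_zero.mp
      (LinearMap.BilinForm.nondegenerate_toMatrix'_iff.mpr hnondeg)
  have hWt : Wᵀ = -W := by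
    ext i j
    rw [Matrix.transpose_apply, Matrix.neg_apply, hW, LinearMap.BilinForm.toMatrix'_apply,
      LinearMap.BilinForm.toMatrix'_apply]
    exact hωskew _ _
  have hdet : W.det = (-1) ^ m * W.det := by
    have h1 := Matrix.det_transpose W
    rw [hWt, Matrix.det_neg, Fintype.card_fin] at h1
    exact h1.symm
  rcases Nat.even_or_odd m with he | ho
  · exact he
  · exfalso
    rw [ho.neg_one_pow] at hdet
    have h3 : (2 : F) * W.det = 0 := by linear_combination hdet
    rcases mul_eq_zero.mp h3 with h4 | h4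
    · exact h2 h4
    · exact hWdet h4

end Cfsg.Agent.Lib.helper24
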