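import Mathlib
import Cfsg.Agent.Lib.helper24.SfoDefs

/-!
# S5981 piece OFREE: a similarity of prime order `r ∤ q - 1` without fixed vectors acts freely on
`{Q = 1}`

`h40_sfo_free_count` has the verbatim skeleton statement of `sfo_free_count` (racer copy, prefixed
name).
-/

set_option autoImplicit false

namespace Cfsg.Agent.Lib.helper24

open Module Matrix Cfsg.Geo

/-- OFREE -/
theorem h40_sfo_free_count {F : Type*} [Field F] [Fintype F] {n : ℕ} (h2 : (2 : F) ≠ 0)
    (Q : (Fin n → F) → F) (hQ : IsNondegenerateQuadraticForm Q) (r : ℕ) [Fact r.Prime]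
    (hrF : (r : F) ≠ 0) (hnd : ¬ r ∣ Fintype.card F - 1) (g : GL (Fin n) F)
    (hg : g ∈ quadSimilarityGroup Q) (hgr : (g : Matrix (Fin n) (Fin n) F) ^ r = 1)
    (hker : LinearMap.ker (Matrix.toLin' (g : Matrix (Fin n) (Fin n) F) - 1) = ⊥) :
    r ∣ sfoCount Q 1 := by
  classical
  have hr : r.Prime := Fact.out
  obtain ⟨T, hT⟩ : ∃ T : (Fin n → F) →ₗ[F] (Fin n → F),
      T = Matrix.toLin' (g : Matrix (Fin n) (Fin n) F) := ⟨_, rfl⟩
  rw [← hT] at hker
  have hTapp : ∀ v, T v = (g : Matrix (Fin n) (Fin n) F) *ᵥ v := by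
    intro v; rw [hT, Matrix.toLin'_apply]
  have hTr : T ^ r = 1 := by
    have h1 : T = Matrix.toLinAlgEquiv' (g : Matrix (Fin n) (Fin n) F) := by
      rw [hT]; rfl
    rw [h1, ← map_pow, hgr, map_one]
  have hQ0 : Q 0 = 0 := by
    have h := hQ.smul 0 0
    rw [zero_smul] at h
    rw [h]; ring
  unfold sfoCount
  rw [Nat.card_eq_fintype_card]
  by_cases hne : Nonempty {v : Fin n → F // Q v = 1}
  · obtain ⟨⟨v₀, hv₀⟩⟩ := hne
    obtain ⟨c, hc⟩ := hg
    have hcpow : ∀ (j : ℕ) (v : Fin n → F), Q ((T ^ j) v) = (c : F) ^ j * Q v := by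
      intro j
      induction j with
      | zero => intro v; simp
      | succ j ih =>
        intro v
        rw [pow_succ', Module.End.mul_apply, hTapp, hc, ih, pow_succ]
        ring
    have hc1 : (c : F) = 1 := by
      have h1 := hcpow r v₀
      rw [hTr] at h1
      simp only [Module.End.one_apply] at h1
      rw [hv₀, mul_one] at h1
      have h5 : c ^ r = 1 := Units.ext (by rw [Units.val_pow_eq_pow_val, ← h1]; rfl)
      have h6 : orderOf c ∣ r := orderOf_dvd_of_pow_eq_one h5
      have h7 : orderOf c ∣ Fintype.card F - 1 := by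
        rw [← Fintype.card_units]; exact orderOf_dvd_card
      rcases (Nat.dvd_prime hr).mp h6 with h8 | h8
      · rw [orderOf_eq_one_iff] at h8
        rw [h8]; rfl
      · rw [h8] at h7; exact absurd h7 hnd
    have hiso : ∀ v, Q (T v) = Q v := by
      intro v
      rw [hTapp, hc, hc1, one_mul]
    let σ : Function.End {v : Fin n → F // Q v = 1} :=
      fun u => ⟨T u.1, by rw [hiso]; exact u.2⟩
    have hσ : ∀ (k : ℕ) (u : {v : Fin n → F // Q v = 1}), ((σ ^ k) u).1 = (T ^ k) u.1 := by
      intro k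
      induction k with
      | zero => intro u; rfl
      | succ k ih =>
        intro u
        rw [pow_succ', pow_succ', Module.End.mul_apply, ← ih u]
        rfl
    have h1 : σ ^ r ^ 1 = 1 := by
      funext u
      apply Subtype.ext
      rw [pow_one, hσ, hTr]
      rfl
    have h2' := Equiv.Perm.card_fixedPoints_modEq (p := r) (n := 1) (f := σ) h1
    have h3 : Fintype.card (Function.fixedPoints σ) = 0 := by
      rw [Fintype.card_eq_zero_iff]
      refine ⟨fun u => ?_⟩
      have h4 : σ u.1 = u.1 := u.2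
      have h5 : T u.1.1 = u.1.1 := congrArg Subtype.val h4
      have h6 : u.1.1 ∈ LinearMap.ker (T - 1) := by
        rw [LinearMap.mem_ker, LinearMap.sub_apply, h5]
        simp
      rw [hker, Submodule.mem_bot] at h6
      have h7 := u.1.2
      rw [h6, hQ0] at h7
      exact zero_ne_one h7
    rw [h3] at h2'
    exact (Nat.modEq_zero_iff_dvd).mp h2'
  · rw [not_nonempty_iff] at hne
    rw [Fintype.card_eq_zero]
    exact dvd_zero r

end Cfsg.Agent.Lib.helper24
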