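import Mathlib
import Cfsg.Agent.Lib.helper68.HallPet
import Cfsg.Agent.Lib.helper40.PearlUni

/-!
# S5238 block G, piece K4 (`pg_uniserial`): core with the statement of K1 (`pg_card`) as a hypothesis
-/

set_option autoImplicit false

namespace Cfsg.Agent.Lib.helper65.PearlG

open Cfsg.Agent.Lib.helper68

variable {G : Type*} [Group G] [Finite G]

/-- Counting: if all `com x g` lie in `S` and `|C_G(x)| = p ^ 2` then `|G| ≤ p ^ 2 * |S|`. -/
theorem h40_pg_card_le (p : ℕ) [Fact p.Prime] (n : ℕ) (hG : Nat.card G = p ^ n) (x : G)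
    (hC : Nat.card (Subgroup.centralizer ({x} : Set G)) = p ^ 2) (S : Subgroup G)
    (hS : ∀ g : G, com x g ∈ S) : p ^ n ≤ p ^ 2 * Nat.card S := by
  classical
  have : Fintype G := Fintype.ofFinite G
  have hcf : ∀ S : Subgroup G, Nat.card S = (Finset.univ.filter (fun g : G => g ∈ S)).card := by
    intro S
    rw [Nat.card_eq_fintype_card, Fintype.card_subtype]
  have hAc : (Finset.univ : Finset G).card = p ^ n := by
    rw [Finset.card_univ, ← Nat.card_eq_fintype_card, hG]
  have himg : (Finset.univ : Finset G).image (fun g => com x g) ⊆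
      Finset.univ.filter (fun g : G => g ∈ S) := by
    intro y hy
    rw [Finset.mem_image] at hy
    obtain ⟨g, -, rfl⟩ := hy
    rw [Finset.mem_filter]
    exact ⟨Finset.mem_univ _, hS g⟩
  have hfib : ∀ a ∈ (Finset.univ : Finset G).image (fun g => com x g),
      ((Finset.univ : Finset G).filter (fun g => com x g = a)).card ≤ p ^ 2 := by
    intro a ha
    rw [Finset.mem_image] at ha
    obtain ⟨g0, -, rfl⟩ := ha
    rw [← hC, hcf (Subgroup.centralizer ({x} : Set G))]
    refine Finset.card_le_card_of_injOn (fun g => g * g0⁻¹) ?_ ?_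
    · intro g hg
      rw [Finset.mem_coe, Finset.mem_filter] at hg
      rw [Finset.mem_coe, Finset.mem_filter]
      exact ⟨Finset.mem_univ _, Cfsg.Agent.Lib.helper40.PearlUni.com_eq_centralizer hg.2.symm⟩
    · intro g _ g' _ h
      exact mul_right_cancel h
  have hle := Finset.card_le_mul_card_image (f := fun g => com x g) (Finset.univ : Finset G)
    (p ^ 2) hfib
  rw [hAc] at hle
  calc p ^ n ≤ p ^ 2 * ((Finset.univ : Finset G).image (fun g => com x g)).card := hle
    _ ≤ p ^ 2 * Nat.card S :=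
        Nat.mul_le_mul_left _ (by rw [hcf S]; exact Finset.card_le_card himg)

/-- K2 core (racer copy of `pg_x_notin`, with `card (gam G 3)` as a hypothesis). -/
theorem h40_pg_x_notin_core (p : ℕ) [Fact p.Prime] (n : ℕ) (hG : Nat.card G = p ^ n) (hn : 3 ≤ n)
    (x : G) (hC : Nat.card (Subgroup.centralizer ({x} : Set G)) = p ^ 2)
    (hcard3 : Nat.card (gam G 3) = p ^ (n - 3)) : x ∉ gam G 2 := by
  intro hx2
  have hp : p.Prime := Fact.out
  have h1 : ∀ g : G, com x g ∈ gam G 3 := fun g => by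
    have hg : g ∈ gam G 1 := by unfold gam; simp
    exact com_mem hx2 hg
  have h2 := h40_pg_card_le p n hG x hC (gam G 3) h1
  rw [hcard3, ← pow_add] at h2
  have h3 : n ≤ 2 + (n - 3) := (Nat.pow_le_pow_iff_right hp.one_lt).mp h2
  omega

/-- K4 core: `pg_uniserial` with the statement of K1 (`pg_card`) as a hypothesis. -/
theorem h40_pg_uniserial_core (p : ℕ) [Fact p.Prime] (n : ℕ) (hG : Nat.card G = p ^ n) (x : G)
    (hC : Nat.card (Subgroup.centralizer ({x} : Set G)) = p ^ 2)
    (hcard : ∀ i, 2 ≤ i → i ≤ n → Nat.card (gam G i) = p ^ (n - i))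
    (i : ℕ) (hi : 2 ≤ i)
    (hin : i + 2 ≤ n) (m : G) (hm : m ∈ gam G i) (hm' : m ∉ gam G (i + 1)) :
    com m x ∉ gam G (i + 2) := by
  have hx2 : x ∉ gam G 2 :=
    h40_pg_x_notin_core p n hG (by omega) x hC (hcard 3 (by omega) (by omega))
  refine Cfsg.Agent.Lib.helper40.PearlUni.pearl_uniserial p n (fun i => gam G i)
    (fun i => gam_antitone (Nat.le_succ i)) hcard ?_ x hx2 hC i hi hin m hm hm'
  intro j _ g hg h
  have hh : h ∈ gam G 1 := by unfold gam; simp
  refine ⟨com_mem hg hh, ?_⟩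
  have h2 := com_mem hh hg
  rwa [add_comm] at h2

end Cfsg.Agent.Lib.helper65.PearlG
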