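import Mathlib
import Cfsg.Agent.Lib.helper95.APDefs

/-!
# S2276 piece PLUMB: realise sub-cycle-types on a common invariant subset

`h40_plumb` has the verbatim skeleton statement of `plumb` (racer copy, prefixed name).
-/

set_option autoImplicit false

namespace Cfsg.Agent.Lib.helper95.AP

open Equiv

/-- one-sided version: an equivariant embedding -/
theorem h40_plumb_one {n m : ℕ} (U : Perm (Fin n)) (a : Perm (Fin m))
    (ha : a.cycleType ≤ U.cycleType) (ha' : m - a.support.card ≤ n - U.support.card) :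
    ∃ ι : Fin m ↪ Fin n, ∀ i, U (ι i) = ι (a i) := by
  classical
  have hsa : a.support.card ≤ m := by
    have h1 := a.support.card_le_univ
    rwa [Fintype.card_fin] at h1
  have hsU : U.support.card ≤ n := by
    have h1 := U.support.card_le_univ
    rwa [Fintype.card_fin] at h1
  have hdec : U.cycleType = a.cycleType + (U.cycleType - a.cycleType) :=
    (add_tsub_cancel_of_le ha).symm
  have hsum : U.support.card = a.support.card + (U.cycleType - a.cycleType).sum := by
    have h1 := congrArg Multiset.sum hdec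
    rwa [Multiset.sum_add, Equiv.Perm.sum_cycleType, Equiv.Perm.sum_cycleType] at h1
  have hmn : m ≤ n := by omega
  let ι₀ : Fin m ↪ Fin n := Fin.castLEEmb hmn
  have hcard : Fintype.card {x : Fin n // x ∉ Set.range ι₀} = n - m := by
    rw [Fintype.card_subtype_compl, Fintype.card_fin]
    congr 1
    have h1 := Set.card_range_of_injective ι₀.injective
    rw [Fintype.card_fin] at h1
    exact (Fintype.card_congr (Equiv.refl _)).trans h1
  obtain ⟨ρ, hρ⟩ : ∃ ρ : Perm {x : Fin n // x ∉ Set.range ι₀},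
      ρ.cycleType = U.cycleType - a.cycleType := by
    rw [Equiv.Perm.exists_with_cycleType_iff]
    refine ⟨?_, ?_⟩
    · rw [hcard]
      omega
    · intro c hc
      exact Equiv.Perm.two_le_of_mem_cycleType
        (Multiset.mem_of_le (Multiset.sub_le_self _ _) hc)
  have hdisj : Equiv.Perm.Disjoint (a.viaFintypeEmbedding ι₀) (Equiv.Perm.ofSubtype ρ) := by
    intro x
    by_cases hx : x ∈ Set.range ι₀
    · right
      exact Equiv.Perm.ofSubtype_apply_of_not_mem ρ (fun h => h hx)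
    · left
      exact Equiv.Perm.viaFintypeEmbedding_apply_notMem_range a ι₀ hx
  have hct : (a.viaFintypeEmbedding ι₀ * Equiv.Perm.ofSubtype ρ).cycleType = U.cycleType := by
    rw [hdisj.cycleType_mul, Equiv.Perm.cycleType_ofSubtype, hρ]
    have h1 : (a.viaFintypeEmbedding ι₀).cycleType = a.cycleType :=
      Equiv.Perm.cycleType_extendDomain _
    rw [h1]
    exact add_tsub_cancel_of_le ha
  obtain ⟨h, hh⟩ := isConj_iff.1 (Equiv.Perm.isConj_iff_cycleType_eq.2 hct)
  refine ⟨ι₀.trans h.toEmbedding, fun i => ?_⟩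
  show U (h (ι₀ i)) = h (ι₀ (a i))
  rw [← hh]
  show h ((a.viaFintypeEmbedding ι₀ * Equiv.Perm.ofSubtype ρ) (h⁻¹ (h (ι₀ i)))) = h (ι₀ (a i))
  have h2 : h⁻¹ (h (ι₀ i)) = ι₀ i := by
    rw [Equiv.Perm.inv_eq_iff_eq]
  rw [h2, Equiv.Perm.mul_apply,
    Equiv.Perm.ofSubtype_apply_of_not_mem ρ (fun h => h ⟨i, rfl⟩),
    Equiv.Perm.viaFintypeEmbedding_apply_image]

/-- PLUMB (L), racer copy -/
theorem h40_plumb {n m : ℕ} (U W : Perm (Fin n)) (a b : Perm (Fin m))
    (ha : a.cycleType ≤ U.cycleType) (ha' : m - a.support.card ≤ n - U.support.card)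
    (hb : b.cycleType ≤ W.cycleType) (hb' : m - b.support.card ≤ n - W.support.card) :
    ∃ (ι : Fin m ↪ Fin n) (g : Perm (Fin n)),
      (∀ i, U (ι i) = ι (a i)) ∧ (∀ i, (g * W * g⁻¹) (ι i) = ι (b i)) := by
  classical
  obtain ⟨ι, hι⟩ := h40_plumb_one U a ha ha'
  obtain ⟨ι', hι'⟩ := h40_plumb_one W b hb hb'
  let e : {x : Fin n // x ∈ Set.range ι'} ≃ {x : Fin n // x ∈ Set.range ι} :=
    (Equiv.ofInjective ι' ι'.injective).symm.trans (Equiv.ofInjective ι ι.injective)
  have he : ∀ i, e ⟨ι' i, ⟨i, rfl⟩⟩ = ⟨ι i, ⟨i, rfl⟩⟩ := by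
    intro i
    show (Equiv.ofInjective ι ι.injective) ((Equiv.ofInjective ι' ι'.injective).symm
      ⟨ι' i, ⟨i, rfl⟩⟩) = _
    rw [Equiv.ofInjective_symm_apply]
    rfl
  have hg : ∀ i, e.extendSubtype (ι' i) = ι i := by
    intro i
    rw [Equiv.extendSubtype_apply_of_mem e (ι' i) ⟨i, rfl⟩, he]
  refine ⟨ι, e.extendSubtype, hι, fun i => ?_⟩
  show e.extendSubtype (W (e.extendSubtype⁻¹ (ι i))) = ι (b i)
  have h1 : e.extendSubtype⁻¹ (ι i) = ι' i := by
    rw [Equiv.Perm.inv_eq_iff_eq, hg]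
  rw [h1, hι', hg]

end Cfsg.Agent.Lib.helper95.AP
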