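import Mathlib
import Cfsg.Agent.Lib.helper31.AppCDefs

/-!
Piece (6) "G1" of S1472 (Bender–Glauberman, Appendix C, Lemma C.3, Step 4):
in the configuration `AppCCore`, with `t = y s y⁻¹` and `D = ⟨s, t⟩`, the only elements of `P`
normalizing `D` are the powers of `s`.
-/

set_option autoImplicit false

namespace Cfsg.Agent.Lib.helper40

open Cfsg.Agent.Lib.helper31

section
variable {G : Type*} [Group G]

/-- In a finite group, `a D a⁻¹ ≤ D` implies that `a` normalizes `D`. -/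
theorem g1_mem_normalizer_of_conj_le [Finite G] (D : Subgroup G) (a : G)
    (h : ∀ d ∈ D, a * d * a⁻¹ ∈ D) : a ∈ Subgroup.normalizer (D : Set G) := by
  rw [Subgroup.mem_normalizer_iff]
  intro d
  refine ⟨h d, fun hd => ?_⟩
  have hpow : ∀ k : ℕ, ∀ d ∈ D, a ^ k * d * (a ^ k)⁻¹ ∈ D := by
    intro k
    induction k with
    | zero => intro d hd; simpa using hd
    | succ k ih =>
      intro d hd
      have h1 := h _ (ih d hd)
      have e : a ^ (k + 1) * d * (a ^ (k + 1))⁻¹ = a * (a ^ k * d * (a ^ k)⁻¹) * a⁻¹ := by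
        rw [pow_succ']; group
      rw [e]; exact h1
  have ho : 0 < orderOf a := orderOf_pos a
  have hinv : a ^ (orderOf a - 1) = a⁻¹ := by
    have h1 : a ^ (orderOf a - 1) * a = 1 := by
      rw [← pow_succ, Nat.sub_add_cancel ho, pow_orderOf_eq_one]
    exact eq_inv_of_mul_eq_one_left h1
  have h2 := hpow (orderOf a - 1) _ hd
  rw [hinv] at h2
  have e : a⁻¹ * (a * d * a⁻¹) * a⁻¹⁻¹ = d := by group
  rwa [e] at h2

/-- `GEN`: if `c ∈ Q` (abelian `p'`-group normalized by `s`), `s ^ p = 1` and `(c s) ^ p = 1`,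
then `c s ∈ ⟨s, (c s) s (c s)⁻¹⟩`. -/
theorem g1_gen [Finite G] (p : ℕ) (Q : Subgroup G) (hQc : ∀ a ∈ Q, ∀ b ∈ Q, a * b = b * a)
    (hQp : (Nat.card Q).Coprime p) (s c : G) (hsQ : s ∈ Subgroup.normalizer (Q : Set G))
    (hs : s ^ p = 1) (hc : c ∈ Q) (hcs : (c * s) ^ p = 1) :
    c * s ∈ Subgroup.closure ({s, (c * s) * s * (c * s)⁻¹} : Set G) := by
  set K := Subgroup.closure ({s, (c * s) * s * (c * s)⁻¹} : Set G) with hK
  have hsK : s ∈ K := Subgroup.subset_closure (by simp)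
  have hcsc : c * s * c⁻¹ ∈ K := by
    have h1 : (c * s) * s * (c * s)⁻¹ ∈ K := Subgroup.subset_closure (by simp)
    have e : (c * s) * s * (c * s)⁻¹ = c * s * c⁻¹ := by group
    rwa [e] at h1
  have hsk : ∀ k : ℕ, ∀ z ∈ Q, s ^ k * z * (s ^ k)⁻¹ ∈ Q := by
    intro k z hz
    exact (Subgroup.mem_normalizer_iff.mp (Subgroup.pow_mem _ hsQ k) z).mp hz
  have hN : ∀ k : ℕ, (c * s) ^ k * (s ^ k)⁻¹ ∈ Q := by
    intro k
    induction k with
    | zero => simp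
    | succ k ih =>
      have e : (c * s) ^ (k + 1) * (s ^ (k + 1))⁻¹
          = ((c * s) ^ k * (s ^ k)⁻¹) * (s ^ k * c * (s ^ k)⁻¹) := by
        rw [pow_succ, pow_succ]; group
      rw [e]; exact Q.mul_mem ih (hsk k c hc)
  have hmain : ∀ k : ℕ, c ^ k * ((c * s) ^ k * (s ^ k)⁻¹)⁻¹ ∈ K := by
    intro k
    induction k with
    | zero => simp
    | succ k ih =>
      have hcomK : c * s ^ k * c⁻¹ * (s ^ k)⁻¹ ∈ K := by
        have e : c * s ^ k * c⁻¹ = (c * s * c⁻¹) ^ k := by rw [conj_pow]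
        rw [e]; exact K.mul_mem (K.pow_mem hcsc k) (K.inv_mem (K.pow_mem hsK k))
      have hcomQ : c * s ^ k * c⁻¹ * (s ^ k)⁻¹ ∈ Q := by
        have e : c * s ^ k * c⁻¹ * (s ^ k)⁻¹ = c * (s ^ k * c⁻¹ * (s ^ k)⁻¹) := by group
        rw [e]; exact Q.mul_mem hc (hsk k _ (Q.inv_mem hc))
      have hNinv := Q.inv_mem (hN k)
      have hcomm := hQc _ hNinv _ hcomQ
      have e : c ^ (k + 1) * ((c * s) ^ (k + 1) * (s ^ (k + 1))⁻¹)⁻¹
          = (c ^ k * ((c * s) ^ k * (s ^ k)⁻¹)⁻¹) * (c * s ^ k * c⁻¹ * (s ^ k)⁻¹) := by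
        have e1 : c ^ (k + 1) * ((c * s) ^ (k + 1) * (s ^ (k + 1))⁻¹)⁻¹
            = c ^ k * ((c * s ^ k * c⁻¹ * (s ^ k)⁻¹) * ((c * s) ^ k * (s ^ k)⁻¹)⁻¹) := by
          rw [pow_succ, pow_succ, pow_succ]; group
        rw [e1, ← hcomm]; group
      rw [e]; exact K.mul_mem ih hcomK
  have hcp : c ^ p ∈ K := by
    have h1 := hmain p
    rw [hcs, hs] at h1
    simpa using h1
  have hcK : c ∈ K := by
    have hcard : c ^ Nat.card Q = 1 := by
      have h1 : (⟨c, hc⟩ : Q) ^ Nat.card Q = 1 := pow_card_eq_one'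
      have h3 := congrArg Subtype.val h1
      rwa [Subgroup.coe_pow, Subgroup.coe_one] at h3
    have hg : Nat.gcd (Nat.card Q) p = 1 := hQp
    have hb := Nat.gcd_eq_gcd_ab (Nat.card Q) p
    rw [hg] at hb
    have e : c ^ (1 : ℤ) = c ^ ((Nat.card Q : ℤ) * Nat.gcdA (Nat.card Q) p
        + (p : ℤ) * Nat.gcdB (Nat.card Q) p) := by
      rw [← hb]; norm_cast
    rw [zpow_one, zpow_add, zpow_mul, zpow_mul, zpow_natCast, zpow_natCast, hcard, one_zpow,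
      one_mul] at e
    rw [e]; exact K.zpow_mem hcp _
  exact K.mul_mem hcK hsK

/-- Elements of `⟨s, t⟩` have the form `q s ^ k` with `q ∈ Q`, when `s` normalizes `Q` and
`t s⁻¹ ∈ Q`. -/
theorem g1_closure_form (Q : Subgroup G) (s t : G) (hsQ : s ∈ Subgroup.normalizer (Q : Set G))
    (htQ : t * s⁻¹ ∈ Q) :
    ∀ d ∈ Subgroup.closure ({s, t} : Set G), ∃ q ∈ Q, ∃ k : ℤ, d = q * s ^ k := by
  let K : Subgroup G :=
    { carrier := {d | ∃ q ∈ Q, ∃ k : ℤ, d = q * s ^ k}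
      one_mem' := ⟨1, Q.one_mem, 0, by simp⟩
      mul_mem' := by
        rintro _ _ ⟨q, hq, k, rfl⟩ ⟨q', hq', k', rfl⟩
        refine ⟨q * (s ^ k * q' * (s ^ k)⁻¹), Q.mul_mem hq ?_, k + k', ?_⟩
        · exact (Subgroup.mem_normalizer_iff.mp (Subgroup.zpow_mem _ hsQ k) q').mp hq'
        · rw [zpow_add]; group
      inv_mem' := by
        rintro _ ⟨q, hq, k, rfl⟩
        refine ⟨(s ^ (-k)) * q⁻¹ * (s ^ (-k))⁻¹, ?_, -k, ?_⟩
        · exact (Subgroup.mem_normalizer_iff.mp (Subgroup.zpow_mem _ hsQ (-k)) q⁻¹).mp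
            (Q.inv_mem hq)
        · group }
  have hle : Subgroup.closure ({s, t} : Set G) ≤ K := by
    rw [Subgroup.closure_le]
    intro d hd
    rcases hd with h | h
    · rw [h]; exact ⟨1, Q.one_mem, 1, by simp⟩
    · rw [Set.mem_singleton_iff] at h
      rw [h]; exact ⟨t * s⁻¹, htQ, 1, by simp⟩
  exact fun d hd => hle hd

/-- Integer powers of an element of order dividing `p` are natural powers. -/
theorem g1_zpow_nat (p : ℕ) (hp : p ≠ 0) (s : G) (hs : s ^ p = 1) (k : ℤ) :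
    ∃ n : ℕ, s ^ k = s ^ n := by
  refine ⟨(k % (p : ℤ)).toNat, ?_⟩
  have h1 : (p : ℤ) * (k / (p : ℤ)) + k % (p : ℤ) = k := Int.mul_ediv_add_emod k p
  have h2 : 0 ≤ k % (p : ℤ) := Int.emod_nonneg _ (by exact_mod_cast hp)
  have h3 : ((k % (p : ℤ)).toNat : ℤ) = k % (p : ℤ) := Int.toNat_of_nonneg h2
  conv_lhs => rw [← h1]
  rw [zpow_add, zpow_mul, zpow_natCast, hs, one_zpow, one_mul, ← h3, zpow_natCast, h3]

end

section core
variable {G : Type*} [Group G] [Finite G] {p : ℕ} {P U Q : Subgroup G} {s y : G}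

theorem g1_P_exp (h : AppCCore p P U Q s y) : ∀ x ∈ P, x ^ p = 1 := by
  intro x hx
  by_cases hx1 : x = 1
  · rw [hx1, one_pow]
  · obtain ⟨g, hg, j, hj, rfl⟩ := h.split x hx hx1
    rw [conj_pow, ← pow_mul, mul_comm, pow_mul, h.sp, one_pow]; group

theorem g1_t_pow (h : AppCCore p P U Q s y) : (y * s * y⁻¹) ^ p = 1 := by
  rw [conj_pow, h.sp]; group

theorem g1_tQ (h : AppCCore p P U Q s y) : y * s * y⁻¹ * s⁻¹ ∈ Q := by
  have h1 : s * y⁻¹ * s⁻¹ ∈ Q := (Subgroup.mem_normalizer_iff.mp h.sQ y⁻¹).mp (Q.inv_mem h.yQ)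
  have e : y * s * y⁻¹ * s⁻¹ = y * (s * y⁻¹ * s⁻¹) := by group
  rw [e]; exact Q.mul_mem h.yQ h1

theorem g1_t_norm (h : AppCCore p P U Q s y) :
    y * s * y⁻¹ ∈ Subgroup.normalizer (Q : Set G) := by
  have hy : y ∈ Subgroup.normalizer (Q : Set G) := Subgroup.le_normalizer h.yQ
  exact Subgroup.mul_mem _ (Subgroup.mul_mem _ hy h.sQ) (Subgroup.inv_mem _ hy)

/-- `D ∩ P = ⟨s⟩`. -/
theorem g1_inter (h : AppCCore p P U Q s y) :
    ∀ d ∈ Subgroup.closure ({s, y * s * y⁻¹} : Set G), d ∈ P → d ∈ Subgroup.zpowers s := by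
  intro d hd hdP
  obtain ⟨q, hq, k, rfl⟩ := g1_closure_form Q s (y * s * y⁻¹) h.sQ (g1_tQ h) d hd
  have hqP : q ∈ P := by
    have h1 : q = q * s ^ k * (s ^ k)⁻¹ := by group
    rw [h1]; exact P.mul_mem hdP (P.inv_mem (P.zpow_mem h.sP k))
  have hqp : q ^ p = 1 := g1_P_exp h q hqP
  have h1 : orderOf q ∣ p := orderOf_dvd_of_pow_eq_one hqp
  have h2 : orderOf q ∣ Nat.card Q := Subgroup.orderOf_dvd_natCard Q hq
  have h3 : orderOf q ∣ Nat.gcd (Nat.card Q) p := Nat.dvd_gcd h2 h1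
  rw [Nat.Coprime.gcd_eq_one h.Qcop] at h3
  have h4 : q = 1 := orderOf_eq_one_iff.mp (Nat.dvd_one.mp h3)
  rw [h4, one_mul]; exact Subgroup.zpow_mem_zpowers s k

/-- `GEN` for `t = y s y⁻¹`: `t ∈ ⟨s, t s t⁻¹⟩`. -/
theorem g1_gen1 (h : AppCCore p P U Q s y) :
    y * s * y⁻¹ ∈ Subgroup.closure ({s, (y * s * y⁻¹) * s * (y * s * y⁻¹)⁻¹} : Set G) := by
  have h1 := g1_gen p Q h.Qcomm h.Qcop s (y * s * y⁻¹ * s⁻¹) h.sQ h.sp (g1_tQ h)
    (by rw [inv_mul_cancel_right]; exact g1_t_pow h)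
  rw [inv_mul_cancel_right] at h1
  exact h1

/-- `GEN` with the roles exchanged: `s ∈ ⟨t, s t s⁻¹⟩`. -/
theorem g1_gen2 (h : AppCCore p P U Q s y) :
    s ∈ Subgroup.closure ({y * s * y⁻¹, s * (y * s * y⁻¹) * s⁻¹} : Set G) := by
  have hsQ' : s * (y * s * y⁻¹)⁻¹ ∈ Q := by
    have h1 := Q.inv_mem (g1_tQ h)
    have e : (y * s * y⁻¹ * s⁻¹)⁻¹ = s * (y * s * y⁻¹)⁻¹ := by group
    rwa [e] at h1
  have h1 := g1_gen p Q h.Qcomm h.Qcop (y * s * y⁻¹) (s * (y * s * y⁻¹)⁻¹) (g1_t_norm h)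
    (g1_t_pow h) hsQ' (by rw [inv_mul_cancel_right]; exact h.sp)
  rw [inv_mul_cancel_right] at h1
  exact h1

/-- FACT A: if `a t b⁻¹ ∈ D` with `a, b ∈ P`, then `a` normalizes `D`. -/
theorem g1_factA (h : AppCCore p P U Q s y) (a b : G) (ha : a ∈ P) (hb : b ∈ P)
    (hd : a * (y * s * y⁻¹) * b⁻¹ ∈ Subgroup.closure ({s, y * s * y⁻¹} : Set G)) :
    a ∈ Subgroup.normalizer
      ((Subgroup.closure ({s, y * s * y⁻¹} : Set G) : Subgroup G) : Set G) := by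
  have hgen := g1_gen1 h
  generalize ht : y * s * y⁻¹ = t at hd hgen ⊢
  generalize hD : Subgroup.closure ({s, t} : Set G) = D at hd ⊢
  have hsD : s ∈ D := by rw [← hD]; exact Subgroup.subset_closure (by simp)
  have htD : t ∈ D := by rw [← hD]; exact Subgroup.subset_closure (by simp)
  apply g1_mem_normalizer_of_conj_le
  have hsa : s * a = a * s := h.Pcomm s h.sP a ha
  have has : a * s * a⁻¹ = s := by rw [← hsa]; group
  have hsb : s⁻¹ * b = b * s⁻¹ := by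
    have h1 := h.Pcomm s h.sP b hb
    calc s⁻¹ * b = s⁻¹ * (b * s) * s⁻¹ := by group
      _ = s⁻¹ * (s * b) * s⁻¹ := by rw [h1]
      _ = b * s⁻¹ := by group
  have e : s * (a * t * b⁻¹) * s⁻¹ * (a * t * b⁻¹)⁻¹ = a * (s * t * s⁻¹ * t⁻¹) * a⁻¹ := by
    calc s * (a * t * b⁻¹) * s⁻¹ * (a * t * b⁻¹)⁻¹
        = (s * a) * t * b⁻¹ * (s⁻¹ * b) * t⁻¹ * a⁻¹ := by group
      _ = (a * s) * t * b⁻¹ * (b * s⁻¹) * t⁻¹ * a⁻¹ := by rw [hsa, hsb]
      _ = a * (s * t * s⁻¹ * t⁻¹) * a⁻¹ := by group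
  have h1 : a * (s * t * s⁻¹ * t⁻¹) * a⁻¹ ∈ D := by
    rw [← e]; exact D.mul_mem (D.mul_mem (D.mul_mem hsD hd) (D.inv_mem hsD)) (D.inv_mem hd)
  have h2 : a * (t * s * t⁻¹) * a⁻¹ ∈ D := by
    have e2 : a * (t * s * t⁻¹) * a⁻¹
        = (a * (s * t * s⁻¹ * t⁻¹) * a⁻¹)⁻¹ * (a * s * a⁻¹) := by group
    rw [e2, has]; exact D.mul_mem (D.inv_mem h1) hsD
  have hle : Subgroup.closure ({s, t * s * t⁻¹} : Set G)
      ≤ D.comap (MulAut.conj a).toMonoidHom := by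
    rw [Subgroup.closure_le]
    intro d hd'
    rcases hd' with h' | h'
    · rw [h']; show a * s * a⁻¹ ∈ D; rw [has]; exact hsD
    · rw [Set.mem_singleton_iff] at h'; rw [h']; exact h2
  have hta : a * t * a⁻¹ ∈ D := hle hgen
  have hle2 : D ≤ D.comap (MulAut.conj a).toMonoidHom := by
    rw [← hD, Subgroup.closure_le, hD]
    intro d hd'
    rcases hd' with h' | h'
    · rw [h']; show a * s * a⁻¹ ∈ D; rw [has]; exact hsD
    · rw [Set.mem_singleton_iff] at h'; rw [h']; exact hta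
  intro d hd'
  exact hle2 hd'

/-- **G1**: the elements of `P` normalizing `D = ⟨s, t⟩` (`t = y s y⁻¹`) are the powers of `s`. -/
theorem appC_G1 (h : AppCCore p P U Q s y) :
    ∀ x ∈ P, x ∈ Subgroup.normalizer
      ((Subgroup.closure ({s, y * s * y⁻¹} : Set G) : Subgroup G) : Set G) →
      x ∈ Subgroup.zpowers s := by
  intro x hxP hxN
  by_cases hx1 : x = 1
  · rw [hx1]; exact Subgroup.one_mem _
  obtain ⟨u, hu, j, hj, rfl⟩ := h.split x hxP hx1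
  have hp := h.prime
  have htQ := g1_tQ h
  have htU := h.tU
  have hgen1 := g1_gen1 h
  have hgen2 := g1_gen2 h
  have hfactA := g1_factA h
  have hinter := g1_inter h
  generalize ht : y * s * y⁻¹ = t at hxN htQ htU hgen1 hgen2 hfactA hinter
  generalize hD : Subgroup.closure ({s, t} : Set G) = D at hxN hfactA hinter
  have hsD : s ∈ D := by rw [← hD]; exact Subgroup.subset_closure (by simp)
  have htD : t ∈ D := by rw [← hD]; exact Subgroup.subset_closure (by simp)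
  have hDN : D ≤ Subgroup.normalizer (D : Set G) := Subgroup.le_normalizer
  -- `x₁ := u s u⁻¹` normalizes `D`
  have hx₁N : u * s * u⁻¹ ∈ Subgroup.normalizer (D : Set G) := by
    have hcop : Nat.Coprime j p := Nat.coprime_comm.mp ((Nat.Prime.coprime_iff_not_dvd hp).mpr hj)
    obtain ⟨m, -, hm⟩ := Nat.exists_mul_mod_eq_one_of_coprime hcop hp.one_lt
    have e : (u * s ^ j * u⁻¹) ^ m = u * s * u⁻¹ := by
      rw [conj_pow, ← pow_mul]
      have h1 : j * m = p * (j * m / p) + 1 := by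
        have h2 := Nat.div_add_mod (j * m) p
        rw [hm] at h2; exact h2.symm
      rw [h1, pow_add, pow_mul, h.sp, one_pow, one_mul, pow_one]
    rw [← e]; exact Subgroup.pow_mem _ hxN m
  have hUPc : ∀ w ∈ U, ∀ z ∈ P, w * z * w⁻¹ ∈ P :=
    fun w hw z hz => (Subgroup.mem_normalizer_iff.mp (h.UP hw) z).mp hz
  have hx₁P : u * s * u⁻¹ ∈ P := hUPc u hu s h.sP
  suffices hu1 : u = 1 by
    rw [hu1, one_mul, inv_one, mul_one]; exact Subgroup.npow_mem_zpowers s j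
  have htinvU : ∀ w ∈ U, t⁻¹ * w * t ∈ U := by
    intro w hw
    have h1 := (Subgroup.mem_normalizer_iff.mp (Subgroup.inv_mem _ htU) w).mp hw
    rwa [inv_inv] at h1
  have hu₁ : t⁻¹ * u * t ∈ U := htinvU u hu
  have hu₂ : t⁻¹ * t⁻¹ * u * t * t ∈ U := by
    have h1 := htinvU _ hu₁
    have e : t⁻¹ * (t⁻¹ * u * t) * t = t⁻¹ * t⁻¹ * u * t * t := by group
    rwa [e] at h1
  -- the two elements of `P` for FACT A
  obtain ⟨a, ha_def⟩ : ∃ a, a = (t⁻¹ * u * t) * (s⁻¹ * s⁻¹) * (t⁻¹ * u * t)⁻¹ := ⟨_, rfl⟩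
  obtain ⟨b, hb_def⟩ : ∃ b, b = (u * s * u⁻¹)⁻¹ *
      ((t⁻¹ * t⁻¹ * u * t * t) * s⁻¹ * (t⁻¹ * t⁻¹ * u * t * t)⁻¹) := ⟨_, rfl⟩
  have haP : a ∈ P := by
    rw [ha_def]; exact hUPc _ hu₁ _ (P.mul_mem (P.inv_mem h.sP) (P.inv_mem h.sP))
  have hbP : b ∈ P := by
    rw [hb_def]; exact P.mul_mem (P.inv_mem hx₁P) (hUPc _ hu₂ _ (P.inv_mem h.sP))
  -- the relation `R` (from `Q` abelian)
  have hR : t * s⁻¹ * s⁻¹ * t * s * t⁻¹ * t⁻¹ = s⁻¹ := by
    have hc₁ : s * (t * s⁻¹) * s⁻¹ ∈ Q := (Subgroup.mem_normalizer_iff.mp h.sQ _).mp htQ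
    have hcomm := h.Qcomm _ hc₁ _ htQ
    have e : s * (t * s⁻¹ * s⁻¹ * t * s * t⁻¹ * t⁻¹)
        = (s * (t * s⁻¹) * s⁻¹) * (t * s⁻¹) * (s * (t * s⁻¹) * s⁻¹)⁻¹ * (t * s⁻¹)⁻¹ := by group
    have e2 : s * (t * s⁻¹ * s⁻¹ * t * s * t⁻¹ * t⁻¹) = 1 := by
      rw [e, hcomm]; group
    exact eq_inv_of_mul_eq_one_right e2
  have hatb : a * t * b⁻¹ ∈ D := by
    have e1 : a * t * b⁻¹
        = t⁻¹ * u * (t * s⁻¹ * s⁻¹ * t * s * t⁻¹ * t⁻¹) * u⁻¹ * t ^ 2 * (u * s * u⁻¹) := by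
      rw [ha_def, hb_def]; group
    rw [e1, hR]
    have e2 : t⁻¹ * u * s⁻¹ * u⁻¹ * t ^ 2 * (u * s * u⁻¹)
        = t⁻¹ * ((u * s * u⁻¹)⁻¹ * (t ^ 2) * (u * s * u⁻¹)⁻¹⁻¹) := by group
    rw [e2]
    refine D.mul_mem (D.inv_mem htD) ?_
    exact (Subgroup.mem_normalizer_iff.mp (Subgroup.inv_mem _ hx₁N) (t ^ 2)).mp
      (D.pow_mem htD 2)
  have haN : a ∈ Subgroup.normalizer (D : Set G) := hfactA a b haP hbP hatb
  -- level 1 of the frame `u`
  have hL1 : (t⁻¹ * u * t) * s * (t⁻¹ * u * t)⁻¹ ∈ Subgroup.normalizer (D : Set G) := by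
    obtain ⟨m, hm⟩ : ∃ m, p + 1 = 2 * m := by
      rcases hp.eq_two_or_odd with h2 | h2
      · exact absurd h2 h.odd
      · exact ⟨(p + 1) / 2, by omega⟩
    have e : (a⁻¹) ^ m = (t⁻¹ * u * t) * s * (t⁻¹ * u * t)⁻¹ := by
      have e1 : a⁻¹ = (t⁻¹ * u * t) * (s ^ 2) * (t⁻¹ * u * t)⁻¹ := by
        rw [ha_def]; group
      rw [e1, conj_pow, ← pow_mul, ← hm, pow_succ, h.sp, one_mul]
    rw [← e]; exact Subgroup.pow_mem _ (Subgroup.inv_mem _ haN) m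
  have hL1' : u * (t * s * t⁻¹) * u⁻¹ ∈ Subgroup.normalizer (D : Set G) := by
    have e : u * (t * s * t⁻¹) * u⁻¹ = t * ((t⁻¹ * u * t) * s * (t⁻¹ * u * t)⁻¹) * t⁻¹ := by
      group
    rw [e]
    exact Subgroup.mul_mem _ (Subgroup.mul_mem _ (hDN htD) hL1) (Subgroup.inv_mem _ (hDN htD))
  have hutu : u * t * u⁻¹ ∈ Subgroup.normalizer (D : Set G) := by
    have hle : Subgroup.closure ({s, t * s * t⁻¹} : Set G)
        ≤ (Subgroup.normalizer (D : Set G)).comap (MulAut.conj u).toMonoidHom := by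
      rw [Subgroup.closure_le]
      intro d hd'
      rcases hd' with h' | h'
      · rw [h']; exact hx₁N
      · rw [Set.mem_singleton_iff] at h'; rw [h']; exact hL1'
    exact hle hgen1
  -- `u` commutes with `t`
  have hw1 : t⁻¹ * u * t * u⁻¹ = 1 := by
    have hwU : t⁻¹ * u * t * u⁻¹ ∈ U := U.mul_mem hu₁ (U.inv_mem hu)
    have hwN : t⁻¹ * u * t * u⁻¹ ∈ Subgroup.normalizer (D : Set G) := by
      have e : t⁻¹ * u * t * u⁻¹ = t⁻¹ * (u * t * u⁻¹) := by group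
      rw [e]; exact Subgroup.mul_mem _ (Subgroup.inv_mem _ (hDN htD)) hutu
    have h1 : (t⁻¹ * u * t * u⁻¹) * s * (t⁻¹ * u * t * u⁻¹)⁻¹ ∈ D :=
      (Subgroup.mem_normalizer_iff.mp hwN s).mp hsD
    have h2 : (t⁻¹ * u * t * u⁻¹) * s * (t⁻¹ * u * t * u⁻¹)⁻¹ ∈ P := hUPc _ hwU s h.sP
    obtain ⟨k, hk⟩ := Subgroup.mem_zpowers_iff.mp (hinter _ h1 h2)
    obtain ⟨n, hn⟩ := g1_zpow_nat p hp.ne_zero s h.sp k
    exact h.free _ hwU n (by rw [← hn, hk])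
  have hut : u * t = t * u := by
    calc u * t = t * (t⁻¹ * u * t * u⁻¹) * u := by group
      _ = t * u := by rw [hw1, mul_one]
  have h3 : u * (s * t * s⁻¹) * u⁻¹ ∈ D := by
    have h4 : (u * s * u⁻¹) * t * (u * s * u⁻¹)⁻¹ ∈ D :=
      (Subgroup.mem_normalizer_iff.mp hx₁N t).mp htD
    have e1 : u⁻¹ * t * u = t := by
      calc u⁻¹ * t * u = u⁻¹ * (t * u) := by group
        _ = u⁻¹ * (u * t) := by rw [hut]
        _ = t := by group
    have e : (u * s * u⁻¹) * t * (u * s * u⁻¹)⁻¹ = u * (s * t * s⁻¹) * u⁻¹ := by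
      calc (u * s * u⁻¹) * t * (u * s * u⁻¹)⁻¹ = u * s * (u⁻¹ * t * u) * s⁻¹ * u⁻¹ := by group
        _ = u * (s * t * s⁻¹) * u⁻¹ := by rw [e1]; group
    rwa [e] at h4
  have h5 : u * t * u⁻¹ ∈ D := by
    have e : u * t * u⁻¹ = t := by rw [hut]; group
    rw [e]; exact htD
  have husu : u * s * u⁻¹ ∈ D := by
    have hle : Subgroup.closure ({t, s * t * s⁻¹} : Set G)
        ≤ D.comap (MulAut.conj u).toMonoidHom := by
      rw [Subgroup.closure_le]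
      intro d hd'
      rcases hd' with h' | h'
      · rw [h']; exact h5
      · rw [Set.mem_singleton_iff] at h'; rw [h']; exact h3
    exact hle hgen2
  obtain ⟨k, hk⟩ := Subgroup.mem_zpowers_iff.mp (hinter _ husu hx₁P)
  obtain ⟨n, hn⟩ := g1_zpow_nat p hp.ne_zero s h.sp k
  exact h.free u hu n (by rw [← hn, hk])

end core

end Cfsg.Agent.Lib.helper40
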