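import Mathlib
import Cfsg.Agent.Lib.helper31.AppCDefs
import Cfsg.Agent.Lib.helper40.AppC_F2
import Cfsg.Agent.Lib.helper40.AppC_G1
import Cfsg.Agent.Lib.helper5.AppC_F1

/-!
Final assembly of S1472 (Bender–Glauberman, Appendix C) from the group-theoretic "step"
(Lemma C.3, Step 4): the `p`-fold iteration and the transfer to the field.
-/

set_option autoImplicit false

namespace Cfsg.Agent.Lib.helper40

open Cfsg.Agent.Lib.helper31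

/-- S1472 from the step `ψ(b) ∈ E ⟹ ψ(t⁻³ b t³)⁻¹ ∈ E`, stated group-theoretically. -/
theorem appC_of_step {G : Type*} [Group G] [Finite G] (p q : ℕ) [Fact p.Prime] [Fact q.Prime]
    (hA : Nat.Coprime ((p ^ q - 1) / (p - 1)) (p - 1))
    (F : Type*) [Field F] [Fintype F] (hF : Fintype.card F = p ^ q) (P U Q : Subgroup G) (f ψ : G → F)
    (hf : Set.BijOn f (P : Set G) Set.univ) (hfadd : ∀ x ∈ P, ∀ z ∈ P, f (x * z) = f x + f z)
    (hUP : U ≤ Subgroup.normalizer (P : Set G)) (hψ : ∀ u ∈ U, ψ u ≠ 0 ∧ ∀ x ∈ P, f (u * x * u⁻¹) = ψ u * f x)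
    (hψmul : ∀ u ∈ U, ∀ v ∈ U, ψ (u * v) = ψ u * ψ v) (hψinj : Set.InjOn ψ (U : Set G)) (hUcard : Nat.card U * (p - 1) = p ^ q - 1)
    (hQ : IsMulCommutative Q) (hQp : (Nat.card Q).Coprime p) (hP0Q : ∀ x ∈ P, f x ^ p = f x → x ∈ Subgroup.normalizer (Q : Set G))
    (y : G) (hy : y ∈ Q) (hP0U : ∀ x ∈ P, f x ^ p = f x → y * x * y⁻¹ ∈ Subgroup.normalizer (U : Set G))
    (hstep : ∀ s ∈ P, f s = 1 → AppCCore p P U Q s y → ∀ b ∈ U, ∀ v ∈ U,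
      (b * s * b⁻¹) * (v * s * v⁻¹) = s ^ 2 →
      ∃ g ∈ U, ((y * s * y⁻¹)⁻¹ ^ 3 * b * (y * s * y⁻¹) ^ 3) * s ^ 2 *
        ((y * s * y⁻¹)⁻¹ ^ 3 * b * (y * s * y⁻¹) ^ 3)⁻¹ * s⁻¹ = g * s * g⁻¹) :
    p ≤ q := by
  have hp' : p.Prime := Fact.out
  have hq' : q.Prime := Fact.out
  by_cases hp2 : p = 2
  · rw [hp2]; exact hq'.two_le
  by_cases hq2 : q = 2
  · exfalso
    have hp3 : 3 ≤ p := by
      have := hp'.two_le; omega
    have hodd : Odd p := hp'.odd_of_ne_two hp2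
    obtain ⟨k, hk⟩ := hodd
    have h1 : (p ^ q - 1) / (p - 1) = p + 1 := by
      have h2 : p ^ q - 1 = (p + 1) * (p - 1) := by
        rw [hq2]
        have h3 : 1 ≤ p := by omega
        zify [h3, Nat.one_le_pow 2 p (by omega)]
        ring
      rw [h2]; exact Nat.mul_div_cancel _ (by omega)
    rw [h1] at hA
    have h4 : (2 : ℕ) ∣ p + 1 := ⟨k + 1, by omega⟩
    have h5 : (2 : ℕ) ∣ p - 1 := ⟨k, by omega⟩
    exact Nat.not_coprime_of_dvd_of_dvd (by norm_num) h4 h5 hA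
  obtain ⟨s, hsP, hfs, hcore, hψn, hsurj⟩ := appC_field_setup p q hp2 hq2 hA F hF P U Q f ψ hf
    hfadd hUP hψ hψmul hψinj hUcard hQ hQp hP0Q y hy hP0U
  apply Cfsg.Agent.Lib.helper5.appC_final_transfer p q hp2 hq2 hA F hF
  -- basic facts
  have hfinj := hf.injOn
  have hf1 : f 1 = 0 := by
    have h := hfadd 1 P.one_mem 1 P.one_mem
    rw [mul_one] at h
    have h' : f 1 + 0 = f 1 + f 1 := by rw [add_zero]; exact h
    exact (add_left_cancel h').symm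
  have hfsinv : f s⁻¹ = -1 := by
    have h := hfadd s⁻¹ (P.inv_mem hsP) s hsP
    rw [inv_mul_cancel, hf1, hfs] at h
    exact eq_neg_of_add_eq_zero_left h.symm
  have hfs2 : f (s ^ 2) = 2 := by
    rw [pow_two, hfadd s hsP s hsP, hfs]; norm_num
  have hψ1 : ψ 1 = 1 := by
    have h := hψmul 1 U.one_mem 1 U.one_mem
    rw [mul_one] at h
    have h0 := (hψ 1 U.one_mem).1
    have h' : (1 : F) * ψ 1 = ψ 1 * ψ 1 := by rw [one_mul]; exact h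
    exact (mul_right_cancel₀ h0 h').symm
  have hψinv : ∀ u ∈ U, ψ u⁻¹ = (ψ u)⁻¹ := by
    intro u hu
    have h := hψmul u hu u⁻¹ (U.inv_mem hu)
    rw [mul_inv_cancel, hψ1] at h
    exact eq_inv_of_mul_eq_one_right h.symm
  have hconj : ∀ u ∈ U, ∀ x ∈ P, u * x * u⁻¹ ∈ P := by
    intro u hu x hx
    exact (Subgroup.mem_normalizer_iff.mp (hUP hu) x).mp hx
  have hfconj : ∀ u ∈ U, f (u * s * u⁻¹) = ψ u := by
    intro u hu
    rw [(hψ u hu).2 s hsP, hfs, mul_one]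
  have htp : (y * s * y⁻¹) ^ p = 1 := g1_t_pow hcore
  have htU := hcore.tU
  have hstep' := hstep s hsP hfs hcore
  generalize ht : y * s * y⁻¹ = t at htp htU hstep'
  generalize hn : (p ^ q - 1) / (p - 1) = n at hψn hsurj ⊢
  have htinvU : ∀ k : ℕ, ∀ w ∈ U, t⁻¹ ^ k * w * t ^ k ∈ U := by
    intro k w hw
    have h1 := (Subgroup.mem_normalizer_iff.mp
      (Subgroup.pow_mem _ (Subgroup.inv_mem _ htU) k) w).mp hw
    rw [inv_pow, inv_inv] at h1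
    rw [inv_pow]; exact h1
  -- the step on the field side
  have hA1 : ∀ b ∈ U, (2 - ψ b) ^ n = 1 →
      t⁻¹ ^ 3 * b⁻¹ * t ^ 3 ∈ U ∧ (2 - ψ (t⁻¹ ^ 3 * b⁻¹ * t ^ 3)) ^ n = 1 := by
    intro b hb h2b
    obtain ⟨v, hv, hv2⟩ := hsurj (2 - ψ b) h2b
    have hbv : (b * s * b⁻¹) * (v * s * v⁻¹) = s ^ 2 := by
      apply hfinj (P.mul_mem (hconj b hb s hsP) (hconj v hv s hsP)) (P.pow_mem hsP 2)
      rw [hfadd _ (hconj b hb s hsP) _ (hconj v hv s hsP), hfconj b hb, hfconj v hv, hv2, hfs2]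
      ring
    obtain ⟨g, hg, hgeq⟩ := hstep' b hb v hv hbv
    have hb₃ : t⁻¹ ^ 3 * b * t ^ 3 ∈ U := htinvU 3 b hb
    have h1 : ψ (t⁻¹ ^ 3 * b * t ^ 3) * 2 - 1 = ψ g := by
      have h2 := congrArg f hgeq
      rw [hfconj g hg, hfadd _ (hconj _ hb₃ _ (P.pow_mem hsP 2)) _ (P.inv_mem hsP),
        (hψ _ hb₃).2 _ (P.pow_mem hsP 2), hfs2, hfsinv] at h2
      rw [← h2]; ring
    have e : t⁻¹ ^ 3 * b⁻¹ * t ^ 3 = (t⁻¹ ^ 3 * b * t ^ 3)⁻¹ := by group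
    refine ⟨by rw [e]; exact U.inv_mem hb₃, ?_⟩
    rw [e, hψinv _ hb₃]
    have h0 := (hψ _ hb₃).1
    have h3 : 2 - (ψ (t⁻¹ ^ 3 * b * t ^ 3))⁻¹ = ψ (g * (t⁻¹ ^ 3 * b * t ^ 3)⁻¹) := by
      rw [hψmul g hg _ (U.inv_mem hb₃), hψinv _ hb₃, ← h1]
      field_simp
    rw [h3]; exact hψn _ (U.mul_mem hg (U.inv_mem hb₃))
  -- iteration
  have hB : ∀ k : ℕ, ∀ b ∈ U, (2 - ψ b) ^ n = 1 →
      t⁻¹ ^ (3 * k) * b ^ ((-1 : ℤ) ^ k) * t ^ (3 * k) ∈ U ∧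
      (2 - ψ (t⁻¹ ^ (3 * k) * b ^ ((-1 : ℤ) ^ k) * t ^ (3 * k))) ^ n = 1 := by
    intro k
    induction k with
    | zero =>
      intro b hb h2b
      simp only [Nat.mul_zero, pow_zero, zpow_one, one_mul, mul_one]
      exact ⟨hb, h2b⟩
    | succ k ih =>
      intro b hb h2b
      obtain ⟨h1, h2⟩ := ih b hb h2b
      have h3 := hA1 _ h1 h2
      have e : t⁻¹ ^ 3 * (t⁻¹ ^ (3 * k) * b ^ ((-1 : ℤ) ^ k) * t ^ (3 * k))⁻¹ * t ^ 3
          = t⁻¹ ^ (3 * (k + 1)) * b ^ ((-1 : ℤ) ^ (k + 1)) * t ^ (3 * (k + 1)) := by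
        have eL : t⁻¹ ^ (3 * (k + 1)) = t⁻¹ ^ 3 * t⁻¹ ^ (3 * k) := by
          rw [← pow_add]; congr 1; ring
        have eR : t ^ (3 * (k + 1)) = t ^ (3 * k) * t ^ 3 := by
          rw [← pow_add]; congr 1
        rw [eL, eR, pow_succ (-1 : ℤ) k, mul_neg_one, zpow_neg]
        simp only [mul_inv_rev, inv_pow, inv_inv, mul_assoc]
      rw [e] at h3
      exact h3
  intro a ha h2a
  obtain ⟨b, hb, rfl⟩ := hsurj a ha
  obtain ⟨-, h2⟩ := hB p b hb h2a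
  have hodd : Odd p := hp'.odd_of_ne_two hp2
  have e1 : t⁻¹ ^ (3 * p) = 1 := by
    rw [mul_comm, pow_mul, inv_pow, htp, inv_one, one_pow]
  have e2 : t ^ (3 * p) = 1 := by
    rw [mul_comm, pow_mul, htp, one_pow]
  rw [e1, e2, hodd.neg_one_pow, zpow_neg, zpow_one, one_mul, mul_one, hψinv b hb] at h2
  exact h2

end Cfsg.Agent.Lib.helper40
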