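import Mathlib
import Cfsg.Agent.Lib.lead.Quadratic

/-!
The trace lemma (helper40).

* `geom_sum_eq_zero_of_sub_one_pow`: in a ring with `p = 0`, `(X - 1) ^ (p - 1) = 0` implies
  `1 + X + ⋯ + X ^ (p - 1) = 0`.
* `trace_lemma`: `A` a commutative group, `x` an automorphism of `A` with `1 + x + ⋯ + x ^ (p-1) = 0`
  in `End(A)`, `𝔹` a finite commutative group acting on `A` through `ψ : 𝔹 →* MulAut A`, normalized by `x`
  (`x ψ(u) x⁻¹ = ψ(c u)`), such that fixed points of `c ^ i` (`0 < i < p`) are fixed by `c`, and such that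
  `a ^ n = 1 → a = 1` for `n ∣ |𝔹|`. Then `x` commutes with `ψ(𝔹)`: `ψ (c u) = ψ u`.
-/

set_option autoImplicit false

namespace Cfsg.Agent.Lib.helper40

open Cfsg.Agent.Lib.lead

theorem geom_sum_eq_zero_of_sub_one_pow {R : Type*} [Ring R] {p : ℕ} [hp : Fact p.Prime]
    (hpz : (p : R) = 0) (X : R) (h : (X - 1) ^ (p - 1) = 0) :
    ∑ i ∈ Finset.range p, X ^ i = 0 := by
  rcases subsingleton_or_nontrivial R with hs | hn
  · exact Subsingleton.elim _ _
  have : CharP R p := (CharP.charP_iff_prime_eq_zero hp.out).2 hpz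
  let _ : Algebra (ZMod p) R := ZMod.algebra R p
  have hne : (Polynomial.X - 1 : Polynomial (ZMod p)) ≠ 0 := by
    rw [← Polynomial.C_1]; exact Polynomial.X_sub_C_ne_zero 1
  have key : (∑ i ∈ Finset.range p, (Polynomial.X : Polynomial (ZMod p)) ^ i) =
      (Polynomial.X - 1) ^ (p - 1) := by
    apply mul_right_cancel₀ hne
    rw [geom_sum_mul, ← pow_succ, Nat.sub_add_cancel hp.out.one_le, sub_pow_char, one_pow]
  have h2 := congrArg (Polynomial.aeval X) key
  simp only [map_sum, map_pow, Polynomial.aeval_X, map_sub, map_one] at h2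
  rw [h2, h]

section trace

variable {A : Type*} [CommGroup A] {𝔹 : Type*} [CommGroup 𝔹]

/-- the product of the first `i` iterates of `c` at `w` -/
def normIter (c : 𝔹 →* 𝔹) (i : ℕ) (w : 𝔹) : 𝔹 := ∏ j ∈ Finset.range i, (c^[j]) w

theorem normIter_zero (c : 𝔹 →* 𝔹) (w : 𝔹) : normIter c 0 w = 1 := by simp [normIter]

theorem normIter_succ (c : 𝔹 →* 𝔹) (i : ℕ) (w : 𝔹) :
    normIter c (i + 1) w = normIter c i w * (c^[i]) w := by
  simp [normIter, Finset.prod_range_succ]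

theorem normIter_div (c : 𝔹 →* 𝔹) (i : ℕ) (u v : 𝔹) :
    normIter c i (u / v) = normIter c i u / normIter c i v := by
  simp only [normIter, iterate_map_div, Finset.prod_div_distrib]

theorem normIter_kappa (c : 𝔹 →* 𝔹) (i : ℕ) (w : 𝔹) :
    normIter c i (w / c w) = w / (c^[i]) w := by
  induction i with
  | zero => simp [normIter_zero]
  | succ i ih =>
    rw [normIter_succ, ih, iterate_map_div, ← Function.iterate_succ_apply, div_mul_div_cancel]

theorem conj_iter {x : MulAut A} {ψ : 𝔹 →* MulAut A} {c : 𝔹 →* 𝔹}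
    (hx : ∀ u, x * ψ u * x⁻¹ = ψ (c u)) (j : ℕ) (u : 𝔹) :
    x ^ j * ψ u = ψ ((c^[j]) u) * x ^ j := by
  induction j generalizing u with
  | zero => simp
  | succ j ih =>
    have h1 : x * ψ u = ψ (c u) * x := by rw [← hx u]; group
    rw [pow_succ, mul_assoc, h1, ← mul_assoc, ih (c u), Function.iterate_succ_apply, mul_assoc]

theorem pow_psi_mul {x : MulAut A} {ψ : 𝔹 →* MulAut A} {c : 𝔹 →* 𝔹}
    (hx : ∀ u, x * ψ u * x⁻¹ = ψ (c u)) (i : ℕ) (w : 𝔹) :
    (ψ w * x) ^ i = ψ (normIter c i w) * x ^ i := by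
  induction i with
  | zero => simp [normIter_zero]
  | succ i ih =>
    rw [pow_succ, ih, normIter_succ, map_mul, pow_succ]
    have h1 := conj_iter hx i w
    calc ψ (normIter c i w) * x ^ i * (ψ w * x)
        = ψ (normIter c i w) * (x ^ i * ψ w) * x := by group
      _ = ψ (normIter c i w) * (ψ ((c^[i]) w) * x ^ i) * x := by rw [h1]
      _ = ψ (normIter c i w) * ψ ((c^[i]) w) * (x ^ i * x) := by group

/-- **The trace lemma.** -/
theorem trace_lemma {p : ℕ} [hp : Fact p.Prime] [Finite 𝔹] (x : MulAut A) (ψ : 𝔹 →* MulAut A)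
    (c : 𝔹 →* 𝔹) (hx : ∀ u, x * ψ u * x⁻¹ = ψ (c u))
    (hfix : ∀ (u : 𝔹) (i : ℕ), 0 < i → i < p → (c^[i]) u = u → c u = u)
    (htr : ∑ i ∈ Finset.range p, (autEnd A x) ^ i = 0)
    (hcop : ∀ n : ℕ, n ∣ Nat.card 𝔹 → ∀ a : A, a ^ n = 1 → a = 1) :
    ∀ u : 𝔹, ψ (c u) = ψ u := by
  classical
  let κ : 𝔹 →* 𝔹 := MonoidHom.mk' (fun u => u / c u) (by
    intro a b
    simp only [map_mul]
    exact mul_div_mul_comm a b (c a) (c b))
  have hκ : ∀ u, κ u = u / c u := fun u => rfl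
  have hcκ : ∀ (j : ℕ) (u : 𝔹), (c^[j]) (κ u) = κ ((c^[j]) u) := by
    intro j u
    rw [hκ, hκ, iterate_map_div, ← Function.iterate_succ_apply, Function.iterate_succ_apply']
  have hNκ : ∀ (i : ℕ) (u : 𝔹), normIter c i (κ u) = κ (normIter c i u) := by
    intro i u
    simp only [normIter, hcκ, map_prod]
  let B : Subgroup 𝔹 := κ.range
  have : Fintype ↥B := Fintype.ofFinite ↥B
  have hNB : ∀ (i : ℕ) (w : 𝔹), w ∈ B → normIter c i w ∈ B := by
    rintro i _ ⟨u, rfl⟩
    exact ⟨normIter c i u, (hNκ i u).symm⟩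
  have hinj : ∀ i : ℕ, 0 < i → i < p → ∀ w ∈ B, ∀ w' ∈ B,
      normIter c i w = normIter c i w' → w = w' := by
    rintro i hi hip _ ⟨u, rfl⟩ _ ⟨u', rfl⟩ h
    have h1 : normIter c i (κ (u / u')) = 1 := by
      rw [map_div, normIter_div, h, div_self']
    rw [hκ, normIter_kappa, div_eq_one] at h1
    have h2 := hfix (u / u') i hi hip h1.symm
    have h3 : κ (u / u') = 1 := by rw [hκ, h2, div_self']
    rw [map_div, div_eq_one] at h3
    exact h3
  let Ψ : 𝔹 →* AddMonoid.End (Additive A) := (autEnd A).comp ψ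
  have hΨ : ∀ u, Ψ u = autEnd A (ψ u) := fun u => rfl
  have hsum : ∀ w ∈ B, ∑ i ∈ Finset.range p, Ψ (normIter c i w) * (autEnd A x) ^ i = 0 := by
    rintro _ ⟨u, rfl⟩
    have h1 : ψ (κ u) * x = ψ u * x * (ψ u)⁻¹ := by
      rw [hκ, map_div, ← hx u, div_eq_mul_inv]; group
    have h2 : ∀ i : ℕ, Ψ (normIter c i (κ u)) * (autEnd A x) ^ i =
        autEnd A (ψ u) * (autEnd A x) ^ i * autEnd A ((ψ u)⁻¹) := by
      intro i
      have h3 := pow_psi_mul hx i (κ u)
      rw [h1, conj_pow] at h3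
      have h4 := congrArg (autEnd A) h3
      rw [map_mul, map_mul, map_mul, map_pow] at h4
      rw [hΨ]
      exact h4.symm
    simp only [h2]
    rw [← Finset.sum_mul, ← Finset.mul_sum, htr, mul_zero, zero_mul]
  have htot : ∑ w : ↥B, ∑ i ∈ Finset.range p,
      Ψ (normIter c i (w : 𝔹)) * (autEnd A x) ^ i = 0 :=
    Finset.sum_eq_zero (fun w _ => hsum w w.2)
  rw [Finset.sum_comm] at htot
  have hinner : ∀ i ∈ Finset.range p,
      ∑ w : ↥B, Ψ (normIter c i (w : 𝔹)) * (autEnd A x) ^ i =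
      if i = 0 then (Nat.card ↥B : AddMonoid.End (Additive A))
      else (∑ w : ↥B, Ψ (w : 𝔹)) * (autEnd A x) ^ i := by
    intro i hi
    rw [Finset.mem_range] at hi
    split_ifs with h0
    · subst h0
      simp [normIter_zero, Nat.card_eq_fintype_card]
    · rw [← Finset.sum_mul]
      congr 1
      let σ : ↥B → ↥B := fun w => ⟨normIter c i w, hNB i w w.2⟩
      have hσ : Function.Bijective σ := by
        rw [← Finite.injective_iff_bijective]
        intro w w' h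
        exact Subtype.ext (hinj i (Nat.pos_of_ne_zero h0) hi w w.2 w' w'.2
          (congrArg Subtype.val h))
      exact hσ.sum_comp (fun w => Ψ (w : 𝔹))
  rw [Finset.sum_congr rfl hinner] at htot
  obtain ⟨m, hm⟩ : ∃ m, p = m + 1 := ⟨p - 1, (Nat.sub_add_cancel hp.out.one_le).symm⟩
  rw [hm, Finset.sum_range_succ'] at htot
  simp only [Nat.succ_ne_zero, if_false, if_true] at htot
  have htr' : ∑ i ∈ Finset.range m, (autEnd A x) ^ (i + 1) + 1 = 0 := by
    have h1 := htr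
    rw [hm, Finset.sum_range_succ', pow_zero] at h1
    exact h1
  have he : (∑ w : ↥B, Ψ (w : 𝔹)) = (Nat.card ↥B : AddMonoid.End (Additive A)) := by
    rw [← Finset.mul_sum] at htot
    have h5 : (∑ w : ↥B, Ψ (w : 𝔹)) * (∑ i ∈ Finset.range m, (autEnd A x) ^ (i + 1)) +
        (∑ w : ↥B, Ψ (w : 𝔹)) = 0 := by
      calc (∑ w : ↥B, Ψ (w : 𝔹)) * (∑ i ∈ Finset.range m, (autEnd A x) ^ (i + 1)) +
            (∑ w : ↥B, Ψ (w : 𝔹))
          = (∑ w : ↥B, Ψ (w : 𝔹)) * (∑ i ∈ Finset.range m, (autEnd A x) ^ (i + 1) + 1) := by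
            rw [mul_add, mul_one]
        _ = 0 := by rw [htr', mul_zero]
    exact add_left_cancel (h5.trans htot.symm)
  intro u
  have hb : ∀ b : ↥B, Ψ (b : 𝔹) * (Nat.card ↥B : AddMonoid.End (Additive A)) =
      (Nat.card ↥B : AddMonoid.End (Additive A)) := by
    intro b
    rw [← he, Finset.mul_sum]
    have h1 : ∀ w : ↥B, Ψ (b : 𝔹) * Ψ (w : 𝔹) = Ψ ((b * w : ↥B) : 𝔹) := by
      intro w; rw [Subgroup.coe_mul, map_mul]
    simp only [h1]
    exact (Group.mulLeft_bijective b).sum_comp (fun w => Ψ (w : 𝔹))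
  have hψ : ψ (κ u) = 1 := by
    ext a
    have h1 := congrArg (fun F : AddMonoid.End (Additive A) => (F (Additive.ofMul a)).toMul)
      (hb ⟨κ u, u, rfl⟩)
    have h2 : ψ (κ u) (a ^ Nat.card ↥B) = a ^ Nat.card ↥B := h1
    have h3 : (ψ (κ u) a / a) ^ Nat.card ↥B = 1 := by
      rw [div_pow, ← map_pow, h2, div_self']
    have h4 := hcop _ (Subgroup.card_subgroup_dvd_card B) _ h3
    rw [MulAut.one_apply]
    exact div_eq_one.1 h4
  rw [hκ, map_div, div_eq_one] at hψ
  exact hψ.symm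

end trace

end Cfsg.Agent.Lib.helper40
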