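import Mathlib
import Cfsg.Prelude.Def_PLocal
import Cfsg.Prelude.Def_LocalEven
import Cfsg.Agent.Lib.helper40.MinConf
import Cfsg.Agent.Lib.helper40.Trace

/-!
The Engel endgame in the minimal configuration of the Thompson reduction (helper40).

* `engel_core`: `Γ / O_p(Γ)` `p`-nilpotent, `T` a Sylow `p`-subgroup which is a maximal subgroup, `M ≤ O_p(Γ)` a
  minimal normal subgroup, `g ∈ T ∖ O_p(Γ)` with `[M, g, …, g] = 1` (`p - 1` entries). Then `g` centralizes `M`.
* `engel_endgame`: the same for a chief factor `U / V` with `U ≤ O_p(Y)`: if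
  `iterCommutator U ⟨g⟩ (p - 1) ≤ V` then `⁅U, ⟨g⟩⁆ ≤ V`.
-/

set_option autoImplicit false

namespace Cfsg.Agent.Lib.helper40

open Cfsg Cfsg.Agent.Lib.helper67 Cfsg.Agent.Lib.lead

open scoped commutatorElement

theorem engel_core {Γ : Type*} [Group Γ] [Finite Γ] {p : ℕ} [hp : Fact p.Prime]
    (hq : HasNormalPComplement p (Γ ⧸ pCore p Γ)) (T : Sylow p Γ)
    (hT : IsCoatom (T : Subgroup Γ)) (M : Subgroup Γ) [hMn : M.Normal]
    (hMmin : ∀ L : Subgroup Γ, L.Normal → L ≤ M → L = ⊥ ∨ L = M)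
    (hMH : M ≤ pCore p Γ) (g : Γ) (hgT : g ∈ (T : Subgroup Γ)) (hgH : g ∉ pCore p Γ)
    (hit : iterCommutator M (Subgroup.zpowers g) (p - 1) = ⊥) :
    g ∈ Subgroup.centralizer (M : Set Γ) := by
  obtain ⟨Q, hQn, hHQ, ⟨k, hk⟩, hQ2, hcop⟩ := exists_Q_of_hasNPC_quot hq
  have hHp : IsPGroup p (pCore p Γ) := Cfsg.Agent.Lib.helper39.pCore_isPGroup p Γ
  have hMp : IsPGroup p M := hHp.to_le hMH
  have hcomm := minimal_normal_comm M hMp hMmin
  have hexp := minimal_normal_exp M hMp hMmin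
  have hHC : pCore p Γ ≤ Subgroup.centralizer (M : Set Γ) :=
    minimal_normal_centralized M hMp hMmin (pCore p Γ) (by
      intro d hd
      obtain ⟨j, hj⟩ := hHp ⟨d, hd⟩
      refine ⟨j, ?_⟩
      have h3 := congrArg Subtype.val hj
      rw [Subgroup.coe_pow, Subgroup.coe_one] at h3
      rw [h3]; exact Subgroup.one_mem _)
  have hQQ := commutator_le_pCore T hT Q hHQ hQ2 hcop
  have hQT := sup_sylow_eq_top T hT Q ⟨k, hk⟩
  let _ : CommGroup ↥M :=
    { (inferInstance : Group ↥M) with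
      mul_comm := fun a b => Subtype.ext (hcomm a a.2 b b.2) }
  have hker : ∀ y : Γ, (MulAut.conjNormal y : MulAut ↥M) = 1 ↔
      y ∈ Subgroup.centralizer (M : Set Γ) := conjNormal_eq_one_iff M
  -- the trace of `g` on `M` vanishes
  have hpz : ((p : ℕ) : AddMonoid.End (Additive ↥M)) = 0 := by
    ext a
    rw [AddMonoid.End.natCast_apply]
    have h1 : (a.toMul ^ p : ↥M) = 1 := by
      apply Subtype.ext
      rw [Subgroup.coe_pow, Subgroup.coe_one]
      exact hexp _ a.toMul.2
    exact congrArg Subtype.val h1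
  have hA : ∀ (n : ℕ) (a : Additive ↥M),
      ((autEnd ↥M (MulAut.conjNormal g) - 1) ^ n) a =
        Additive.ofMul ((fun m : ↥M => (MulAut.conjNormal g : MulAut ↥M) m / m)^[n] a.toMul) := by
    intro n
    induction n with
    | zero => intro a; rfl
    | succ n ih =>
      intro a
      rw [pow_succ', Function.iterate_succ_apply']
      change (autEnd ↥M (MulAut.conjNormal g) - 1)
        (((autEnd ↥M (MulAut.conjNormal g) - 1) ^ n) a) = _
      rw [ih a]
      rfl
  have hB : ∀ (n : ℕ) (m : ↥M),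
      ((((fun m : ↥M => (MulAut.conjNormal g : MulAut ↥M) m / m)^[n] m : ↥M)) : Γ) ∈
        iterCommutator M (Subgroup.zpowers g) n := by
    intro n
    induction n with
    | zero => intro m; exact m.2
    | succ n ih =>
      intro m
      rw [Function.iterate_succ_apply']
      have h1 := ih m
      have h2 : ∀ m' : ↥M, (((MulAut.conjNormal g : MulAut ↥M) m' / m' : ↥M) : Γ) =
          (⁅(m' : Γ), g⁆)⁻¹ := by
        intro m'
        rw [Subgroup.coe_div, MulAut.conjNormal_apply, commutatorElement_inv,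
          commutatorElement_def, div_eq_mul_inv]
      rw [h2]
      exact Subgroup.inv_mem _ (Subgroup.commutator_mem_commutator h1
        (Subgroup.mem_zpowers g))
  have htr : ∑ i ∈ Finset.range p, (autEnd ↥M (MulAut.conjNormal g)) ^ i = 0 := by
    apply geom_sum_eq_zero_of_sub_one_pow hpz
    ext a
    rw [hA]
    have h1 := hB (p - 1) a.toMul
    rw [hit, Subgroup.mem_bot] at h1
    have h2 : ((fun m : ↥M => (MulAut.conjNormal g : MulAut ↥M) m / m)^[p - 1] a.toMul) = 1 :=
      Subtype.ext h1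
    rw [h2]; rfl
  -- the abelian group `Φ(Q)`
  have hB₀comm : ∀ a ∈ Q.map (MulAut.conjNormal : Γ →* MulAut ↥M),
      ∀ b ∈ Q.map (MulAut.conjNormal : Γ →* MulAut ↥M), a * b = b * a := by
    rintro _ ⟨a, ha, rfl⟩ _ ⟨b, hb, rfl⟩
    have h1 : ⁅a, b⁆ ∈ Subgroup.centralizer (M : Set Γ) :=
      hHC (hQQ (Subgroup.commutator_mem_commutator ha hb))
    rw [← hker, map_commutatorElement, commutatorElement_eq_one_iff_commute] at h1
    exact h1.eq
  let _ : CommGroup ↥(Q.map (MulAut.conjNormal : Γ →* MulAut ↥M)) :=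
    { (inferInstance : Group ↥(Q.map (MulAut.conjNormal : Γ →* MulAut ↥M))) with
      mul_comm := fun a b => Subtype.ext (hB₀comm a a.2 b b.2) }
  have hfin : Finite ↥(Q.map (MulAut.conjNormal : Γ →* MulAut ↥M)) :=
    Finite.of_surjective
      (fun q : ↥Q => (⟨MulAut.conjNormal (q : Γ), Subgroup.mem_map_of_mem _ q.2⟩ :
        ↥(Q.map (MulAut.conjNormal : Γ →* MulAut ↥M))))
      (by
        rintro ⟨_, q, hq, rfl⟩
        exact ⟨⟨q, hq⟩, rfl⟩)
  let c : ↥(Q.map (MulAut.conjNormal : Γ →* MulAut ↥M)) →*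
      ↥(Q.map (MulAut.conjNormal : Γ →* MulAut ↥M)) :=
    MonoidHom.mk' (fun u => ⟨(MulAut.conjNormal g : MulAut ↥M) * (u : MulAut ↥M) *
        (MulAut.conjNormal g : MulAut ↥M)⁻¹, by
      obtain ⟨q, hq, hqu⟩ := u.2
      exact ⟨g * q * g⁻¹, hQn.conj_mem q hq g, by rw [map_mul, map_mul, map_inv, hqu]⟩⟩) (by
      intro a b
      apply Subtype.ext
      show (MulAut.conjNormal g : MulAut ↥M) * ((a : MulAut ↥M) * (b : MulAut ↥M)) *
          (MulAut.conjNormal g : MulAut ↥M)⁻¹ =
        ((MulAut.conjNormal g : MulAut ↥M) * (a : MulAut ↥M) * (MulAut.conjNormal g : MulAut ↥M)⁻¹) *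
        ((MulAut.conjNormal g : MulAut ↥M) * (b : MulAut ↥M) * (MulAut.conjNormal g : MulAut ↥M)⁻¹)
      group)
  have hc : ∀ u, ((c u : ↥(Q.map (MulAut.conjNormal : Γ →* MulAut ↥M))) : MulAut ↥M) =
      (MulAut.conjNormal g : MulAut ↥M) * (u : MulAut ↥M) * (MulAut.conjNormal g : MulAut ↥M)⁻¹ :=
    fun u => rfl
  have hiter : ∀ (i : ℕ) (u : ↥(Q.map (MulAut.conjNormal : Γ →* MulAut ↥M))),
      (((c^[i]) u : ↥(Q.map (MulAut.conjNormal : Γ →* MulAut ↥M))) : MulAut ↥M) =
        (MulAut.conjNormal g : MulAut ↥M) ^ i * (u : MulAut ↥M) *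
          ((MulAut.conjNormal g : MulAut ↥M) ^ i)⁻¹ := by
    intro i
    induction i with
    | zero => intro u; simp
    | succ i ih =>
      intro u
      rw [Function.iterate_succ_apply', hc, ih, pow_succ']
      group
  obtain ⟨a₀, ha₀⟩ := T.isPGroup' ⟨g, hgT⟩
  have hgpow : g ^ (p ^ a₀) = 1 := by
    have h3 := congrArg Subtype.val ha₀
    rw [Subgroup.coe_pow, Subgroup.coe_one] at h3
    exact h3
  have hxord : orderOf (MulAut.conjNormal g : MulAut ↥M) ∣ p ^ a₀ := by
    apply orderOf_dvd_of_pow_eq_one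
    rw [← map_pow, hgpow, map_one]
  have hfix : ∀ (u : ↥(Q.map (MulAut.conjNormal : Γ →* MulAut ↥M))) (i : ℕ), 0 < i → i < p →
      (c^[i]) u = u → c u = u := by
    intro u i hi hip hu
    have h1 : (MulAut.conjNormal g : MulAut ↥M) ^ i * (u : MulAut ↥M) *
        ((MulAut.conjNormal g : MulAut ↥M) ^ i)⁻¹ = (u : MulAut ↥M) := by rw [← hiter, hu]
    have hcop' : Nat.Coprime i (orderOf (MulAut.conjNormal g : MulAut ↥M)) :=
      Nat.Coprime.coprime_dvd_right hxord
        (Nat.Coprime.pow_right a₀ (Nat.coprime_of_lt_prime hi.ne' hip hp.out).symm)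
    obtain ⟨m', hm'⟩ := exists_pow_eq_self_of_coprime hcop'
    have h2 : Commute ((MulAut.conjNormal g : MulAut ↥M) ^ i) (u : MulAut ↥M) := by
      show (MulAut.conjNormal g : MulAut ↥M) ^ i * (u : MulAut ↥M) =
        (u : MulAut ↥M) * (MulAut.conjNormal g : MulAut ↥M) ^ i
      calc (MulAut.conjNormal g : MulAut ↥M) ^ i * (u : MulAut ↥M)
          = (MulAut.conjNormal g : MulAut ↥M) ^ i * (u : MulAut ↥M) *
              ((MulAut.conjNormal g : MulAut ↥M) ^ i)⁻¹ * (MulAut.conjNormal g : MulAut ↥M) ^ i := by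
            group
        _ = (u : MulAut ↥M) * (MulAut.conjNormal g : MulAut ↥M) ^ i := by rw [h1]
    have h3 : Commute (MulAut.conjNormal g : MulAut ↥M) (u : MulAut ↥M) := hm' ▸ h2.pow_left m'
    apply Subtype.ext
    rw [hc, h3.eq]
    group
  have hcop𝔹 : ∀ n : ℕ, n ∣ Nat.card ↥(Q.map (MulAut.conjNormal : Γ →* MulAut ↥M)) →
      ∀ a : ↥M, a ^ n = 1 → a = 1 := by
    have hcard : (Nat.card ↥(Q.map (MulAut.conjNormal : Γ →* MulAut ↥M))).Coprime p := by
      have h1 := Subgroup.relIndex_ker (K := Q) (MulAut.conjNormal : Γ →* MulAut ↥M)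
      have h2 : pCore p Γ ≤ (MulAut.conjNormal : Γ →* MulAut ↥M).ker :=
        fun y hy => MonoidHom.mem_ker.2 ((hker y).2 (hHC hy))
      rw [← h1]
      exact Nat.Coprime.coprime_dvd_left (Subgroup.relIndex_dvd_of_le_left Q h2) hcop
    intro n hn a ha
    have h1 : a ^ p = 1 := by
      apply Subtype.ext
      rw [Subgroup.coe_pow, Subgroup.coe_one]
      exact hexp a a.2
    have h2 : orderOf a ∣ n := orderOf_dvd_of_pow_eq_one ha
    have h3 : orderOf a ∣ p := orderOf_dvd_of_pow_eq_one h1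
    have h4 : Nat.Coprime n p := Nat.Coprime.coprime_dvd_left hn hcard
    exact orderOf_eq_one_iff.1 (Nat.eq_one_of_dvd_coprimes h4 h2 h3)
  have key := trace_lemma (MulAut.conjNormal g : MulAut ↥M)
    (Q.map (MulAut.conjNormal : Γ →* MulAut ↥M)).subtype c (fun u => rfl) hfix htr hcop𝔹
  have hgQ : ∀ q ∈ Q, ⁅g, q⁆ ∈ Subgroup.centralizer (M : Set Γ) := by
    intro q hq
    rw [← hker, map_commutatorElement, commutatorElement_eq_one_iff_commute]
    have h1 := key ⟨MulAut.conjNormal q, Subgroup.mem_map_of_mem _ hq⟩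
    have h2 : (MulAut.conjNormal g : MulAut ↥M) * MulAut.conjNormal q * (MulAut.conjNormal g)⁻¹ =
        MulAut.conjNormal q := h1
    show (MulAut.conjNormal g : MulAut ↥M) * MulAut.conjNormal q =
      MulAut.conjNormal q * MulAut.conjNormal g
    calc (MulAut.conjNormal g : MulAut ↥M) * MulAut.conjNormal q
        = (MulAut.conjNormal g : MulAut ↥M) * MulAut.conjNormal q * (MulAut.conjNormal g)⁻¹ *
            MulAut.conjNormal g := by group
      _ = MulAut.conjNormal q * MulAut.conjNormal g := by rw [h2]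
  -- the dichotomy
  have hLn : (Q ⊓ Subgroup.centralizer (M : Set Γ)).Normal := Subgroup.normal_inf_normal _ _
  rcases eq_or_eq_of_le_normalizer T hT Q hQ2 (Q ⊓ Subgroup.centralizer (M : Set Γ))
    (le_inf hHQ hHC) inf_le_left
    (by rw [Subgroup.normalizer_eq_top_iff.2 hLn]; exact le_top) with h | h
  · exfalso
    apply hgH
    have hgq : ∀ q ∈ Q, ⁅g, q⁆ ∈ pCore p Γ := by
      intro q hq
      rw [← h]
      refine ⟨?_, hgQ q hq⟩
      rw [commutatorElement_def]
      exact Q.mul_mem (hQn.conj_mem q hq g) (Q.inv_mem hq)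
    have hconj : ∀ γ : Γ, γ * g * γ⁻¹ ∈ (T : Subgroup Γ) := by
      intro γ
      have hγ : γ ∈ (((T : Subgroup Γ) ⊔ Q : Subgroup Γ) : Set Γ) := by
        rw [sup_comm, hQT]; exact Subgroup.mem_top γ
      rw [Subgroup.mul_normal] at hγ
      obtain ⟨t, ht, q, hq, rfl⟩ := hγ
      have h1 : q * g * q⁻¹ ∈ (T : Subgroup Γ) := by
        have e : q * g * q⁻¹ = (⁅g, q⁆)⁻¹ * g := by rw [commutatorElement_def]; group
        rw [e]
        exact (T : Subgroup Γ).mul_mem ((T : Subgroup Γ).inv_mem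
          (Cfsg.Agent.Lib.helper39.pCore_le_sylow T (hgq q hq))) hgT
      have e : t * q * g * (t * q)⁻¹ = t * (q * g * q⁻¹) * t⁻¹ := by group
      rw [e]
      exact (T : Subgroup Γ).mul_mem ((T : Subgroup Γ).mul_mem ht h1) ((T : Subgroup Γ).inv_mem ht)
    have hNC : Subgroup.normalClosure ({g} : Set Γ) ≤ (T : Subgroup Γ) := by
      unfold Subgroup.normalClosure
      rw [Subgroup.closure_le]
      intro y hy
      rw [Group.mem_conjugatesOfSet_iff] at hy
      obtain ⟨a, ha, hay⟩ := hy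
      rw [Set.mem_singleton_iff] at ha
      subst ha
      obtain ⟨c', hc'⟩ := isConj_iff.1 hay
      rw [← hc']; exact hconj c'
    have hNCp : IsPGroup p (Subgroup.normalClosure ({g} : Set Γ)) := T.isPGroup'.to_le hNC
    exact Cfsg.Agent.Lib.helper39.le_pCore Subgroup.normalClosure_normal hNCp
      (Subgroup.subset_normalClosure (Set.mem_singleton g))
  · have hQC : Q ≤ Subgroup.centralizer (M : Set Γ) := h ▸ inf_le_right
    have htop : (⊤ : Subgroup Γ) ≤ Subgroup.centralizer (M : Set Γ) :=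
      minimal_normal_centralized M hMp hMmin ⊤ (by
        intro d _
        exact ⟨k, hQC (hk ▸ Subgroup.pow_index_mem Q d)⟩)
    exact htop (Subgroup.mem_top g)

theorem pCore_quotient_map {Y : Type*} [Group Y] {p : ℕ} (V : Subgroup Y) [V.Normal]
    (hV : IsPGroup p V) : pCore p (Y ⧸ V) = (pCore p Y).map (QuotientGroup.mk' V) := by
  apply le_antisymm
  · have hcn : ((pCore p (Y ⧸ V)).comap (QuotientGroup.mk' V)).Normal :=
      (Cfsg.Agent.Lib.helper39.pCore_normal p (Y ⧸ V)).comap _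
    have hcp : IsPGroup p ((pCore p (Y ⧸ V)).comap (QuotientGroup.mk' V)) :=
      (Cfsg.Agent.Lib.helper39.pCore_isPGroup p (Y ⧸ V)).comap_of_ker_isPGroup _
        (by rw [QuotientGroup.ker_mk']; exact hV)
    have h1 := Cfsg.Agent.Lib.helper39.le_pCore hcn hcp
    calc pCore p (Y ⧸ V)
        = ((pCore p (Y ⧸ V)).comap (QuotientGroup.mk' V)).map (QuotientGroup.mk' V) :=
          (Subgroup.map_comap_eq_self_of_surjective (QuotientGroup.mk'_surjective V) _).symm
      _ ≤ _ := Subgroup.map_mono h1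
  · apply Cfsg.Agent.Lib.helper39.le_pCore
    · exact (Cfsg.Agent.Lib.helper39.pCore_normal p Y).map _ (QuotientGroup.mk'_surjective V)
    · exact (Cfsg.Agent.Lib.helper39.pCore_isPGroup p Y).map _

theorem map_iterCommutator {L L' : Type*} [Group L] [Group L'] (f : L →* L') (N G : Subgroup L)
    (n : ℕ) : (iterCommutator N G n).map f = iterCommutator (N.map f) (G.map f) n := by
  induction n with
  | zero => rfl
  | succ n ih =>
    show (⁅iterCommutator N G n, G⁆).map f = ⁅iterCommutator (N.map f) (G.map f) n, G.map f⁆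
    rw [Subgroup.map_commutator, ih]

/-- **The Engel endgame.** -/
theorem engel_endgame {Y : Type*} [Group Y] [Finite Y] {p : ℕ} [hp : Fact p.Prime]
    (hq : HasNormalPComplement p (Y ⧸ pCore p Y)) (T : Sylow p Y)
    (hT : IsCoatom (T : Subgroup Y)) (g : Y) (hgT : g ∈ (T : Subgroup Y)) (hgH : g ∉ pCore p Y)
    (U V : Subgroup Y) (hUV : IsChiefFactor U V) (hU : U ≤ pCore p Y)
    (hit : iterCommutator U (Subgroup.zpowers g) (p - 1) ≤ V) :
    ⁅U, Subgroup.zpowers g⁆ ≤ V := by
  obtain ⟨hlt, hUn, hVn, hmin⟩ := hUV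
  have hVH : V ≤ pCore p Y := hlt.le.trans hU
  have hVp : IsPGroup p V := (Cfsg.Agent.Lib.helper39.pCore_isPGroup p Y).to_le hVH
  have hπ : Function.Surjective (QuotientGroup.mk' V) := QuotientGroup.mk'_surjective V
  have hcore : pCore p (Y ⧸ V) = (pCore p Y).map (QuotientGroup.mk' V) :=
    pCore_quotient_map V hVp
  have hq' : HasNormalPComplement p ((Y ⧸ V) ⧸ pCore p (Y ⧸ V)) := by
    have e1 : (Y ⧸ V) ⧸ pCore p (Y ⧸ V) ≃* (Y ⧸ V) ⧸ (pCore p Y).map (QuotientGroup.mk' V) :=
      QuotientGroup.quotientMulEquivOfEq hcore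
    have e2 : (Y ⧸ V) ⧸ (pCore p Y).map (QuotientGroup.mk' V) ≃* Y ⧸ pCore p Y :=
      QuotientGroup.quotientQuotientEquivQuotient V (pCore p Y) hVH
    exact hasNPC_of_equiv (e1.trans e2).symm hq
  have hVT : V ≤ (T : Subgroup Y) := hVH.trans (Cfsg.Agent.Lib.helper39.pCore_le_sylow T)
  have hcm : ((T : Subgroup Y).map (QuotientGroup.mk' V)).comap (QuotientGroup.mk' V) =
      (T : Subgroup Y) := by
    rw [Subgroup.comap_map_eq, QuotientGroup.ker_mk', sup_eq_left.2 hVT]
  have hT' : IsCoatom ((T.mapSurjective hπ : Sylow p (Y ⧸ V)) : Subgroup (Y ⧸ V)) := by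
    rw [Sylow.coe_mapSurjective]
    refine ⟨fun h => hT.1 ?_, fun K hK => ?_⟩
    · rw [← hcm, h, Subgroup.comap_top]
    · have h1 : (T : Subgroup Y) ≤ K.comap (QuotientGroup.mk' V) := by
        rw [← hcm]; exact Subgroup.comap_mono hK.le
      have h2 : (T : Subgroup Y) ≠ K.comap (QuotientGroup.mk' V) := by
        intro h
        apply hK.ne
        rw [h, Subgroup.map_comap_eq_self_of_surjective hπ]
      have h3 := hT.2 _ (lt_of_le_of_ne h1 h2)
      rw [← Subgroup.map_comap_eq_self_of_surjective hπ K, h3,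
        Subgroup.map_top_of_surjective _ hπ]
  have hMn : (U.map (QuotientGroup.mk' V)).Normal := hUn.map _ hπ
  have hcU : (U.map (QuotientGroup.mk' V)).comap (QuotientGroup.mk' V) = U := by
    rw [Subgroup.comap_map_eq, QuotientGroup.ker_mk', sup_eq_left.2 hlt.le]
  have hMmin : ∀ L : Subgroup (Y ⧸ V), L.Normal → L ≤ U.map (QuotientGroup.mk' V) →
      L = ⊥ ∨ L = U.map (QuotientGroup.mk' V) := by
    intro L hLn hLM
    have h1 : V ≤ L.comap (QuotientGroup.mk' V) := by
      intro v hv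
      rw [Subgroup.mem_comap]
      have : (QuotientGroup.mk' V) v = 1 := by
        rw [← MonoidHom.mem_ker, QuotientGroup.ker_mk']; exact hv
      rw [this]; exact L.one_mem
    have h2 : L.comap (QuotientGroup.mk' V) ≤ U := by
      rw [← hcU]; exact Subgroup.comap_mono hLM
    rcases hmin _ (hLn.comap _) h1 h2 with h | h
    · left
      rw [← Subgroup.map_comap_eq_self_of_surjective hπ L, h, QuotientGroup.map_mk'_self]
    · right
      rw [← Subgroup.map_comap_eq_self_of_surjective hπ L, h]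
  have hMH : U.map (QuotientGroup.mk' V) ≤ pCore p (Y ⧸ V) := by
    rw [hcore]; exact Subgroup.map_mono hU
  have hgT' : (QuotientGroup.mk' V) g ∈
      ((T.mapSurjective hπ : Sylow p (Y ⧸ V)) : Subgroup (Y ⧸ V)) := by
    rw [Sylow.coe_mapSurjective]; exact Subgroup.mem_map_of_mem _ hgT
  have hgH' : (QuotientGroup.mk' V) g ∉ pCore p (Y ⧸ V) := by
    intro h
    apply hgH
    rw [hcore] at h
    have h1 : g ∈ ((pCore p Y).map (QuotientGroup.mk' V)).comap (QuotientGroup.mk' V) := h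
    rw [Subgroup.comap_map_eq, QuotientGroup.ker_mk', sup_eq_left.2 hVH] at h1
    exact h1
  have hit' : iterCommutator (U.map (QuotientGroup.mk' V))
      (Subgroup.zpowers ((QuotientGroup.mk' V) g)) (p - 1) = ⊥ := by
    rw [← MonoidHom.map_zpowers, ← map_iterCommutator, Subgroup.map_eq_bot_iff,
      QuotientGroup.ker_mk']
    exact hit
  have hcent := engel_core hq' (T.mapSurjective hπ) hT' (U.map (QuotientGroup.mk' V)) hMmin hMH
    ((QuotientGroup.mk' V) g) hgT' hgH' hit'
  have h5 : ⁅Subgroup.zpowers ((QuotientGroup.mk' V) g), U.map (QuotientGroup.mk' V)⁆ = ⊥ := by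
    rw [Subgroup.commutator_eq_bot_iff_le_centralizer]
    exact (Subgroup.zpowers_le).2 hcent
  rw [Subgroup.commutator_comm, ← MonoidHom.map_zpowers, ← Subgroup.map_commutator,
    Subgroup.map_eq_bot_iff, QuotientGroup.ker_mk'] at h5
  exact h5

end Cfsg.Agent.Lib.helper40
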