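import Mathlib
import Cfsg.Agent.Lib.helper3.PGroupFrattini

/-!
Transfer evaluation at elements of minimal order (helper40).

* `fx H ϕ w q`: the contribution of a fixed coset `q = gH` of `w` to the transfer: `ϕ (g⁻¹ w g)`
  (and `1` if `q` is not fixed by `w`).
* `transfer_eq_prod_fx`: if `w` has `p`-power order and `ϕ (g⁻¹ w ^ n g) = 1` whenever `p ∣ n`,
  then `transfer ϕ w = ∏ q, fx H ϕ w q`.
-/

set_option autoImplicit false

namespace Cfsg.Agent.Lib.helper40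

open MulAction

open scoped commutatorElement

section fx

variable {G : Type*} [Group G] {A : Type*} [CommGroup A]

/-- the contribution of the coset `q` to the transfer of `w`, when `q` is fixed by `w`. -/
noncomputable def fx (H : Subgroup G) (ϕ : H →* A) (w : G) (q : G ⧸ H) : A :=
  open Classical in if h : q.out⁻¹ * w * q.out ∈ H then ϕ ⟨_, h⟩ else 1

theorem fx_mk (H : Subgroup G) (ϕ : H →* A) (w g : G) (h : g⁻¹ * w * g ∈ H) :
    fx H ϕ w (g : G ⧸ H) = ϕ ⟨_, h⟩ := by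
  classical
  obtain ⟨h₀, hh₀⟩ := QuotientGroup.mk_out_eq_mul H g
  have e : (g : G ⧸ H).out⁻¹ * w * (g : G ⧸ H).out = (h₀ : G)⁻¹ * (g⁻¹ * w * g) * h₀ := by
    rw [hh₀]; group
  have hm : (g : G ⧸ H).out⁻¹ * w * (g : G ⧸ H).out ∈ H := by
    rw [e]; exact H.mul_mem (H.mul_mem (H.inv_mem h₀.2) h) h₀.2
  unfold fx
  rw [dif_pos hm]
  have e2 : (⟨_, hm⟩ : H) = h₀⁻¹ * ⟨_, h⟩ * h₀ := Subtype.ext e
  rw [e2, map_mul, map_mul, map_inv, mul_comm, mul_inv_cancel_left]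

theorem fx_of_not_mem (H : Subgroup G) (ϕ : H →* A) (w g : G) (h : g⁻¹ * w * g ∉ H) :
    fx H ϕ w (g : G ⧸ H) = 1 := by
  classical
  obtain ⟨h₀, hh₀⟩ := QuotientGroup.mk_out_eq_mul H g
  have e : (g : G ⧸ H).out⁻¹ * w * (g : G ⧸ H).out = (h₀ : G)⁻¹ * (g⁻¹ * w * g) * h₀ := by
    rw [hh₀]; group
  have hm : (g : G ⧸ H).out⁻¹ * w * (g : G ⧸ H).out ∉ H := by
    intro hc
    rw [e] at hc
    apply h
    have := H.mul_mem (H.mul_mem h₀.2 hc) (H.inv_mem h₀.2)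
    simpa [mul_assoc] using this
  unfold fx
  rw [dif_neg hm]

theorem smul_mk_eq_iff (H : Subgroup G) (w g : G) :
    w • (g : G ⧸ H) = (g : G ⧸ H) ↔ g⁻¹ * w * g ∈ H := by
  rw [MulAction.Quotient.smul_mk, eq_comm, QuotientGroup.eq, smul_eq_mul, mul_assoc]

theorem fx_of_not_fixed (H : Subgroup G) (ϕ : H →* A) (w : G) (q : G ⧸ H) (h : w • q ≠ q) :
    fx H ϕ w q = 1 := by
  induction q using QuotientGroup.induction_on with
  | H g =>
    apply fx_of_not_mem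
    intro hc
    exact h ((smul_mk_eq_iff H w g).2 hc)

theorem fx_smul (H : Subgroup G) (ϕ : H →* A) (w b : G) (q : G ⧸ H) :
    fx H ϕ w (b • q) = fx H ϕ (b⁻¹ * w * b) q := by
  induction q using QuotientGroup.induction_on with
  | H g =>
    rw [MulAction.Quotient.smul_mk, smul_eq_mul]
    have e : (b * g)⁻¹ * w * (b * g) = g⁻¹ * (b⁻¹ * w * b) * g := by group
    by_cases h : g⁻¹ * (b⁻¹ * w * b) * g ∈ H
    · rw [fx_mk H ϕ _ g h, fx_mk H ϕ w (b * g) (by rw [e]; exact h)]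
      congr 1
      exact Subtype.ext e
    · rw [fx_of_not_mem H ϕ _ g h, fx_of_not_mem H ϕ w (b * g) (by rw [e]; exact h)]

theorem minimalPeriod_dvd_pow {p : ℕ} [hp : Fact p.Prime] (H : Subgroup G) (w : G)
    (hw : ∃ k, orderOf w = p ^ k) (q : G ⧸ H)
    (hne : Function.minimalPeriod (w • ·) q ≠ 1) : p ∣ Function.minimalPeriod (w • ·) q := by
  obtain ⟨k, hk⟩ := hw
  have h1 : Function.minimalPeriod (w • ·) q ∣ p ^ k := by
    apply Function.IsPeriodicPt.minimalPeriod_dvd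
    show (w • ·)^[p ^ k] q = q
    rw [smul_iterate]
    show w ^ p ^ k • q = q
    rw [← hk, pow_orderOf_eq_one, one_smul]
  obtain ⟨j, -, hj⟩ := (Nat.dvd_prime_pow hp.out).1 h1
  rw [hj]
  rcases Nat.eq_zero_or_pos j with h0 | h0
  · rw [hj, h0, pow_zero] at hne
    exact absurd rfl hne
  · exact dvd_pow_self p (Nat.pos_iff_ne_zero.1 h0)

/-- **Transfer as a product over fixed cosets.** -/
theorem transfer_eq_prod_fx {p : ℕ} [hp : Fact p.Prime] (H : Subgroup G) [H.FiniteIndex]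
    (ϕ : H →* A) (w : G) (hw : ∃ k, orderOf w = p ^ k)
    (hmin : ∀ (g : G) (n : ℕ), p ∣ n → ∀ h : g⁻¹ * w ^ n * g ∈ H, ϕ ⟨_, h⟩ = 1)
    [Fintype (G ⧸ H)] :
    MonoidHom.transfer ϕ w = ∏ q : G ⧸ H, fx H ϕ w q := by
  classical
  let _ : Fintype (Quotient (orbitRel (Subgroup.zpowers w) (G ⧸ H))) := Fintype.ofFinite _
  rw [MonoidHom.transfer_eq_prod_quotient_orbitRel_zpowers_quot]
  rw [← (selfEquivSigmaOrbits (Subgroup.zpowers w) (G ⧸ H)).symm.prod_comp]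
  rw [Fintype.prod_sigma]
  refine Fintype.prod_congr _ _ (fun ω => ?_)
  have hval : ∀ y : orbit (Subgroup.zpowers w) ω.out,
      (selfEquivSigmaOrbits (Subgroup.zpowers w) (G ⧸ H)).symm ⟨ω, y⟩ = (y : G ⧸ H) := fun y => rfl
  simp only [hval]
  by_cases hn : Function.minimalPeriod (w • ·) ω.out = 1
  · have hfixed : w • ω.out = ω.out := by
      have := Function.isPeriodicPt_minimalPeriod (w • ·) ω.out
      rw [hn] at this
      exact this
    have hz : ∀ a ∈ Subgroup.zpowers w, a • ω.out = ω.out := by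
      intro a ha
      obtain ⟨k, rfl⟩ := ha
      have h1 : w ∈ stabilizer G ω.out := hfixed
      exact (stabilizer G ω.out).zpow_mem h1 k
    rw [Fintype.prod_eq_single (⟨ω.out, mem_orbit_self _⟩ : orbit (Subgroup.zpowers w) ω.out)]
    · have hm : ω.out.out⁻¹ * w * ω.out.out ∈ H := by
        have := QuotientGroup.out_conj_pow_minimalPeriod_mem H w ω.out
        rw [hn, pow_one] at this
        exact this
      show _ = fx H ϕ w ω.out
      unfold fx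
      rw [dif_pos hm]
      congr 1
      apply Subtype.ext
      show ω.out.out⁻¹ * w ^ Function.minimalPeriod (w • ·) ω.out * ω.out.out =
        ω.out.out⁻¹ * w * ω.out.out
      rw [hn, pow_one]
    · rintro ⟨y, hy⟩ hne
      exfalso
      apply hne
      apply Subtype.ext
      obtain ⟨a, rfl⟩ := hy
      exact hz a.1 a.2
  · have hp1 := minimalPeriod_dvd_pow H w hw ω.out hn
    rw [hmin _ _ hp1]
    symm
    apply Finset.prod_eq_one
    rintro ⟨y, hy⟩ -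
    apply fx_of_not_fixed
    intro hc
    apply hn
    obtain ⟨a, rfl⟩ := hy
    have hcomm : w * (a : G) = (a : G) * w := by
      obtain ⟨k, hk⟩ := a.2
      rw [← hk]
      exact (Commute.zpow_right (Commute.refl w) k).eq
    have hfixed : w • ω.out = ω.out := by
      have h1 : (a : G) • w • ω.out = (a : G) • ω.out := by
        rw [smul_smul, ← hcomm, ← smul_smul]
        exact hc
      exact smul_left_cancel _ h1
    exact Function.minimalPeriod_eq_one_iff_isFixedPt.2 hfixed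

/-- functoriality of the transfer in the target -/
theorem transfer_comp' {B : Type*} [CommGroup B] (H : Subgroup G) [H.FiniteIndex] (ϕ : H →* A)
    (ψ : A →* B) (g : G) : MonoidHom.transfer (ψ.comp ϕ) g = ψ (MonoidHom.transfer ϕ g) := by
  let T : H.LeftTransversal := default
  rw [MonoidHom.transfer_def _ T, MonoidHom.transfer_def _ T]
  let _ := H.fintypeQuotientOfFiniteIndex
  unfold Subgroup.leftTransversals.diff
  rw [map_prod]
  rfl

theorem transfer_pow' (H : Subgroup G) [H.FiniteIndex] (ϕ : H →* A) (n : ℕ) (g : G) :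
    MonoidHom.transfer (ϕ ^ n) g = MonoidHom.transfer ϕ g ^ n := by
  have h := transfer_comp' H ϕ (powMonoidHom n : A →* A) g
  have e : (powMonoidHom n : A →* A).comp ϕ = ϕ ^ n := by
    ext x; rfl
  rw [e] at h
  exact h

/-- the transfer of the restriction of a homomorphism defined on the whole group -/
theorem transfer_restrict (H : Subgroup G) [H.FiniteIndex] (ν : G →* A) (g : G) :
    MonoidHom.transfer (ν.comp H.subtype) g = ν g ^ H.index := by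
  classical
  let _ : Fintype (G ⧸ H) := H.fintypeQuotientOfFiniteIndex
  let _ : Fintype (Quotient (orbitRel (Subgroup.zpowers g) (G ⧸ H))) := Fintype.ofFinite _
  rw [MonoidHom.transfer_eq_prod_quotient_orbitRel_zpowers_quot,
    Subgroup.index_eq_sum_minimalPeriod H g, ← Finset.prod_pow_eq_pow_sum]
  refine Finset.prod_congr rfl (fun q _ => ?_)
  show ν (q.out.out⁻¹ * g ^ Function.minimalPeriod (g • ·) q.out * q.out.out) = _
  rw [map_mul, map_mul, map_inv, map_pow, mul_comm, mul_inv_cancel_left]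

end fx

section orbit

variable {Γ : Type*} [Group Γ] {A : Type*} [CommGroup A]

/-- the homomorphism `d ↦ θ (g₁⁻¹ d g₁)` on the stabilizer in `M` of the coset `g₁ H`. -/
noncomputable def stabHom (H : Subgroup Γ) (θ : H →* A) (M : Subgroup Γ) (g₁ : Γ) :
    stabilizer M ((g₁ : Γ) : Γ ⧸ H) →* A where
  toFun d := θ ⟨g₁⁻¹ * ((d : M) : Γ) * g₁, (smul_mk_eq_iff H _ g₁).1 d.2⟩
  map_one' := by
    have e : (⟨g₁⁻¹ * (((1 : stabilizer M ((g₁ : Γ) : Γ ⧸ H)) : M) : Γ) * g₁,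
        (smul_mk_eq_iff H _ g₁).1 (1 : stabilizer M ((g₁ : Γ) : Γ ⧸ H)).2⟩ : H) = 1 := by
      apply Subtype.ext
      simp
    rw [e, map_one]
  map_mul' := by
    intro a b
    rw [← map_mul]
    congr 1
    apply Subtype.ext
    simp [mul_assoc]

theorem stabHom_apply (H : Subgroup Γ) (θ : H →* A) (M : Subgroup Γ) (g₁ : Γ)
    (d : stabilizer M ((g₁ : Γ) : Γ ⧸ H)) (h : g₁⁻¹ * ((d : M) : Γ) * g₁ ∈ H) :
    stabHom H θ M g₁ d = θ ⟨_, h⟩ := rfl

theorem mem_stabilizer_sub_iff (H : Subgroup Γ) (M : Subgroup Γ) (g₁ : Γ) (m : M) :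
    m ∈ stabilizer M ((g₁ : Γ) : Γ ⧸ H) ↔ g₁⁻¹ * (m : Γ) * g₁ ∈ H :=
  smul_mk_eq_iff H (m : Γ) g₁

/-- **the product of `fx` over an orbit of a finite subgroup is a transfer.** -/
theorem prod_orbit_fx {p : ℕ} [hp : Fact p.Prime] (H : Subgroup Γ) (θ : H →* A)
    (M : Subgroup Γ) [Finite M] (g₁ : Γ) (w : Γ) (hwM : w ∈ M) (hw : ∃ k, orderOf w = p ^ k)
    (hmin : ∀ (g : Γ) (n : ℕ), p ∣ n → ∀ h : g⁻¹ * w ^ n * g ∈ H, θ ⟨_, h⟩ = 1)
    [Fintype (orbit M ((g₁ : Γ) : Γ ⧸ H))] :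
    ∏ y : orbit M ((g₁ : Γ) : Γ ⧸ H), fx H θ w (y : Γ ⧸ H) =
      MonoidHom.transfer (stabHom H θ M g₁) (⟨w, hwM⟩ : M) := by
  classical
  let _ : Fintype (M ⧸ stabilizer M ((g₁ : Γ) : Γ ⧸ H)) := Fintype.ofFinite _
  have hw' : ∃ k, orderOf (⟨w, hwM⟩ : M) = p ^ k := by
    obtain ⟨k, hk⟩ := hw
    exact ⟨k, by rw [← hk]; exact Subgroup.orderOf_mk w hwM⟩
  rw [transfer_eq_prod_fx (p := p) (stabilizer M ((g₁ : Γ) : Γ ⧸ H)) (stabHom H θ M g₁)
    ⟨w, hwM⟩ hw']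
  · symm
    refine Fintype.prod_equiv (orbitEquivQuotientStabilizer M ((g₁ : Γ) : Γ ⧸ H)).symm _ _ ?_
    intro q
    induction q using QuotientGroup.induction_on with
    | H m =>
      have e1 : (((orbitEquivQuotientStabilizer M ((g₁ : Γ) : Γ ⧸ H)).symm
          (m : M ⧸ stabilizer M ((g₁ : Γ) : Γ ⧸ H)) : orbit M ((g₁ : Γ) : Γ ⧸ H)) : Γ ⧸ H) =
          (((m : Γ) * g₁ : Γ) : Γ ⧸ H) := by
        rw [orbitEquivQuotientStabilizer_symm_apply]
        rfl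
      rw [e1]
      have e : ((m : Γ) * g₁)⁻¹ * w * ((m : Γ) * g₁) =
          g₁⁻¹ * ((m⁻¹ * ⟨w, hwM⟩ * m : M) : Γ) * g₁ := by
        simp [mul_assoc]
      by_cases h : ((m : Γ) * g₁)⁻¹ * w * ((m : Γ) * g₁) ∈ H
      · have h2 : m⁻¹ * ⟨w, hwM⟩ * m ∈ stabilizer M ((g₁ : Γ) : Γ ⧸ H) := by
          rw [mem_stabilizer_sub_iff, ← e]; exact h
        rw [fx_mk H θ w _ h, fx_mk _ (stabHom H θ M g₁) ⟨w, hwM⟩ m h2]
        rw [stabHom_apply H θ M g₁ _ (by rw [← e]; exact h)]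
        congr 1
        exact Subtype.ext e.symm
      · have h2 : m⁻¹ * ⟨w, hwM⟩ * m ∉ stabilizer M ((g₁ : Γ) : Γ ⧸ H) := by
          rw [mem_stabilizer_sub_iff, ← e]; exact h
        rw [fx_of_not_mem H θ w _ h, fx_of_not_mem _ (stabHom H θ M g₁) ⟨w, hwM⟩ m h2]
  · intro m n hn h
    have e : ((m : Γ) * g₁)⁻¹ * w ^ n * ((m : Γ) * g₁) =
        g₁⁻¹ * ((m⁻¹ * ⟨w, hwM⟩ ^ n * m : M) : Γ) * g₁ := by
      simp [mul_assoc]
    have h3 : ((m : Γ) * g₁)⁻¹ * w ^ n * ((m : Γ) * g₁) ∈ H := by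
      rw [e]; exact (mem_stabilizer_sub_iff H M g₁ _).1 h
    have h4 := hmin ((m : Γ) * g₁) n hn h3
    rw [stabHom_apply H θ M g₁ ⟨_, h⟩ (by rw [← e]; exact h3)]
    rw [← h4]
    congr 1
    exact Subtype.ext e.symm

end orbit

section pgroup

variable {Γ : Type*} [Group Γ] {A : Type*} [CommGroup A]

/-- a proper subgroup of a finite `p`-group `B ≤ Γ` lies in a subgroup of index `p` of `B`,
normalized by `B`. -/
theorem exists_relIndex_p_ge {p : ℕ} [Fact p.Prime] (B : Subgroup Γ) [Finite B]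
    (hB : IsPGroup p B) (D : Subgroup Γ) (hDB : D ≤ B) (hne : D ≠ B) :
    ∃ M : Subgroup Γ, D ≤ M ∧ M ≤ B ∧ M.relIndex B = p ∧
      ∀ b ∈ B, ∀ m ∈ M, b * m * b⁻¹ ∈ M := by
  have h1 : D.subgroupOf B ≠ ⊤ := by
    intro h
    exact hne (le_antisymm hDB (Subgroup.subgroupOf_eq_top.1 h))
  obtain ⟨M', hM', hDM'⟩ := (eq_top_or_exists_le_coatom (D.subgroupOf B)).resolve_left h1
  obtain ⟨hn, hidx⟩ := Cfsg.Agent.Lib.helper3.coatom_normal_index hB hM'
  refine ⟨M'.map B.subtype, ?_, ?_, ?_, ?_⟩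
  · intro d hd
    exact ⟨⟨d, hDB hd⟩, hDM' (Subgroup.mem_subgroupOf.2 hd), rfl⟩
  · exact Subgroup.map_subtype_le M'
  · show ((M'.map B.subtype).comap B.subtype).index = p
    rw [Subgroup.comap_map_eq_self_of_injective B.subtype_injective]
    exact hidx
  · rintro b hb m ⟨m', hm', rfl⟩
    exact ⟨⟨b, hb⟩ * m' * ⟨b, hb⟩⁻¹, hn.conj_mem m' hm' ⟨b, hb⟩, rfl⟩

/-- cosets of a normal subgroup of index `p` are represented by the powers `z ^ i`, `i < p`. -/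
theorem cosets_of_relIndex_p {p : ℕ} [hp : Fact p.Prime] (B M : Subgroup Γ)
    (hidx : M.relIndex B = p) (hnorm : ∀ b ∈ B, ∀ m ∈ M, b * m * b⁻¹ ∈ M) (z : Γ) (hz : z ∈ B)
    (hzM : z ∉ M) :
    (∀ b ∈ B, ∃ i < p, (z ^ i)⁻¹ * b ∈ M) ∧
      (∀ i < p, ∀ j < p, (z ^ j)⁻¹ * z ^ i ∈ M → i = j) := by
  have hn : (M.subgroupOf B).Normal := by
    constructor
    intro m hm b
    exact hnorm b b.2 m hm
  have hcard : Nat.card (B ⧸ M.subgroupOf B) = p := by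
    rw [← Subgroup.index_eq_card]; exact hidx
  set zb : B ⧸ M.subgroupOf B := ((⟨z, hz⟩ : B) : B ⧸ M.subgroupOf B) with hzb
  have hz1 : zb ≠ 1 := by
    intro h
    exact hzM ((QuotientGroup.eq_one_iff (⟨z, hz⟩ : B)).1 h)
  have : Finite (B ⧸ M.subgroupOf B) := Nat.finite_of_card_ne_zero (by rw [hcard]; exact hp.out.ne_zero)
  have hord : orderOf zb = p := by
    have h1 : orderOf zb ∣ p := by rw [← hcard]; exact orderOf_dvd_natCard zb
    rcases (Nat.dvd_prime hp.out).1 h1 with h | h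
    · exact absurd (orderOf_eq_one_iff.1 h) hz1
    · exact h
  have htop : Subgroup.zpowers zb = ⊤ := zpowers_eq_top_of_prime_card hcard hz1
  constructor
  · intro b hb
    have hmem : ((⟨b, hb⟩ : B) : B ⧸ M.subgroupOf B) ∈ Subgroup.zpowers zb := by
      rw [htop]; exact Subgroup.mem_top _
    obtain ⟨k, hk⟩ := hmem
    have hk' : zb ^ (k % (p : ℤ)).toNat = ((⟨b, hb⟩ : B) : B ⧸ M.subgroupOf B) := by
      have hpos : (0 : ℤ) ≤ k % (p : ℤ) := Int.emod_nonneg _ (by exact_mod_cast hp.out.ne_zero)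
      rw [← zpow_natCast, Int.toNat_of_nonneg hpos, ← hord, zpow_mod_orderOf]
      exact hk
    refine ⟨(k % (p : ℤ)).toNat, ?_, ?_⟩
    · have hlt : k % (p : ℤ) < p := Int.emod_lt_of_pos _ (by exact_mod_cast hp.out.pos)
      have hpos : (0 : ℤ) ≤ k % (p : ℤ) := Int.emod_nonneg _ (by exact_mod_cast hp.out.ne_zero)
      omega
    · have h2 : (((⟨z, hz⟩ : B) ^ (k % (p : ℤ)).toNat : B) : B ⧸ M.subgroupOf B) =
          ((⟨b, hb⟩ : B) : B ⧸ M.subgroupOf B) := by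
        rw [QuotientGroup.mk_pow]; exact hk'
      have h3 := QuotientGroup.eq.1 h2
      exact h3
  · intro i hi j hj hmem
    have h2 : zb ^ j = zb ^ i := by
      rw [hzb, ← QuotientGroup.mk_pow, ← QuotientGroup.mk_pow]
      exact QuotientGroup.eq.2 hmem
    have := pow_injOn_Iio_orderOf (x := zb) (by rw [hord]; exact hj) (by rw [hord]; exact hi) h2
    exact this.symm

/-- homomorphisms to commutative groups kill the commutator subgroup. -/
theorem hom_commutator_eq_one (M : Subgroup Γ) (ψ : M →* A) (c : Γ) (hc : c ∈ ⁅M, M⁆)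
    (h : c ∈ M) : ψ ⟨c, h⟩ = 1 := by
  have hle : ⁅M, M⁆ ≤ (ψ.ker).map M.subtype := by
    rw [Subgroup.commutator_le]
    intro a ha b hb
    refine ⟨⁅(⟨a, ha⟩ : M), ⟨b, hb⟩⁆, ?_, rfl⟩
    show ⁅(⟨a, ha⟩ : M), ⟨b, hb⟩⁆ ∈ ψ.ker
    rw [MonoidHom.mem_ker, map_commutatorElement]
    exact commutatorElement_eq_one_iff_commute.2 (Commute.all _ _)
  obtain ⟨k, hk, hkc⟩ := hle hc
  have : (⟨c, h⟩ : M) = k := Subtype.ext hkc.symm
  rw [this]
  exact hk

/-- values of a homomorphism on a product of a list of elements of a subgroup. -/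
theorem hom_list_prod (M : Subgroup Γ) (ψ : M →* A) (f : ℕ → Γ) (hf : ∀ i, f i ∈ M) (n : ℕ) :
    ∃ h : ((List.range n).map f).prod ∈ M,
      ψ ⟨_, h⟩ = ∏ i ∈ Finset.range n, ψ ⟨f i, hf i⟩ := by
  induction n with
  | zero =>
    have h0 : ((List.range 0).map f).prod ∈ M := by simp
    refine ⟨h0, ?_⟩
    have e0 : (⟨_, h0⟩ : M) = 1 := Subtype.ext (by simp)
    rw [e0, map_one]
    simp
  | succ n ih =>
    obtain ⟨h, e⟩ := ih
    have e1 : ((List.range (n + 1)).map f).prod = ((List.range n).map f).prod * f n := by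
      rw [List.range_succ, List.map_append, List.prod_append]
      simp
    refine ⟨by rw [e1]; exact M.mul_mem h (hf n), ?_⟩
    rw [Finset.prod_range_succ, ← e, ← map_mul]
    congr 1
    exact Subtype.ext e1

end pgroup

section main

variable {Γ : Type*} [Group Γ] {A : Type*} [CommGroup A] {p : ℕ} [hp : Fact p.Prime]

theorem orderOf_of_mem_pgroup (B : Subgroup Γ) (hB : IsPGroup p B) (w : Γ) (hw : w ∈ B) :
    ∃ k, orderOf w = p ^ k := by
  obtain ⟨k, hk⟩ := (IsPGroup.iff_orderOf.1 hB) ⟨w, hw⟩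
  exact ⟨k, by rw [← hk, Subgroup.orderOf_mk]⟩

/-- **non-fixed orbits contribute `1`.** -/
theorem prod_orbit_eq_one (H : Subgroup Γ) (θ : H →* A) (B : Subgroup Γ) [Finite B]
    (hB : IsPGroup p B) (u : Γ) (hu : u ∈ B) (κ : B →* A)
    (hmin : ∀ (g : Γ) (n : ℕ), p ∣ n → ∀ h : g⁻¹ * u ^ n * g ∈ H, θ ⟨_, h⟩ = 1)
    (hstab : ∀ (g d : Γ) (hd : d ∈ B) (h : g⁻¹ * d * g ∈ H), θ ⟨_, h⟩ ^ p = κ ⟨d, hd⟩ ^ p)
    (hκ : κ ⟨u, hu⟩ ^ p = 1)
    (hstar : ∀ M : Subgroup Γ, M ≤ B → M.relIndex B = p → u ∈ M →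
      ∃ z ∈ B, z ∉ M ∧ ∃ m' ∈ M,
        ((List.range p).map (fun i => (z ^ i)⁻¹ * u * z ^ i)).prod * (m' ^ p)⁻¹ ∈ ⁅M, M⁆)
    (g₁ : Γ) (hfixu : g₁⁻¹ * u * g₁ ∈ H) (hnotfix : ¬ ∀ b ∈ B, g₁⁻¹ * b * g₁ ∈ H)
    [Fintype (orbit B ((g₁ : Γ) : Γ ⧸ H))] :
    ∏ y : orbit B ((g₁ : Γ) : Γ ⧸ H), fx H θ u (y : Γ ⧸ H) = 1 := by
  classical
  have hDB : B ⊓ stabilizer Γ ((g₁ : Γ) : Γ ⧸ H) ≤ B := inf_le_left
  have hDne : B ⊓ stabilizer Γ ((g₁ : Γ) : Γ ⧸ H) ≠ B := by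
    intro h
    apply hnotfix
    intro b hb
    have hb' : b ∈ B ⊓ stabilizer Γ ((g₁ : Γ) : Γ ⧸ H) := by rw [h]; exact hb
    exact (smul_mk_eq_iff H b g₁).1 hb'.2
  have huD : u ∈ B ⊓ stabilizer Γ ((g₁ : Γ) : Γ ⧸ H) := ⟨hu, (smul_mk_eq_iff H u g₁).2 hfixu⟩
  obtain ⟨M, hDM, hMB, hidx, hnorm⟩ := exists_relIndex_p_ge B hB _ hDB hDne
  have huM : u ∈ M := hDM huD
  obtain ⟨z, hzB, hzM, m', hm', hprod⟩ := hstar M hMB hidx huM
  obtain ⟨hcos, hinj⟩ := cosets_of_relIndex_p B M hidx hnorm z hzB hzM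
  have hfinM : Finite M :=
    Finite.of_injective (Subgroup.inclusion hMB) (Subgroup.inclusion_injective hMB)
  have hui : ∀ i : ℕ, (z ^ i)⁻¹ * u * z ^ i ∈ M := fun i => by
    have := hnorm ((z ^ i)⁻¹) (B.inv_mem (B.pow_mem hzB i)) u huM
    simpa using this
  let _ : Fintype (orbit M ((g₁ : Γ) : Γ ⧸ H)) := (Set.finite_range _).fintype
  rw [Finset.prod_set_coe (s := orbit B ((g₁ : Γ) : Γ ⧸ H)) (f := fx H θ u)]
  have hset : (orbit B ((g₁ : Γ) : Γ ⧸ H)).toFinset = (Finset.range p).biUnion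
      (fun i => ((orbit M ((g₁ : Γ) : Γ ⧸ H)).toFinset).image (fun y => z ^ i • y)) := by
    ext y
    simp only [Set.mem_toFinset, Finset.mem_biUnion, Finset.mem_range, Finset.mem_image]
    constructor
    · rintro ⟨b, rfl⟩
      obtain ⟨i, hi, hm⟩ := hcos b b.2
      refine ⟨i, hi, (⟨_, hm⟩ : M) • ((g₁ : Γ) : Γ ⧸ H), ⟨⟨_, hm⟩, rfl⟩, ?_⟩
      show z ^ i • (((z ^ i)⁻¹ * (b : Γ)) • ((g₁ : Γ) : Γ ⧸ H)) = (b : Γ) • ((g₁ : Γ) : Γ ⧸ H)
      rw [smul_smul, mul_inv_cancel_left]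
    · rintro ⟨i, hi, y', ⟨m, rfl⟩, rfl⟩
      refine ⟨⟨z ^ i * m, B.mul_mem (B.pow_mem hzB i) (hMB m.2)⟩, ?_⟩
      show (z ^ i * (m : Γ)) • ((g₁ : Γ) : Γ ⧸ H) = z ^ i • ((m : Γ) • ((g₁ : Γ) : Γ ⧸ H))
      rw [mul_smul]
  rw [hset, Finset.prod_biUnion]
  · have hinner : ∀ i ∈ Finset.range p,
        ∏ y ∈ ((orbit M ((g₁ : Γ) : Γ ⧸ H)).toFinset).image (fun y => z ^ i • y), fx H θ u y =
          MonoidHom.transfer (stabHom H θ M g₁) ⟨(z ^ i)⁻¹ * u * z ^ i, hui i⟩ := by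
      intro i _
      rw [Finset.prod_image (fun a _ b _ h => smul_left_cancel _ h)]
      rw [← Finset.prod_set_coe (s := orbit M ((g₁ : Γ) : Γ ⧸ H))]
      have hmin_i : ∀ (g : Γ) (n : ℕ), p ∣ n →
          ∀ h : g⁻¹ * ((z ^ i)⁻¹ * u * z ^ i) ^ n * g ∈ H, θ ⟨_, h⟩ = 1 := by
        intro g n hn h
        have e0 : ((z ^ i)⁻¹ * u * z ^ i) ^ n = (z ^ i)⁻¹ * u ^ n * z ^ i := by
          have := conj_pow (a := (z ^ i)⁻¹) (b := u) (i := n)
          simpa using this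
        have e : g⁻¹ * ((z ^ i)⁻¹ * u * z ^ i) ^ n * g = (z ^ i * g)⁻¹ * u ^ n * (z ^ i * g) := by
          rw [e0]; group
        have h' : (z ^ i * g)⁻¹ * u ^ n * (z ^ i * g) ∈ H := by rw [← e]; exact h
        rw [← hmin (z ^ i * g) n hn h']
        congr 1
        exact Subtype.ext e
      rw [← prod_orbit_fx (p := p) H θ M g₁ _ (hui i)
        (orderOf_of_mem_pgroup B hB _ (hMB (hui i))) hmin_i]
      exact Fintype.prod_congr _ _ (fun y => fx_smul H θ u (z ^ i) y)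
    rw [Finset.prod_congr rfl hinner]
    obtain ⟨hL, eL⟩ := hom_list_prod M (MonoidHom.transfer (stabHom H θ M g₁))
      (fun i => (z ^ i)⁻¹ * u * z ^ i) hui p
    rw [← eL]
    have hcM : ((List.range p).map (fun i => (z ^ i)⁻¹ * u * z ^ i)).prod * (m' ^ p)⁻¹ ∈ M :=
      M.mul_mem hL (M.inv_mem (M.pow_mem hm' p))
    have e1 : (⟨_, hL⟩ : M) = ⟨_, hcM⟩ * ⟨m', hm'⟩ ^ p := Subtype.ext (by simp)
    rw [e1, map_mul, hom_commutator_eq_one M _ _ hprod hcM, one_mul, map_pow, ← transfer_pow']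
    have eμ : (stabHom H θ M g₁) ^ p =
        ((κ.comp (Subgroup.inclusion hMB)) ^ p).comp (stabilizer M ((g₁ : Γ) : Γ ⧸ H)).subtype := by
      ext d
      exact hstab g₁ _ (hMB (d : M).2) ((mem_stabilizer_sub_iff H M g₁ _).1 d.2)
    rw [eμ, transfer_restrict]
    have hν : ((κ.comp (Subgroup.inclusion hMB)) ^ p) ⟨m', hm'⟩ = 1 := by
      have h1 : (κ.comp (Subgroup.inclusion hMB)) ⟨_, hcM⟩ = 1 :=
        hom_commutator_eq_one M _ _ hprod hcM
      obtain ⟨hL', eL'⟩ := hom_list_prod M (κ.comp (Subgroup.inclusion hMB))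
        (fun i => (z ^ i)⁻¹ * u * z ^ i) hui p
      have h2 : ∀ i : ℕ, (κ.comp (Subgroup.inclusion hMB)) ⟨(z ^ i)⁻¹ * u * z ^ i, hui i⟩ =
          κ ⟨u, hu⟩ := by
        intro i
        have e3 : Subgroup.inclusion hMB ⟨(z ^ i)⁻¹ * u * z ^ i, hui i⟩ =
            (⟨z ^ i, B.pow_mem hzB i⟩ : B)⁻¹ * ⟨u, hu⟩ * ⟨z ^ i, B.pow_mem hzB i⟩ := rfl
        rw [MonoidHom.comp_apply, e3, map_mul, map_mul, map_inv, mul_comm, mul_inv_cancel_left]
      rw [Finset.prod_congr rfl (fun i _ => h2 i), Finset.prod_const, Finset.card_range, hκ] at eL'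
      show (κ.comp (Subgroup.inclusion hMB)) ⟨m', hm'⟩ ^ p = 1
      rw [← map_pow]
      have e4 : (⟨m', hm'⟩ : M) ^ p = (⟨_, hcM⟩ : M)⁻¹ * ⟨_, hL'⟩ := Subtype.ext (by simp)
      rw [e4, map_mul, map_inv, h1, eL', inv_one, one_mul]
    rw [hν, one_pow]
  · intro i hi j hj hij
    rw [Function.onFun, Finset.disjoint_left]
    intro y hy1 hy2
    simp only [Finset.mem_image, Set.mem_toFinset] at hy1 hy2
    obtain ⟨y', ⟨m, rfl⟩, rfl⟩ := hy1
    obtain ⟨y'', ⟨m2, rfl⟩, h2⟩ := hy2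
    apply hij
    apply hinj i (Finset.mem_range.1 hi) j (Finset.mem_range.1 hj)
    have h3 : ((z ^ j * (m2 : Γ))⁻¹ * (z ^ i * (m : Γ))) • ((g₁ : Γ) : Γ ⧸ H) = ((g₁ : Γ) : Γ ⧸ H) := by
      have h2' : (z ^ j * (m2 : Γ)) • ((g₁ : Γ) : Γ ⧸ H) = (z ^ i * (m : Γ)) • ((g₁ : Γ) : Γ ⧸ H) := by
        rw [mul_smul, mul_smul]; exact h2
      rw [mul_smul, ← h2', inv_smul_smul]
    have h4 : (z ^ j * (m2 : Γ))⁻¹ * (z ^ i * (m : Γ)) ∈ M :=
      hDM ⟨B.mul_mem (B.inv_mem (B.mul_mem (B.pow_mem hzB j) (hMB m2.2)))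
        (B.mul_mem (B.pow_mem hzB i) (hMB m.2)), h3⟩
    have e5 : (z ^ j)⁻¹ * z ^ i =
        (m2 : Γ) * ((z ^ j * (m2 : Γ))⁻¹ * (z ^ i * (m : Γ))) * (m : Γ)⁻¹ := by group
    rw [e5]
    exact M.mul_mem (M.mul_mem m2.2 h4) (M.inv_mem m.2)

/-- **Transfer evaluation at an element of minimal order.** -/
theorem transfer_min (H : Subgroup Γ) [H.FiniteIndex] (θ : H →* A) (B : Subgroup Γ) [Finite B]
    (hB : IsPGroup p B) (u : Γ) (hu : u ∈ B) (κ : B →* A)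
    (hmin : ∀ (g : Γ) (n : ℕ), p ∣ n → ∀ h : g⁻¹ * u ^ n * g ∈ H, θ ⟨_, h⟩ = 1)
    (hfix : ∀ g : Γ, (∀ b ∈ B, g⁻¹ * b * g ∈ H) →
      ∀ h : g⁻¹ * u * g ∈ H, θ ⟨_, h⟩ = κ ⟨u, hu⟩)
    (hstab : ∀ (g d : Γ) (hd : d ∈ B) (h : g⁻¹ * d * g ∈ H), θ ⟨_, h⟩ ^ p = κ ⟨d, hd⟩ ^ p)
    (hκ : κ ⟨u, hu⟩ ^ p = 1)
    (hstar : ∀ M : Subgroup Γ, M ≤ B → M.relIndex B = p → u ∈ M →
      ∃ z ∈ B, z ∉ M ∧ ∃ m' ∈ M,
        ((List.range p).map (fun i => (z ^ i)⁻¹ * u * z ^ i)).prod * (m' ^ p)⁻¹ ∈ ⁅M, M⁆) :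
    ∃ f : ℕ, f ≡ H.index [MOD p] ∧ MonoidHom.transfer θ u = κ ⟨u, hu⟩ ^ f := by
  classical
  let _ : Fintype (Γ ⧸ H) := H.fintypeQuotientOfFiniteIndex
  let _ : Fintype (orbitRel.Quotient B (Γ ⧸ H)) := Fintype.ofFinite _
  rw [transfer_eq_prod_fx (p := p) H θ u (orderOf_of_mem_pgroup B hB u hu) hmin]
  rw [← (selfEquivSigmaOrbits B (Γ ⧸ H)).symm.prod_comp, Fintype.prod_sigma]
  have hval : ∀ (ω : orbitRel.Quotient B (Γ ⧸ H)) (y : orbit B ω.out),
      (selfEquivSigmaOrbits B (Γ ⧸ H)).symm ⟨ω, y⟩ = (y : Γ ⧸ H) := fun ω y => rfl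
  simp only [hval]
  have key : ∀ ω : orbitRel.Quotient B (Γ ⧸ H),
      ∏ y : orbit B ω.out, fx H θ u (y : Γ ⧸ H) =
        if (∀ b ∈ B, b • ω.out = ω.out) then κ ⟨u, hu⟩ else 1 := by
    intro ω
    split_ifs with hfixed
    · -- the orbit is a point
      rw [Fintype.prod_eq_single (⟨ω.out, mem_orbit_self _⟩ : orbit B ω.out)]
      · show fx H θ u ω.out = _
        obtain ⟨g, hg⟩ := QuotientGroup.mk_surjective ω.out
        rw [← hg] at hfixed ⊢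
        have hall : ∀ b ∈ B, g⁻¹ * b * g ∈ H := fun b hb => (smul_mk_eq_iff H b g).1 (hfixed b hb)
        rw [fx_mk H θ u g (hall u hu)]
        exact hfix g hall _
      · rintro ⟨y, hy⟩ hne
        exfalso
        apply hne
        apply Subtype.ext
        obtain ⟨b, rfl⟩ := hy
        exact hfixed b b.2
    · by_cases hex : ∃ y : orbit B ω.out, u • (y : Γ ⧸ H) = y
      · obtain ⟨⟨y₁, hy₁⟩, hy₁u⟩ := hex
        obtain ⟨g₁, hg₁⟩ := QuotientGroup.mk_surjective y₁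
        have horb : orbit B ω.out = orbit B ((g₁ : Γ) : Γ ⧸ H) := by
          rw [hg₁]; exact (orbit_eq_iff.2 hy₁).symm
        have hfixu : g₁⁻¹ * u * g₁ ∈ H := by
          rw [← smul_mk_eq_iff, hg₁]; exact hy₁u
        have hnotfix : ¬ ∀ b ∈ B, g₁⁻¹ * b * g₁ ∈ H := by
          intro hall
          apply hfixed
          obtain ⟨b₁, hb₁⟩ := hy₁
          have hb₁' : (b₁ : Γ) • ω.out = (g₁ : Γ ⧸ H) := by rw [hg₁]; exact hb₁
          intro b hb
          have h1 : ((b₁ : Γ) * b * (b₁ : Γ)⁻¹) • (g₁ : Γ ⧸ H) = (g₁ : Γ ⧸ H) :=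
            (smul_mk_eq_iff H _ g₁).2 (hall _ (B.mul_mem (B.mul_mem b₁.2 hb) (B.inv_mem b₁.2)))
          rw [← hb₁', smul_smul, inv_mul_cancel_right, mul_smul] at h1
          exact smul_left_cancel _ h1
        let _ : Fintype (orbit B ((g₁ : Γ) : Γ ⧸ H)) := Fintype.ofFinite _
        have h2 := prod_orbit_eq_one H θ B hB u hu κ hmin hstab hκ hstar g₁ hfixu hnotfix
        rw [Finset.prod_set_coe (s := orbit B ω.out) (f := fx H θ u)]
        rw [Finset.prod_set_coe (s := orbit B ((g₁ : Γ) : Γ ⧸ H)) (f := fx H θ u)] at h2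
        rw [Set.toFinset_congr horb]
        exact h2
      · apply Finset.prod_eq_one
        intro y _
        apply fx_of_not_fixed
        intro hc
        exact hex ⟨y, hc⟩
  rw [Fintype.prod_congr _ _ key, Finset.prod_ite, Finset.prod_const_one, mul_one,
    Finset.prod_const]
  refine ⟨_, ?_, rfl⟩
  have hcount : (Finset.univ.filter
      (fun ω : orbitRel.Quotient B (Γ ⧸ H) => ∀ b ∈ B, b • ω.out = ω.out)).card =
      Nat.card (fixedPoints B (Γ ⧸ H)) := by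
    rw [← Fintype.card_subtype, ← Nat.card_eq_fintype_card]
    refine Nat.card_congr ⟨fun ω => ⟨ω.1.out, fun b => ω.2 b b.2⟩,
      fun x => ⟨Quotient.mk'' x.1, ?_⟩, ?_, ?_⟩
    · have hx : (Quotient.mk'' x.1 : orbitRel.Quotient B (Γ ⧸ H)).out = x.1 := by
        have h1 : (Quotient.mk'' x.1 : orbitRel.Quotient B (Γ ⧸ H)).out ∈ orbit B x.1 :=
          orbitRel_apply.1 (Quotient.exact' (Quotient.out_eq' _))
        obtain ⟨b, hb⟩ := h1
        rw [← hb]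
        exact x.2 b
      intro b hb
      rw [hx]
      exact x.2 ⟨b, hb⟩
    · intro ω
      apply Subtype.ext
      exact Quotient.out_eq' ω.1
    · intro x
      apply Subtype.ext
      show (Quotient.mk'' x.1 : orbitRel.Quotient B (Γ ⧸ H)).out = x.1
      have h1 : (Quotient.mk'' x.1 : orbitRel.Quotient B (Γ ⧸ H)).out ∈ orbit B x.1 :=
        orbitRel_apply.1 (Quotient.exact' (Quotient.out_eq' _))
      obtain ⟨b, hb⟩ := h1
      rw [← hb]
      exact x.2 b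
  rw [hcount, Subgroup.index_eq_card]
  exact (hB.card_modEq_card_fixedPoints (Γ ⧸ H)).symm

end main

end Cfsg.Agent.Lib.helper40
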