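import Mathlib
import Cfsg.Agent.Lib.helper24.PFrattini
import Cfsg.Agent.Lib.helper40.TransferMin

/-!
# Norms and iterated commutators modulo `p`-th powers and commutators

* `prod_iterate_eq_engel`: in an abelian group of exponent `p`,
  `1 + θ + ⋯ + θ^(p-1) = (θ - 1)^(p-1)`.
* `eaHom M p`: the canonical map of `M` onto `M / M^p M'`.
* `eaHom_norm_eq_engel`: `∏_{i<p} z⁻ⁱ u zⁱ ≡ [u, z; p-1]` modulo `M^p M'`.
* `eaHom_frattini`: the Frattini subgroup dies in `M / M^p M'`.
-/

set_option autoImplicit false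

namespace Cfsg.Agent.Lib.helper40

section engel

/-- In an abelian group of exponent `p`, `1 + θ + ⋯ + θ^(p-1) = (θ - 1)^(p-1)`. -/
theorem prod_iterate_eq_engel {V : Type*} [CommGroup V] {p : ℕ} [Fact p.Prime]
    (hexp : ∀ v : V, v ^ p = 1) (θ : V →* V) (v : V) :
    ∏ i ∈ Finset.range p, θ^[i] v = (fun w => θ w * w⁻¹)^[p - 1] v := by
  have inst : Module (ZMod p) (Additive V) := AddCommGroup.zmodModule (fun a => by
    show Additive.ofMul ((Additive.toMul a) ^ p) = 0
    rw [hexp]; rfl)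
  let L : Module.End (ZMod p) (Additive V) := (MonoidHom.toAdditive θ).toZModLinearMap p
  have h1 : ∀ (k : ℕ) (a : Additive V), ((L - 1) ^ k) a =
      Additive.ofMul ((fun w => θ w * w⁻¹)^[k] (Additive.toMul a)) := by
    intro k
    induction k with
    | zero => intro a; simp
    | succ k ih =>
      intro a
      rw [pow_succ', Module.End.mul_apply, ih, Function.iterate_succ_apply']
      show L (Additive.ofMul _) - Additive.ofMul _ = _
      rw [← div_eq_mul_inv]
      rfl
  have hpoly : (Polynomial.X - 1 : Polynomial (ZMod p)) ^ (p - 1) =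
      ∑ i ∈ Finset.range p, Polynomial.X ^ i := by
    have h0 : (Polynomial.X - 1 : Polynomial (ZMod p)) * (Polynomial.X - 1) ^ (p - 1) =
        (Polynomial.X - 1) * ∑ i ∈ Finset.range p, Polynomial.X ^ i := by
      rw [← pow_succ', Nat.sub_add_cancel (Fact.out : p.Prime).pos, mul_geom_sum, sub_pow_char,
        one_pow]
    have hne : (Polynomial.X - 1 : Polynomial (ZMod p)) ≠ 0 := by
      have := Polynomial.X_sub_C_ne_zero (1 : ZMod p)
      rwa [map_one] at this
    exact mul_left_cancel₀ hne h0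
  have h3 : ∑ i ∈ Finset.range p, L ^ i = (L - 1) ^ (p - 1) := by
    have := congrArg (Polynomial.aeval L) hpoly
    simpa using this.symm
  have h4 : ∀ (i : ℕ) (a : Additive V), (L ^ i) a = Additive.ofMul (θ^[i] (Additive.toMul a)) := by
    intro i
    induction i with
    | zero => intro a; simp
    | succ i ih =>
      intro a
      rw [pow_succ', Module.End.mul_apply, ih, Function.iterate_succ_apply']
      rfl
  have h5 : (∑ i ∈ Finset.range p, L ^ i) (Additive.ofMul v) =
      Additive.ofMul (∏ i ∈ Finset.range p, θ^[i] v) := by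
    rw [LinearMap.sum_apply, ofMul_prod]
    refine Finset.sum_congr rfl (fun i _ => ?_)
    rw [h4]
    rfl
  rw [h3, h1] at h5
  exact (Additive.ofMul.injective h5).symm

end engel

section ea

variable (M : Type*) [Group M] (p : ℕ)

/-- the canonical map of `M` onto `M / M^p M'` -/
def eaHom : M →* Abelianization M ⧸
    (powMonoidHom p : Abelianization M →* Abelianization M).range :=
  (QuotientGroup.mk' _).comp Abelianization.of

variable {M} {p}

theorem eaHom_surjective : Function.Surjective (eaHom M p) := by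
  intro a
  obtain ⟨e, rfl⟩ := QuotientGroup.mk_surjective a
  obtain ⟨m, rfl⟩ := QuotientGroup.mk_surjective e
  exact ⟨m, rfl⟩

theorem ea_pow (a : Abelianization M ⧸
    (powMonoidHom p : Abelianization M →* Abelianization M).range) : a ^ p = 1 := by
  obtain ⟨e, rfl⟩ := QuotientGroup.mk_surjective a
  rw [← QuotientGroup.mk_pow, QuotientGroup.eq_one_iff]
  exact ⟨e, rfl⟩

theorem eaHom_eq_one_iff (x : M) :
    eaHom M p x = 1 ↔ ∃ m : M, x * (m ^ p)⁻¹ ∈ commutator M := by
  constructor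
  · intro h
    have h1 : Abelianization.of x ∈
        (powMonoidHom p : Abelianization M →* Abelianization M).range :=
      (QuotientGroup.eq_one_iff _).1 h
    obtain ⟨e, he⟩ := h1
    obtain ⟨m, rfl⟩ := QuotientGroup.mk_surjective e
    refine ⟨m, ?_⟩
    have h2 : Abelianization.of (x * (m ^ p)⁻¹) = 1 := by
      rw [map_mul, map_inv, map_pow, ← he]
      show (Abelianization.of m) ^ p * ((Abelianization.of m) ^ p)⁻¹ = 1
      rw [mul_inv_cancel]
    exact (QuotientGroup.eq_one_iff _).1 h2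
  · rintro ⟨m, hm⟩
    have h1 : eaHom M p (x * (m ^ p)⁻¹) = 1 :=
      MonoidHom.mem_ker.1 (Abelianization.commutator_subset_ker (eaHom M p) hm)
    rw [map_mul, map_inv, map_pow, ea_pow, inv_one, mul_one] at h1
    exact h1

/-- a homomorphism to an abelian group, of exponent `p` on its image, factors through `eaHom` -/
theorem hom_eq_one_of_eaHom {V : Type*} [CommGroup V] (φ : M →* V) (hexp : ∀ x, φ x ^ p = 1)
    (y : M) (hy : eaHom M p y = 1) : φ y = 1 := by
  obtain ⟨m, hm⟩ := (eaHom_eq_one_iff y).1 hy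
  have h1 : φ (y * (m ^ p)⁻¹) = 1 :=
    MonoidHom.mem_ker.1 (Abelianization.commutator_subset_ker φ hm)
  rw [map_mul, map_inv, map_pow, hexp, inv_one, mul_one] at h1
  exact h1

/-- the Frattini subgroup dies in `M / M^p M'` -/
theorem eaHom_frattini [Finite M] [Fact p.Prime] (y : M) (hy : y ∈ frattini M) :
    eaHom M p y = 1 := by
  have h1 := frattini_le_comap_frattini_of_surjective (eaHom_surjective (M := M) (p := p)) hy
  rw [Subgroup.mem_comap,
    Cfsg.Agent.Lib.helper24.frattini_eq_bot_of_elemAb (Fact.out : p.Prime) ea_pow,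
    Subgroup.mem_bot] at h1
  exact h1

end ea

section norm

variable {Γ : Type*} [Group Γ] {p : ℕ} [Fact p.Prime]

/-- **norm versus iterated commutator** modulo `M^p M'` -/
theorem eaHom_norm_eq_engel (M : Subgroup Γ) (z u : Γ) (hz : ∀ m ∈ M, z⁻¹ * m * z ∈ M)
    (hu : u ∈ M) (hN : ((List.range p).map (fun i => (z ^ i)⁻¹ * u * z ^ i)).prod ∈ M)
    (hc : (fun y : Γ => y⁻¹ * z⁻¹ * y * z)^[p - 1] u ∈ M) :
    eaHom ↥M p ⟨_, hN⟩ = eaHom ↥M p ⟨_, hc⟩ := by
  classical
  let cz : ↥M →* ↥M := MonoidHom.mk' (fun m => ⟨z⁻¹ * m.1 * z, hz m.1 m.2⟩) (by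
    intro a b
    apply Subtype.ext
    show z⁻¹ * (a.1 * b.1) * z = z⁻¹ * a.1 * z * (z⁻¹ * b.1 * z)
    group)
  have hle : (powMonoidHom p : Abelianization ↥M →* Abelianization ↥M).range ≤
      ((powMonoidHom p : Abelianization ↥M →* Abelianization ↥M).range).comap
        (Abelianization.map cz) := by
    rintro _ ⟨e, rfl⟩
    exact ⟨Abelianization.map cz e, by simp [powMonoidHom]⟩
  let θV := QuotientGroup.map _ _ (Abelianization.map cz) hle
  have hθ : ∀ m : ↥M, θV (eaHom ↥M p m) = eaHom ↥M p (cz m) := fun m => rfl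
  have hzi : ∀ i : ℕ, (z ^ i)⁻¹ * u * z ^ i ∈ M := by
    intro i
    induction i with
    | zero => simpa using hu
    | succ i ih =>
      have h1 := hz _ ih
      have e : z⁻¹ * ((z ^ i)⁻¹ * u * z ^ i) * z = (z ^ (i + 1))⁻¹ * u * z ^ (i + 1) := by
        rw [pow_succ]
        group
      rwa [e] at h1
  have hiter : ∀ i : ℕ, θV^[i] (eaHom ↥M p ⟨u, hu⟩) = eaHom ↥M p ⟨_, hzi i⟩ := by
    intro i
    induction i with
    | zero =>
      show eaHom ↥M p ⟨u, hu⟩ = _
      congr 1
      apply Subtype.ext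
      simp
    | succ i ih =>
      rw [Function.iterate_succ_apply', ih, hθ]
      congr 1
      apply Subtype.ext
      show z⁻¹ * ((z ^ i)⁻¹ * u * z ^ i) * z = (z ^ (i + 1))⁻¹ * u * z ^ (i + 1)
      rw [pow_succ]
      group
  have hfM : ∀ y : Γ, y ∈ M → y⁻¹ * z⁻¹ * y * z ∈ M := by
    intro y hy
    have h1 := M.mul_mem (M.inv_mem hy) (hz y hy)
    have e : y⁻¹ * (z⁻¹ * y * z) = y⁻¹ * z⁻¹ * y * z := by group
    rwa [e] at h1
  have hfk : ∀ k : ℕ, (fun y : Γ => y⁻¹ * z⁻¹ * y * z)^[k] u ∈ M := by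
    intro k
    induction k with
    | zero => exact hu
    | succ k ih =>
      rw [Function.iterate_succ_apply']
      exact hfM _ ih
  have heng : ∀ k : ℕ, (fun w => θV w * w⁻¹)^[k] (eaHom ↥M p ⟨u, hu⟩) =
      eaHom ↥M p ⟨_, hfk k⟩ := by
    intro k
    induction k with
    | zero => rfl
    | succ k ih =>
      rw [Function.iterate_succ_apply', ih]
      show θV (eaHom ↥M p ⟨_, hfk k⟩) * (eaHom ↥M p ⟨_, hfk k⟩)⁻¹ = _
      rw [hθ, mul_comm, ← map_inv, ← map_mul]
      congr 1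
      apply Subtype.ext
      have e2 : (fun y : Γ => y⁻¹ * z⁻¹ * y * z)^[k + 1] u =
          ((fun y : Γ => y⁻¹ * z⁻¹ * y * z)^[k] u)⁻¹ * z⁻¹ *
            (fun y : Γ => y⁻¹ * z⁻¹ * y * z)^[k] u * z := by
        rw [Function.iterate_succ_apply']
      show ((fun y : Γ => y⁻¹ * z⁻¹ * y * z)^[k] u)⁻¹ *
        (z⁻¹ * (fun y : Γ => y⁻¹ * z⁻¹ * y * z)^[k] u * z) =
          (fun y : Γ => y⁻¹ * z⁻¹ * y * z)^[k + 1] u
      rw [e2]
      simp only [mul_assoc]
  obtain ⟨hL, eL⟩ := hom_list_prod M (eaHom ↥M p) (fun i => (z ^ i)⁻¹ * u * z ^ i) hzi p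
  rw [eL, Finset.prod_congr rfl (fun i _ => (hiter i).symm),
    prod_iterate_eq_engel (fun v => ea_pow v) θV, heng]

/-- the norm condition `(★)` from an iterated commutator lying in `M^p M'` -/
theorem star_of_engel (M : Subgroup Γ) (z u : Γ) (hz : ∀ m ∈ M, z⁻¹ * m * z ∈ M) (hu : u ∈ M)
    (hc : ∃ h : (fun y : Γ => y⁻¹ * z⁻¹ * y * z)^[p - 1] u ∈ M, eaHom ↥M p ⟨_, h⟩ = 1) :
    ∃ m' ∈ M,
      ((List.range p).map (fun i => (z ^ i)⁻¹ * u * z ^ i)).prod * (m' ^ p)⁻¹ ∈ ⁅M, M⁆ := by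
  obtain ⟨hcM, hc1⟩ := hc
  have hzi : ∀ i : ℕ, (z ^ i)⁻¹ * u * z ^ i ∈ M := by
    intro i
    induction i with
    | zero => simpa using hu
    | succ i ih =>
      have h1 := hz _ ih
      have e : z⁻¹ * ((z ^ i)⁻¹ * u * z ^ i) * z = (z ^ (i + 1))⁻¹ * u * z ^ (i + 1) := by
        rw [pow_succ]
        group
      rwa [e] at h1
  have hN : ((List.range p).map (fun i => (z ^ i)⁻¹ * u * z ^ i)).prod ∈ M := by
    apply Subgroup.list_prod_mem
    intro x hx
    obtain ⟨i, -, rfl⟩ := List.mem_map.1 hx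
    exact hzi i
  have h1 := eaHom_norm_eq_engel M z u hz hu hN hcM
  rw [hc1] at h1
  obtain ⟨m', hm'⟩ := (eaHom_eq_one_iff _).1 h1
  refine ⟨m'.1, m'.2, ?_⟩
  have e : (commutator ↥M).map M.subtype = ⁅M, M⁆ := by
    rw [commutator_def, Subgroup.map_commutator, ← MonoidHom.range_eq_map, M.range_subtype]
  rw [← e]
  exact ⟨_, hm', rfl⟩

end norm

end Cfsg.Agent.Lib.helper40
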