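import Mathlib
import Cfsg.Agent.Lib.helper38.MinimalCoprime
import Cfsg.Agent.Lib.helper3.PGroupFrattini

/-!
# Minimal invariant non-centralised `2`-subgroups

`exists_min_inv`: if `c` (of odd order, commuting with `E`) does not centralise an `E`- and
`c`-invariant `2`-group `Q₀`, there is an invariant `2`-subgroup `Q ≤ Q₀` not centralised by `c`
such that `⁅Q, Q⁆` is central in `Q`, of exponent `2`, and centralised by `c`.
-/

set_option autoImplicit false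

namespace Cfsg.Agent.Lib.helper40.HHD

open Cfsg.Agent.Lib.helper38
open scoped commutatorElement

theorem conj_mem_commutator_self {H : Type*} [Group H] (Q : Subgroup H) (g : H)
    (hg : ∀ x ∈ Q, g * x * g⁻¹ ∈ Q) : ∀ y ∈ ⁅Q, Q⁆, g * y * g⁻¹ ∈ ⁅Q, Q⁆ := by
  have hle : ⁅Q, Q⁆ ≤ (⁅Q, Q⁆).comap (MulAut.conj g).toMonoidHom := by
    rw [Subgroup.commutator_le]
    intro a ha b hb
    rw [Subgroup.mem_comap, map_commutatorElement]
    exact Subgroup.commutator_mem_commutator (by simpa using hg a ha) (by simpa using hg b hb)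
  intro y hy
  have := hle hy
  simpa [Subgroup.mem_comap, MulAut.conj_apply] using this

theorem exists_min_inv {H : Type*} [Group H] [Finite H] (E : Subgroup H) (c : H)
    (hEc : ∀ b ∈ E, b * c = c * b) (hc2 : (orderOf c).Coprime 2) (Q₀ : Subgroup H)
    (hQ₀ : IsPGroup 2 Q₀) (hEQ₀ : ∀ b ∈ E, ∀ x ∈ Q₀, b * x * b⁻¹ ∈ Q₀)
    (hcQ₀ : ∀ x ∈ Q₀, c * x * c⁻¹ ∈ Q₀) (hnc : ∃ x ∈ Q₀, c * x * c⁻¹ ≠ x) :
    ∃ Q : Subgroup H, IsPGroup 2 Q ∧ (∀ b ∈ E, ∀ x ∈ Q, b * x * b⁻¹ ∈ Q) ∧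
      (∀ x ∈ Q, c * x * c⁻¹ ∈ Q) ∧ (∃ x ∈ Q, c * x * c⁻¹ ≠ x) ∧
      (∀ z ∈ ⁅Q, Q⁆, ∀ x ∈ Q, z * x = x * z) ∧ (∀ z ∈ ⁅Q, Q⁆, z * z = 1) ∧
      (∀ z ∈ ⁅Q, Q⁆, c * z * c⁻¹ = z) := by
  classical
  have hF2 : Fact (Nat.Prime 2) := ⟨Nat.prime_two⟩
  let S : Set (Subgroup H) := {Q | Q ≤ Q₀ ∧ (∀ b ∈ E, ∀ x ∈ Q, b * x * b⁻¹ ∈ Q) ∧
    (∀ x ∈ Q, c * x * c⁻¹ ∈ Q) ∧ ∃ x ∈ Q, c * x * c⁻¹ ≠ x}
  have hSne : S.Nonempty := ⟨Q₀, le_rfl, hEQ₀, hcQ₀, hnc⟩
  obtain ⟨Q, hQS, hmin⟩ :=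
    WellFounded.has_min (measure (fun Q : Subgroup H => Nat.card Q)).wf S hSne
  obtain ⟨hQQ₀, hEQ, hcQ, hncQ⟩ := hQS
  have hQ2 : IsPGroup 2 Q := hQ₀.to_le hQQ₀
  have hminc : ∀ Y : Subgroup H, Y ≤ Q → Y ≠ Q → (∀ b ∈ E, ∀ y ∈ Y, b * y * b⁻¹ ∈ Y) →
      (∀ y ∈ Y, c * y * c⁻¹ ∈ Y) → ∀ y ∈ Y, c * y * c⁻¹ = y := by
    intro Y hYQ hYne hEY hcY
    by_contra hcon
    push Not at hcon
    have hYS : Y ∈ S := ⟨hYQ.trans hQQ₀, hEY, hcY, hcon⟩
    apply hmin Y hYS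
    show Nat.card Y < Nat.card Q
    by_contra hlt
    push Not at hlt
    exact hYne (Subgroup.eq_of_le_of_card_ge hYQ hlt)
  -- commutation of E with c
  have hbconj : ∀ b ∈ E, ∀ z : H, b * (c * z * c⁻¹) * b⁻¹ = c * (b * z * b⁻¹) * c⁻¹ := by
    intro b hb z
    have hbc := hEc b hb
    have hbc' : c⁻¹ * b⁻¹ = b⁻¹ * c⁻¹ := by rw [← mul_inv_rev, ← mul_inv_rev, hbc]
    calc b * (c * z * c⁻¹) * b⁻¹ = (b * c) * z * (c⁻¹ * b⁻¹) := by group
      _ = (c * b) * z * (b⁻¹ * c⁻¹) := by rw [hbc, hbc']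
      _ = c * (b * z * b⁻¹) * c⁻¹ := by group
  -- Q is generated by commutators with c
  obtain ⟨s, hs⟩ : ∃ s : Set H, s = {g | ∃ x ∈ Q, g = c * x * c⁻¹ * x⁻¹} := ⟨_, rfl⟩
  have hsQ : Subgroup.closure s ≤ Q := by
    rw [Subgroup.closure_le, hs]
    rintro g ⟨x, hx, rfl⟩
    exact Q.mul_mem (hcQ x hx) (Q.inv_mem hx)
  have hWeq : Subgroup.closure s = Q := by
    by_contra hne
    have hEW : ∀ b ∈ E, ∀ y ∈ Subgroup.closure s, b * y * b⁻¹ ∈ Subgroup.closure s := by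
      intro b hb
      apply closure_conj_invariant
      intro g hg
      rw [hs] at hg
      obtain ⟨x, hx, rfl⟩ := hg
      apply Subgroup.subset_closure
      rw [hs]
      refine ⟨b * x * b⁻¹, hEQ b hb x hx, ?_⟩
      calc b * (c * x * c⁻¹ * x⁻¹) * b⁻¹ = (b * (c * x * c⁻¹) * b⁻¹) * (b * x * b⁻¹)⁻¹ := by group
        _ = c * (b * x * b⁻¹) * c⁻¹ * (b * x * b⁻¹)⁻¹ := by rw [hbconj b hb]
    have hcW : ∀ y ∈ Subgroup.closure s, c * y * c⁻¹ ∈ Subgroup.closure s := by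
      apply closure_conj_invariant
      intro g hg
      rw [hs] at hg
      obtain ⟨x, hx, rfl⟩ := hg
      apply Subgroup.subset_closure
      rw [hs]
      exact ⟨c * x * c⁻¹, hcQ x hx, by group⟩
    have hcent := hminc _ hsQ hne hEW hcW
    obtain ⟨x, hx, hxne⟩ := hncQ
    apply hxne
    refine conj_eq_of_commutator_fixed Q hQ2 c hc2 hcQ (fun x hx => hcent _ ?_) x hx
    apply Subgroup.subset_closure
    rw [hs]
    exact ⟨x, hx, rfl⟩
  -- proper invariant normal subgroups are central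
  have claim1 : ∀ Y : Subgroup H, Y ≤ Q → Y ≠ Q → (∀ b ∈ E, ∀ y ∈ Y, b * y * b⁻¹ ∈ Y) →
      (∀ y ∈ Y, c * y * c⁻¹ ∈ Y) → (∀ q ∈ Q, ∀ y ∈ Y, q⁻¹ * y * q ∈ Y) →
      (∀ y ∈ Y, c * y * c⁻¹ = y) ∧ ∀ q ∈ Q, ∀ y ∈ Y, y * q = q * y := by
    intro Y hYQ hYne hEY hcY hYn
    have hcent := hminc Y hYQ hYne hEY hcY
    refine ⟨hcent, ?_⟩
    have hle : Q ≤ Subgroup.centralizer (Y : Set H) := by
      rw [← hWeq, Subgroup.closure_le, hs]
      rintro g ⟨x, hx, rfl⟩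
      rw [SetLike.mem_coe, Subgroup.mem_centralizer_iff]
      intro y hy
      have e1 : c * (x⁻¹ * y * x) * c⁻¹ = x⁻¹ * y * x := hcent _ (hYn x hx y hy)
      have e2 : c * y * c⁻¹ = y := hcent y hy
      have e3 : c⁻¹ * (x⁻¹ * y * x) * c = x⁻¹ * y * x := by
        calc c⁻¹ * (x⁻¹ * y * x) * c = c⁻¹ * (c * (x⁻¹ * y * x) * c⁻¹) * c := by rw [e1]
          _ = x⁻¹ * y * x := by group
      have e4 : (c * x * c⁻¹ * x⁻¹) * y * (c * x * c⁻¹ * x⁻¹)⁻¹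
          = c * x * (c⁻¹ * (x⁻¹ * y * x) * c) * x⁻¹ * c⁻¹ := by group
      rw [e3] at e4
      have e5 : c * x * (x⁻¹ * y * x) * x⁻¹ * c⁻¹ = c * y * c⁻¹ := by group
      rw [e5, e2] at e4
      exact (mul_inv_eq_iff_eq_mul.mp e4).symm
    intro q hq y hy
    exact Subgroup.mem_centralizer_iff.mp (hle hq) y hy
  -- a maximal subgroup
  have hQne : Q ≠ ⊥ := by
    rintro rfl
    obtain ⟨x, hx, hxne⟩ := hncQ
    rw [Subgroup.mem_bot] at hx
    subst hx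
    exact hxne (by simp)
  have hnontriv : Nontrivial ↥Q := (Subgroup.nontrivial_iff_ne_bot Q).mpr hQne
  obtain ⟨M, hM, -⟩ : ∃ M : Subgroup ↥Q, IsCoatom M ∧ ⊥ ≤ M := by
    rcases eq_top_or_exists_le_coatom (⊥ : Subgroup ↥Q) with h | h
    · exact absurd h bot_ne_top
    · exact h
  have hMQ : M.map Q.subtype ≤ Q := Subgroup.map_subtype_le M
  have hMne : M.map Q.subtype ≠ Q := by
    intro h
    apply hM.1
    rw [eq_top_iff]
    intro x _
    have hx : (x : H) ∈ M.map Q.subtype := by rw [h]; exact x.2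
    obtain ⟨y, hy, hyx⟩ := hx
    have : y = x := Subtype.ext hyx
    rw [← this]; exact hy
  have hproper : ∀ Y : Subgroup H, Y ≤ M.map Q.subtype → Y ≠ Q := by
    intro Y hY h
    apply hMne
    exact le_antisymm hMQ (h ▸ hY)
  -- the derived subgroup
  have hD_le : ⁅Q, Q⁆ ≤ M.map Q.subtype := by
    rw [← Subgroup.map_subtype_commutator]
    exact Subgroup.map_mono (Cfsg.Agent.Lib.helper3.commutator_le_coatom hQ2 hM)
  have hDQ : ⁅Q, Q⁆ ≤ Q := Subgroup.commutator_le_self Q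
  have hDE : ∀ b ∈ E, ∀ y ∈ ⁅Q, Q⁆, b * y * b⁻¹ ∈ ⁅Q, Q⁆ := fun b hb =>
    conj_mem_commutator_self Q b (hEQ b hb)
  have hDc : ∀ y ∈ ⁅Q, Q⁆, c * y * c⁻¹ ∈ ⁅Q, Q⁆ := conj_mem_commutator_self Q c hcQ
  have hDn : ∀ q ∈ Q, ∀ y ∈ ⁅Q, Q⁆, q⁻¹ * y * q ∈ ⁅Q, Q⁆ := by
    intro q hq y hy
    have := conj_mem_commutator_self Q q⁻¹ (fun x hx => Q.mul_mem (Q.mul_mem (Q.inv_mem hq) hx)
      (Q.inv_mem (Q.inv_mem hq))) y hy
    rw [inv_inv] at this; exact this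
  obtain ⟨hDcent, hDcomm⟩ := claim1 ⁅Q, Q⁆ hDQ (hproper _ hD_le) hDE hDc hDn
  -- squares
  obtain ⟨t, ht⟩ : ∃ t : Set H, t = {g | ∃ x ∈ Q, g = x * x} := ⟨_, rfl⟩
  have htM : Subgroup.closure t ≤ M.map Q.subtype := by
    rw [Subgroup.closure_le, ht]
    rintro g ⟨x, hx, rfl⟩
    refine ⟨(⟨x, hx⟩ : Q) ^ 2, Cfsg.Agent.Lib.helper3.pow_prime_mem_coatom hQ2 hM _, ?_⟩
    simp [pow_two]
  have htE : ∀ b ∈ E, ∀ y ∈ Subgroup.closure t, b * y * b⁻¹ ∈ Subgroup.closure t := by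
    intro b hb
    apply closure_conj_invariant
    intro g hg
    rw [ht] at hg
    obtain ⟨x, hx, rfl⟩ := hg
    apply Subgroup.subset_closure
    rw [ht]
    exact ⟨b * x * b⁻¹, hEQ b hb x hx, by group⟩
  have htc : ∀ y ∈ Subgroup.closure t, c * y * c⁻¹ ∈ Subgroup.closure t := by
    apply closure_conj_invariant
    intro g hg
    rw [ht] at hg
    obtain ⟨x, hx, rfl⟩ := hg
    apply Subgroup.subset_closure
    rw [ht]
    exact ⟨c * x * c⁻¹, hcQ x hx, by group⟩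
  have htn : ∀ q ∈ Q, ∀ y ∈ Subgroup.closure t, q⁻¹ * y * q ∈ Subgroup.closure t := by
    intro q hq y hy
    have := closure_conj_invariant t q⁻¹ (by
      intro g hg
      rw [ht] at hg
      obtain ⟨x, hx, rfl⟩ := hg
      apply Subgroup.subset_closure
      rw [ht]
      exact ⟨q⁻¹ * x * q⁻¹⁻¹, Q.mul_mem (Q.mul_mem (Q.inv_mem hq) hx) (Q.inv_mem (Q.inv_mem hq)),
        by group⟩) y hy
    rw [inv_inv] at this; exact this
  obtain ⟨-, hsqcomm⟩ := claim1 _ (htM.trans hMQ) (hproper _ htM) htE htc htn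
  have hsq : ∀ x ∈ Q, ∀ q ∈ Q, (x * x) * q = q * (x * x) := by
    intro x hx q hq
    apply hsqcomm q hq
    apply Subgroup.subset_closure
    rw [ht]
    exact ⟨x, hx, rfl⟩
  refine ⟨Q, hQ2, hEQ, hcQ, hncQ, fun z hz x hx => hDcomm x hx z hz, ?_, hDcent⟩
  -- exponent 2
  let K : Subgroup H :=
    { carrier := {z | z ∈ ⁅Q, Q⁆ ∧ z * z = 1}
      one_mem' := ⟨Subgroup.one_mem _, by simp⟩
      mul_mem' := by
        rintro a b ⟨ha, ha2⟩ ⟨hb, hb2⟩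
        refine ⟨Subgroup.mul_mem _ ha hb, ?_⟩
        have hab : a * b = b * a := hDcomm b (hDQ hb) a ha
        calc a * b * (a * b) = a * (b * a) * b := by group
          _ = a * (a * b) * b := by rw [hab]
          _ = (a * a) * (b * b) := by group
          _ = 1 := by rw [ha2, hb2, one_mul]
      inv_mem' := by
        rintro a ⟨ha, ha2⟩
        refine ⟨Subgroup.inv_mem _ ha, ?_⟩
        calc a⁻¹ * a⁻¹ = (a * a)⁻¹ := by group
          _ = 1 := by rw [ha2, inv_one] }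
  have hKle : ⁅Q, Q⁆ ≤ K := by
    rw [Subgroup.commutator_le]
    intro a ha b hb
    refine ⟨Subgroup.commutator_mem_commutator ha hb, ?_⟩
    obtain ⟨k, hk⟩ : ∃ k, k = ⁅a, b⁆ := ⟨_, rfl⟩
    have hkD : k ∈ ⁅Q, Q⁆ := by rw [hk]; exact Subgroup.commutator_mem_commutator ha hb
    have hka : k * a = a * k := hDcomm a ha k hkD
    have hkb : k * b = b * k := hDcomm b hb k hkD
    have hab : a * b = k * (b * a) := by rw [hk, commutatorElement_def]; group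
    have h1 : (a * a) * b = (k * k) * (b * (a * a)) := by
      calc (a * a) * b = a * (a * b) := by group
        _ = a * (k * (b * a)) := by rw [hab]
        _ = (a * k) * (b * a) := by group
        _ = (k * a) * (b * a) := by rw [hka]
        _ = k * (a * b) * a := by group
        _ = k * (k * (b * a)) * a := by rw [hab]
        _ = (k * k) * (b * (a * a)) := by group
    have h2 := hsq a ha b hb
    rw [h1] at h2
    rw [← hk]
    have h3 : (k * k) * (b * (a * a)) = 1 * (b * (a * a)) := by rw [one_mul]; exact h2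
    exact mul_right_cancel h3
  intro z hz
  exact (hKle hz).2

end Cfsg.Agent.Lib.helper40.HHD
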