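import Mathlib
import Cfsg.Prelude.Def_Local
import Cfsg.Prelude.Def_Solvable
import Cfsg.Agent.Lib.helper38.HHBMain
import Cfsg.Agent.Lib.helper38.HallHigman2
import Cfsg.Agent.Lib.helper38.PPrimeP
import Cfsg.Agent.Lib.helper40.Cores

/-!
# A corollary of Hall–Higman Theorem B

`tb_gen`: let `c` be an element of order `p` (odd) of a finite `p`-solvable group `H` acting
faithfully in characteristic `p`, normalising a `p'`-subgroup `N` whose `2`-elements commute, and
not centralising it.  Then `(c - 1)^(p-1) ≠ 0`.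
-/

set_option autoImplicit false

namespace Cfsg.Agent.Lib.helper40.HHD

open Cfsg.Agent.Lib.helper38

theorem conj_pow_mem {H : Type*} [Group H] (N : Subgroup H) (c : H)
    (hNc : ∀ x ∈ N, c * x * c⁻¹ ∈ N) (i : ℕ) : ∀ x ∈ N, c ^ i * x * (c ^ i)⁻¹ ∈ N := by
  induction i with
  | zero => intro x hx; simpa using hx
  | succ i ih =>
    intro x hx
    have h1 := hNc _ (ih x hx)
    have e : c ^ (i + 1) * x * (c ^ (i + 1))⁻¹ = c * (c ^ i * x * (c ^ i)⁻¹) * c⁻¹ := by
      rw [pow_succ']; group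
    rw [e]; exact h1

theorem inv_pow_eq {H : Type*} [Group H] (c : H) (p : ℕ) (hpos : 0 < p) (hc : c ^ p = 1)
    (i : ℕ) : (c ^ i)⁻¹ = c ^ ((p - 1) * i) := by
  apply inv_eq_of_mul_eq_one_right
  rw [← pow_add]
  have e : i + (p - 1) * i = p * i := by
    have : p = (p - 1) + 1 := by omega
    calc i + (p - 1) * i = ((p - 1) + 1) * i := by ring
      _ = p * i := by rw [← this]
  rw [e, pow_mul, hc, one_pow]

theorem conj_inv_pow_mem {H : Type*} [Group H] (N : Subgroup H) (c : H) (p : ℕ) (hpos : 0 < p)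
    (hc : c ^ p = 1)
    (hNc : ∀ x ∈ N, c * x * c⁻¹ ∈ N) (i : ℕ) : ∀ x ∈ N, (c ^ i)⁻¹ * x * c ^ i ∈ N := by
  intro x hx
  have h1 := conj_pow_mem N c hNc ((p - 1) * i) x hx
  rw [← inv_pow_eq c p hpos hc i, inv_inv] at h1
  exact h1

/-- Elements of `N ⊔ ⟨c⟩` are of the form `n * c^i`. -/
theorem mem_sup_zpowers {H : Type*} [Group H] (N : Subgroup H) (c : H) (p : ℕ) (hpos : 0 < p)
    (hc : c ^ p = 1)
    (hNc : ∀ x ∈ N, c * x * c⁻¹ ∈ N) (g : H) (hg : g ∈ N ⊔ Subgroup.zpowers c) :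
    ∃ n ∈ N, ∃ i : ℕ, g = n * c ^ i := by
  let S : Subgroup H :=
    { carrier := {g | ∃ n ∈ N, ∃ i : ℕ, g = n * c ^ i}
      one_mem' := ⟨1, N.one_mem, 0, by simp⟩
      mul_mem' := by
        rintro a b ⟨n, hn, i, rfl⟩ ⟨m, hm, j, rfl⟩
        refine ⟨n * (c ^ i * m * (c ^ i)⁻¹), N.mul_mem hn (conj_pow_mem N c hNc i m hm), i + j, ?_⟩
        rw [pow_add]; group
      inv_mem' := by
        rintro a ⟨n, hn, i, rfl⟩
        refine ⟨(c ^ i)⁻¹ * n⁻¹ * c ^ i, conj_inv_pow_mem N c p hpos hc hNc i _ (N.inv_mem hn),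
          (p - 1) * i, ?_⟩
        rw [← inv_pow_eq c p hpos hc i]; group }
  have hle : N ⊔ Subgroup.zpowers c ≤ S := by
    apply sup_le
    · intro n hn
      exact ⟨n, hn, 0, by simp⟩
    · rw [Subgroup.zpowers_le]
      exact ⟨1, N.one_mem, 1, by simp⟩
  exact hle hg

theorem tb_gen {F : Type*} [Field F] {p : ℕ} [Fact p.Prime] [CharP F p] (hp2 : p ≠ 2)
    {V : Type*} [AddCommGroup V] [Module F V] [FiniteDimensional F V]
    {H : Type*} [Group H] [Finite H] (ρ : H →* Module.End F V) (hinj : Function.Injective ρ)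
    (hsol : Cfsg.IsPSolvable p H) (N : Subgroup H) (c : H) (hc : c ^ p = 1)
    (hNc : ∀ x ∈ N, c * x * c⁻¹ ∈ N) (hcop : (Nat.card N).Coprime p)
    (h2 : ∀ x ∈ N, ∀ y ∈ N, (∃ a : ℕ, x ^ 2 ^ a = 1) → (∃ b : ℕ, y ^ 2 ^ b = 1) → x * y = y * x)
    (hnc : ∃ x ∈ N, c * x * c⁻¹ ≠ x) : (ρ c - 1) ^ (p - 1) ≠ 0 := by
  classical
  have hp : p.Prime := Fact.out
  intro h0
  obtain ⟨K, hK⟩ : ∃ K : Subgroup H, K = N ⊔ Subgroup.zpowers c := ⟨_, rfl⟩
  have hNK : N ≤ K := by rw [hK]; exact le_sup_left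
  have hcK : c ∈ K := by
    rw [hK]
    exact (le_sup_right : Subgroup.zpowers c ≤ N ⊔ Subgroup.zpowers c) (Subgroup.mem_zpowers c)
  have hform : ∀ g ∈ K, ∃ n ∈ N, ∃ i : ℕ, g = n * c ^ i := by
    intro g hg
    rw [hK] at hg
    exact mem_sup_zpowers N c p hp.pos hc hNc g hg
  have hc1 : c ≠ 1 := by
    rintro rfl
    obtain ⟨x, hx, hne⟩ := hnc
    exact hne (by simp)
  have hcord : orderOf c = p := orderOf_eq_prime hc hc1
  -- if `c^i` centralises `N` then `p ∣ i`
  have hcent : ∀ i : ℕ, (∀ x ∈ N, c ^ i * x = x * c ^ i) → c ^ i = 1 := by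
    intro i hi
    by_contra hne
    have hpi : ¬ p ∣ i := by
      intro hd
      apply hne
      obtain ⟨t, rfl⟩ := hd
      rw [pow_mul, hc, one_pow]
    have hcop' : Nat.Coprime i p := (Nat.Prime.coprime_iff_not_dvd hp).mpr hpi |>.symm
    obtain ⟨m, -, hm⟩ := Nat.exists_mul_mod_eq_one_of_coprime hcop' hp.one_lt
    have hcm : (c ^ i) ^ m = c := by
      rw [← pow_mul, ← Nat.mod_add_div (i * m) p, hm, pow_add, pow_mul, hc, one_pow, mul_one,
        pow_one]
    obtain ⟨x, hx, hxne⟩ := hnc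
    apply hxne
    have h1 : (c ^ i) ^ m * x = x * (c ^ i) ^ m := by
      have : Commute (c ^ i) x := hi x hx
      exact (this.pow_left m).eq
    rw [hcm] at h1
    rw [h1, mul_inv_cancel_right]
  -- 2-elements of `K` lie in `N`
  have htwo : ∀ g ∈ K, (∃ a : ℕ, g ^ 2 ^ a = 1) → g ∈ N := by
    intro g hg ⟨a, ha⟩
    obtain ⟨n, hn, i, rfl⟩ := hform g hg
    by_cases hpi : p ∣ i
    · obtain ⟨t, rfl⟩ := hpi
      rw [pow_mul, hc, one_pow, mul_one]; exact hn
    · -- then c ∈ N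
      exfalso
      -- the set of g ∈ K with g ∈ N * ... use the normal subgroup N.subgroupOf K
      have hnormK : K ≤ Subgroup.normalizer (N : Set H) := by
        rw [hK]
        apply sup_le Subgroup.le_normalizer
        rw [Subgroup.zpowers_le, Subgroup.mem_normalizer_iff]
        intro x
        constructor
        · exact hNc x
        · intro hx
          have := conj_inv_pow_mem N c p hp.pos hc hNc 1 _ hx
          simpa [mul_assoc] using this
      have hN'n : (N.subgroupOf K).Normal :=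
        (Subgroup.normal_subgroupOf_iff_le_normalizer hNK).mpr hnormK
      let π := QuotientGroup.mk' (N.subgroupOf K)
      have hπn : π ⟨n, hNK hn⟩ = 1 := by
        rw [QuotientGroup.mk'_apply, QuotientGroup.eq_one_iff, Subgroup.mem_subgroupOf]
        exact hn
      have hπg : π ⟨n * c ^ i, hg⟩ = π ⟨c, hcK⟩ ^ i := by
        have e : (⟨n * c ^ i, hg⟩ : K) = ⟨n, hNK hn⟩ * ⟨c, hcK⟩ ^ i := Subtype.ext (by simp)
        rw [e, map_mul, hπn, one_mul, map_pow]
      have h1 : (π ⟨c, hcK⟩) ^ (i * 2 ^ a) = 1 := by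
        rw [pow_mul, ← hπg, ← map_pow]
        have e : (⟨n * c ^ i, hg⟩ : K) ^ 2 ^ a = 1 := Subtype.ext (by simpa using ha)
        rw [e, map_one]
      have h2' : (π ⟨c, hcK⟩) ^ p = 1 := by
        rw [← map_pow]
        have e : (⟨c, hcK⟩ : K) ^ p = 1 := Subtype.ext (by simpa using hc)
        rw [e, map_one]
      have h3 : orderOf (π ⟨c, hcK⟩) ∣ Nat.gcd (i * 2 ^ a) p :=
        Nat.dvd_gcd (orderOf_dvd_of_pow_eq_one h1) (orderOf_dvd_of_pow_eq_one h2')
      have h4 : Nat.gcd (i * 2 ^ a) p = 1 := by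
        have ha2 : Nat.Coprime (2 ^ a) p := by
          apply Nat.Coprime.pow_left
          rw [Nat.coprime_primes Nat.prime_two hp]
          exact fun h => hp2 h.symm
        have hi2 : Nat.Coprime i p := ((Nat.Prime.coprime_iff_not_dvd hp).mpr hpi).symm
        exact Nat.Coprime.mul_left hi2 ha2
      rw [h4, Nat.dvd_one, orderOf_eq_one_iff, QuotientGroup.mk'_apply, QuotientGroup.eq_one_iff,
        Subgroup.mem_subgroupOf] at h3
      -- c ∈ N, so c has order coprime to p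
      have h5 : orderOf c ∣ Nat.card N := Subgroup.orderOf_dvd_natCard N h3
      rw [hcord] at h5
      exact hp.one_lt.ne' (Nat.Coprime.eq_one_of_dvd hcop.symm h5)
  -- O_p(K) = 1
  have hOp : Cfsg.pCore p ↥K = ⊥ := by
    rw [eq_bot_iff]
    intro g hg
    rw [Subgroup.mem_bot]
    have hOn : (Cfsg.pCore p ↥K).Normal := Cfsg.Agent.Lib.helper40.pCore_normal' p ↥K
    have hOp' : IsPGroup p (Cfsg.pCore p ↥K) := Cfsg.Agent.Lib.helper40.pCore_isPGroup p ↥K
    -- g centralises N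
    have hgN : ∀ x ∈ N, (g : H) * x = x * (g : H) := by
      intro x hx
      have hxK : x ∈ K := hNK hx
      have hmem1 : g * ⟨x, hxK⟩ * g⁻¹ * (⟨x, hxK⟩ : K)⁻¹ ∈ Cfsg.pCore p ↥K := by
        have := hOn.conj_mem g⁻¹ ((Cfsg.pCore p ↥K).inv_mem hg) ⟨x, hxK⟩
        have e : g * ⟨x, hxK⟩ * g⁻¹ * (⟨x, hxK⟩ : K)⁻¹ = g * (⟨x, hxK⟩ * g⁻¹ * (⟨x, hxK⟩ : K)⁻¹) := by
          group
        rw [e]
        exact (Cfsg.pCore p ↥K).mul_mem hg this
      have hmem2 : ((g : H) * x * (g : H)⁻¹ * x⁻¹) ∈ N := by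
        have hgn : (g : H) ∈ Subgroup.normalizer (N : Set H) := by
          have hnormK : K ≤ Subgroup.normalizer (N : Set H) := by
            rw [hK]
            apply sup_le Subgroup.le_normalizer
            rw [Subgroup.zpowers_le, Subgroup.mem_normalizer_iff]
            intro x
            constructor
            · exact hNc x
            · intro hx
              have := conj_inv_pow_mem N c p hp.pos hc hNc 1 _ hx
              simpa [mul_assoc] using this
          exact hnormK g.2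
        exact N.mul_mem ((Subgroup.mem_normalizer_iff.mp hgn x).mp hx) (N.inv_mem hx)
      obtain ⟨k, hk⟩ := hOp' ⟨_, hmem1⟩
      have hk' : ((g : H) * x * (g : H)⁻¹ * x⁻¹) ^ p ^ k = 1 := by
        have := congrArg (fun t : ↥(Cfsg.pCore p ↥K) => ((t : K) : H)) hk
        simpa using this
      have h1 : (g : H) * x * (g : H)⁻¹ * x⁻¹ = 1 := by
        apply Cfsg.Agent.Lib.helper40.eq_one_of_pow_eq_one_of_coprime hk'
        exact Nat.Coprime.coprime_dvd_left (Subgroup.orderOf_dvd_natCard N hmem2) hcop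
      calc (g : H) * x = ((g : H) * x * (g : H)⁻¹ * x⁻¹) * (x * (g : H)) := by group
        _ = x * (g : H) := by rw [h1, one_mul]
    obtain ⟨n, hn, i, hgi⟩ := hform (g : H) g.2
    obtain ⟨k, hk⟩ := hOp' ⟨g, hg⟩
    have hk' : (g : H) ^ p ^ k = 1 := by
      have := congrArg (fun t : ↥(Cfsg.pCore p ↥K) => ((t : K) : H)) hk
      simpa using this
    have hk1 : (g : H) ^ p ^ (k + 1) = 1 := by rw [pow_succ, pow_mul, hk', one_pow]
    have hcomm : Commute (g : H) n := hgN n hn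
    have hci : c ^ i = n⁻¹ * (g : H) := by rw [hgi]; group
    have hcomm2 : Commute n⁻¹ (g : H) := (hcomm.inv_right).symm
    have h3 : (c ^ i) ^ p ^ (k + 1) = 1 := by
      rw [← pow_mul]
      have e : i * p ^ (k + 1) = p * (i * p ^ k) := by ring
      rw [e, pow_mul, hc, one_pow]
    have h4 : (n⁻¹) ^ p ^ (k + 1) = 1 := by
      have := hcomm2.mul_pow (p ^ (k + 1))
      rw [← hci, h3, hk1, mul_one] at this
      exact this.symm
    have hn1 : n⁻¹ = 1 := by
      apply Cfsg.Agent.Lib.helper40.eq_one_of_pow_eq_one_of_coprime h4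
      exact Nat.Coprime.coprime_dvd_left (Subgroup.orderOf_dvd_natCard N (N.inv_mem hn)) hcop
    have hgc : (g : H) = c ^ i := by rw [hci, hn1, one_mul]
    have h5 : c ^ i = 1 := by
      apply hcent i
      intro x hx
      rw [← hgc]; exact hgN x hx
    apply Subtype.ext
    rw [hgc, h5]; rfl
  have hsolK : Cfsg.IsPSolvable p ↥K := isPSolvable_subgroup K hsol
  have hinjK : Function.Injective (ρ.comp K.subtype) :=
    hinj.comp (Subgroup.subtype_injective K)
  have hordK : orderOf (⟨c, hcK⟩ : K) = p ^ 1 := by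
    rw [pow_one, ← hcord]
    exact Subgroup.orderOf_mk c hcK
  have hs : ((ρ.comp K.subtype) ⟨c, hcK⟩ - 1) ^ (p - 1) = 0 := h0
  rcases HHB.theoremB_rep (ρ.comp K.subtype) hinjK hsolK hOp ⟨c, hcK⟩ 1 le_rfl hordK (p - 1) hs
    with h | ⟨n₀, q, m, h1, h2', hq, hqp, hm, hpq, hnab, _⟩
  · have := hp.two_le
    rw [pow_one] at h
    omega
  · have hn0 : n₀ = 1 := le_antisymm h2' h1
    subst hn0
    rw [pow_one] at hpq
    have hodd : ¬ 2 ∣ p := by
      intro h
      exact hp2 ((Nat.prime_dvd_prime_iff_eq Nat.prime_two hp).mp h).symm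
    have h2q : 2 ∣ q ^ m := by
      rw [← hpq]
      have := hp.two_le
      omega
    have hq2 : q = 2 := ((Nat.prime_dvd_prime_iff_eq Nat.prime_two hq).mp
      (Nat.Prime.dvd_of_dvd_pow Nat.prime_two h2q)).symm
    subst hq2
    have : Fact (Nat.Prime 2) := ⟨Nat.prime_two⟩
    obtain ⟨Q⟩ := (Sylow.nonempty : Nonempty (Sylow 2 ↥K))
    apply hnab Q
    refine ⟨⟨fun x y => ?_⟩⟩
    obtain ⟨a, ha⟩ := Q.isPGroup' x
    obtain ⟨b, hb⟩ := Q.isPGroup' y
    have hxa : ((x : K) : H) ^ 2 ^ a = 1 := by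
      have := congrArg (fun t : ↥(Q : Subgroup ↥K) => ((t : K) : H)) ha
      simpa using this
    have hyb : ((y : K) : H) ^ 2 ^ b = 1 := by
      have := congrArg (fun t : ↥(Q : Subgroup ↥K) => ((t : K) : H)) hb
      simpa using this
    have hxN := htwo _ (x : K).2 ⟨a, hxa⟩
    have hyN := htwo _ (y : K).2 ⟨b, hyb⟩
    have := h2 _ hxN _ hyN ⟨a, hxa⟩ ⟨b, hyb⟩
    apply Subtype.ext
    apply Subtype.ext
    simpa using this

end Cfsg.Agent.Lib.helper40.HHD
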