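import Mathlib
import Cfsg.Prelude.Def_Local
import Cfsg.Prelude.Def_Solvable
import Cfsg.Agent.Lib.helper40.HHTB
import Cfsg.Agent.Lib.helper38.MinimalCoprime

/-!
# The scalar-commutator case

`sign_case`: in characteristic `3`, let `c` be a quadratic element of order `3` lying in the
derived group of a subgroup `E` that centralises it, and let `Q` be a `2`-group normalised by
`E` all of whose commutators act as `±1`.  Then `c` centralises `Q`.
-/

set_option autoImplicit false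

namespace Cfsg.Agent.Lib.helper40.HHD

open Cfsg.Agent.Lib.helper38

/-- commutation indicator with values in `ZMod 2` -/
noncomputable def beta {H : Type*} [Group H] (x y : H) : ZMod 2 :=
  haveI := Classical.propDecidable (x * y = y * x)
  if x * y = y * x then 0 else 1

theorem beta_eq_zero_iff {H : Type*} [Group H] (x y : H) : beta x y = 0 ↔ x * y = y * x := by
  unfold beta
  split_ifs with h
  · simp [h]
  · simp only [h, iff_false]
    decide

theorem beta_zero_or_one {H : Type*} [Group H] (x y : H) : beta x y = 0 ∨ beta x y = 1 := by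
  unfold beta
  split_ifs with h
  · left; rfl
  · right; rfl

theorem beta_eq_one_of_ne {H : Type*} [Group H] {x y : H} (h : x * y ≠ y * x) : beta x y = 1 := by
  rcases beta_zero_or_one x y with h0 | h1
  · exact absurd ((beta_eq_zero_iff x y).mp h0) h
  · exact h1

theorem beta_comm {H : Type*} [Group H] (x y : H) : beta x y = beta y x := by
  rcases beta_zero_or_one x y with h0 | h1
  · rw [h0]; symm; rw [beta_eq_zero_iff]; exact ((beta_eq_zero_iff x y).mp h0).symm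
  · rw [h1]; symm; apply beta_eq_one_of_ne
    intro h
    have : beta x y = 0 := (beta_eq_zero_iff x y).mpr h.symm
    rw [h1] at this
    exact absurd this (by decide)

theorem beta_self {H : Type*} [Group H] (x : H) : beta x x = 0 := (beta_eq_zero_iff x x).mpr rfl

theorem beta_conj {H : Type*} [Group H] (g x y : H) :
    beta (g * x * g⁻¹) (g * y * g⁻¹) = beta x y := by
  have key : (g * x * g⁻¹) * (g * y * g⁻¹) = (g * y * g⁻¹) * (g * x * g⁻¹) ↔ x * y = y * x := by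
    constructor
    · intro h
      have h1 : g * (x * y) * g⁻¹ = g * (y * x) * g⁻¹ := by
        calc g * (x * y) * g⁻¹ = (g * x * g⁻¹) * (g * y * g⁻¹) := by group
          _ = (g * y * g⁻¹) * (g * x * g⁻¹) := h
          _ = g * (y * x) * g⁻¹ := by group
      exact mul_left_cancel (mul_right_cancel h1)
    · intro h
      calc (g * x * g⁻¹) * (g * y * g⁻¹) = g * (x * y) * g⁻¹ := by group
        _ = g * (y * x) * g⁻¹ := by rw [h]
        _ = (g * y * g⁻¹) * (g * x * g⁻¹) := by group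
  rcases beta_zero_or_one x y with h0 | h1
  · rw [h0, beta_eq_zero_iff, key]; exact (beta_eq_zero_iff x y).mp h0
  · rw [h1]; apply beta_eq_one_of_ne
    intro h
    have : beta x y = 0 := (beta_eq_zero_iff x y).mpr (key.mp h)
    rw [h1] at this
    exact absurd this (by decide)

theorem beta_inv_left {H : Type*} [Group H] (x y : H) : beta x⁻¹ y = beta x y := by
  have key : x⁻¹ * y = y * x⁻¹ ↔ x * y = y * x := by
    constructor
    · intro h
      calc x * y = x * (y * x⁻¹) * x := by group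
        _ = x * (x⁻¹ * y) * x := by rw [h]
        _ = y * x := by group
    · intro h
      calc x⁻¹ * y = x⁻¹ * (y * x) * x⁻¹ := by group
        _ = x⁻¹ * (x * y) * x⁻¹ := by rw [h]
        _ = y * x⁻¹ := by group
  rcases beta_zero_or_one x y with h0 | h1
  · rw [h0, beta_eq_zero_iff, key]; exact (beta_eq_zero_iff x y).mp h0
  · rw [h1]; apply beta_eq_one_of_ne
    intro h
    have : beta x y = 0 := (beta_eq_zero_iff x y).mpr (key.mp h)
    rw [h1] at this
    exact absurd this (by decide)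

/-- The data of the scalar-commutator case. -/
structure SD {F V H : Type*} [Field F] [AddCommGroup V] [Module F V] [Group H]
    (ρ : H →* Module.End F V) (Q : Subgroup H) (c : H) : Prop where
  inj : Function.Injective ρ
  sc : ∀ x ∈ Q, ∀ y ∈ Q, ρ (x * y * x⁻¹ * y⁻¹) = 1 ∨ ρ (x * y * x⁻¹ * y⁻¹) = -1
  c3 : c ^ 3 = 1
  cQ : ∀ x ∈ Q, c * x * c⁻¹ ∈ Q

section

variable {F V H : Type*} [Field F] [AddCommGroup V] [Module F V] [Group H]
  {ρ : H →* Module.End F V} {Q : Subgroup H} {c : H}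

theorem SD.anticomm (h : SD ρ Q c) {x y : H} (hx : x ∈ Q) (hy : y ∈ Q) (hne : x * y ≠ y * x) :
    ρ (x * y) = - ρ (y * x) := by
  rcases h.sc x hx y hy with h1 | h1
  · exfalso
    apply hne
    have h2 : x * y * x⁻¹ * y⁻¹ = 1 := h.inj (by rw [h1, map_one])
    calc x * y = (x * y * x⁻¹ * y⁻¹) * (y * x) := by group
      _ = y * x := by rw [h2, one_mul]
  · have e : x * y = (x * y * x⁻¹ * y⁻¹) * (y * x) := by group
    rw [e, map_mul, h1, neg_one_mul]

theorem SD.beta_mul_left (h : SD ρ Q c) {x x' y : H} (hx : x ∈ Q) (hx' : x' ∈ Q) (hy : y ∈ Q) :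
    beta (x * x') y = beta x y + beta x' y := by
  by_cases h1 : x * y = y * x
  · by_cases h2 : x' * y = y * x'
    · have h3 : (x * x') * y = y * (x * x') := by
        rw [mul_assoc, h2, ← mul_assoc, h1, mul_assoc]
      rw [(beta_eq_zero_iff _ _).mpr h1, (beta_eq_zero_iff _ _).mpr h2,
        (beta_eq_zero_iff _ _).mpr h3, add_zero]
    · have h3 : (x * x') * y ≠ y * (x * x') := by
        intro h3
        apply h2
        have : x * (x' * y) = x * (y * x') := by
          rw [← mul_assoc, h3, ← mul_assoc, ← h1, mul_assoc]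
        exact mul_left_cancel this
      rw [(beta_eq_zero_iff _ _).mpr h1, beta_eq_one_of_ne h2, beta_eq_one_of_ne h3, zero_add]
  · by_cases h2 : x' * y = y * x'
    · have h3 : (x * x') * y ≠ y * (x * x') := by
        intro h3
        apply h1
        have : (x * y) * x' = (y * x) * x' := by
          rw [mul_assoc, ← h2, ← mul_assoc, h3, mul_assoc]
        exact mul_right_cancel this
      rw [(beta_eq_zero_iff _ _).mpr h2, beta_eq_one_of_ne h1, beta_eq_one_of_ne h3, add_zero]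
    · have a1 := h.anticomm hx hy h1
      have a2 := h.anticomm hx' hy h2
      have h3 : (x * x') * y = y * (x * x') := by
        apply h.inj
        have e1 : ρ ((x * x') * y) = ρ x * ρ (x' * y) := by rw [← map_mul, mul_assoc]
        have e2 : ρ x * ρ (y * x') = ρ (x * y) * ρ x' := by
          rw [← map_mul, ← map_mul, ← mul_assoc]
        have e3 : ρ (y * x) * ρ x' = ρ (y * (x * x')) := by rw [← map_mul, mul_assoc]
        rw [e1, a2, mul_neg, e2, a1, neg_mul, neg_neg, e3]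
      rw [beta_eq_one_of_ne h1, beta_eq_one_of_ne h2, (beta_eq_zero_iff _ _).mpr h3]
      decide

theorem SD.beta_mul_right (h : SD ρ Q c) {x y y' : H} (hx : x ∈ Q) (hy : y ∈ Q) (hy' : y' ∈ Q) :
    beta x (y * y') = beta x y + beta x y' := by
  rw [beta_comm x (y * y'), h.beta_mul_left hy hy' hx, beta_comm y x, beta_comm y' x]

end

theorem closure_comm {G : Type*} [Group G] (s : Set G)
    (hs : ∀ x ∈ s, ∀ y ∈ s, x * y = y * x) :
    ∀ x ∈ Subgroup.closure s, ∀ y ∈ Subgroup.closure s, x * y = y * x := by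
  have h1 : Subgroup.closure s ≤ Subgroup.centralizer s := by
    rw [Subgroup.closure_le]
    intro x hx
    rw [SetLike.mem_coe, Subgroup.mem_centralizer_iff]
    intro y hy
    exact hs y hy x hx
  have h2 : Subgroup.closure s ≤ Subgroup.centralizer (Subgroup.closure s : Set G) := by
    rw [Subgroup.closure_le]
    intro x hx
    rw [SetLike.mem_coe, Subgroup.mem_centralizer_iff]
    intro y hy
    have := Subgroup.mem_centralizer_iff.mp (h1 hy) x hx
    exact this.symm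
  intro x hx y hy
  exact Subgroup.mem_centralizer_iff.mp (h2 hy) x hx

theorem zmod2_three {a b c : ZMod 2} (h : a + b + c = 0) : a = 0 ∨ b = 0 ∨ c = 0 := by
  revert h; revert a b c; decide

theorem zmod2_eq_of_add {a b : ZMod 2} (h : a + b = 0) : a = b := by
  revert h; revert a b; decide

theorem zmod2_sum3 {a : ZMod 2} (h : a + a + a = 0) : a = 0 := by
  revert h; revert a; decide

theorem sign_case {F : Type*} [Field F] [CharP F 3] {V : Type*} [AddCommGroup V] [Module F V]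
    [FiniteDimensional F V] {H : Type*} [Group H] [Finite H] (ρ : H →* Module.End F V)
    (hsol : Cfsg.IsPSolvable 3 H) (Q E : Subgroup H) (c : H) (h : SD ρ Q c)
    (hQ : IsPGroup 2 Q) (hEQ : ∀ b ∈ E, ∀ x ∈ Q, b * x * b⁻¹ ∈ Q)
    (hEc : ∀ b ∈ E, b * c = c * b) (hcE : c ∈ ⁅E, E⁆) (hquad : (ρ c - 1) ^ 2 = 0) :
    ∀ x ∈ Q, c * x * c⁻¹ = x := by
  classical
  have hF3 : Fact (Nat.Prime 3) := ⟨Nat.prime_three⟩
  by_contra hcon
  push Not at hcon
  obtain ⟨x₀, hx₀, hne₀⟩ := hcon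
  have hc3' : c * c * c = 1 := by rw [← h.c3, pow_succ, pow_two]
  have hcinv : c⁻¹ = c * c := inv_eq_of_mul_eq_one_right (by rw [← mul_assoc]; exact hc3')
  have hcj2 : ∀ y, c * (c * y * c⁻¹) * c⁻¹ = c⁻¹ * y * c := by
    intro y
    calc c * (c * y * c⁻¹) * c⁻¹ = (c * c) * y * (c * c)⁻¹ := by group
      _ = c⁻¹ * y * c := by rw [← hcinv, inv_inv]
  have hcj3 : ∀ y, c * (c * (c * y * c⁻¹) * c⁻¹) * c⁻¹ = y := by
    intro y
    rw [hcj2]; group
  have hcQ' : ∀ x ∈ Q, c⁻¹ * x * c ∈ Q := by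
    intro x hx; rw [← hcj2]; exact h.cQ _ (h.cQ x hx)
  have hcN : c ∈ Subgroup.normalizer (Q : Set H) := by
    rw [Subgroup.mem_normalizer_iff]
    intro x
    constructor
    · exact h.cQ x
    · intro hx
      have := hcQ' _ hx
      have e : c⁻¹ * (c * x * c⁻¹) * c = x := by group
      rw [e] at this; exact this
  have hzQ : ∀ (j : ℤ), ∀ x ∈ Q, c ^ j * x * (c ^ j)⁻¹ ∈ Q := fun j x hx =>
    (Subgroup.mem_normalizer_iff.mp (zpow_mem hcN j) x).mp hx
  have hcard3 : ∀ N : Subgroup H, N ≤ Q → (Nat.card N).Coprime 3 := by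
    intro N hN
    obtain ⟨k, hk⟩ := hQ.exists_card_eq
    have hdvd : Nat.card N ∣ Nat.card Q := Subgroup.card_dvd_of_le hN
    rw [hk] at hdvd
    exact Nat.Coprime.coprime_dvd_left hdvd (Nat.Coprime.pow_left k (by norm_num))
  have hconjcomm : ∀ a b : H, a * b = b * a →
      (c * a * c⁻¹) * (c * b * c⁻¹) = (c * b * c⁻¹) * (c * a * c⁻¹) := by
    intro a b hab
    calc (c * a * c⁻¹) * (c * b * c⁻¹) = c * (a * b) * c⁻¹ := by group
      _ = c * (b * a) * c⁻¹ := by rw [hab]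
      _ = (c * b * c⁻¹) * (c * a * c⁻¹) := by group
  -- (not-1)
  have hnot : ∀ g ∈ Q, beta g (c * g * c⁻¹) = 0 → c * g * c⁻¹ = g := by
    intro g hg hb
    by_contra hne
    rw [beta_eq_zero_iff] at hb
    obtain ⟨g1, hg1⟩ : ∃ g1, g1 = c * g * c⁻¹ := ⟨_, rfl⟩
    obtain ⟨g2, hg2⟩ : ∃ g2, g2 = c * g1 * c⁻¹ := ⟨_, rfl⟩
    have hg3 : c * g2 * c⁻¹ = g := by rw [hg2, hg1]; exact hcj3 g
    rw [← hg1] at hb hne
    have h01 : g * g1 = g1 * g := hb
    have h12 : g1 * g2 = g2 * g1 := by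
      have := hconjcomm g g1 h01
      rw [← hg1, ← hg2] at this; exact this
    have h20 : g2 * g = g * g2 := by
      have := hconjcomm g1 g2 h12
      rw [← hg2, hg3] at this; exact this
    have hg1Q : g1 ∈ Q := by rw [hg1]; exact h.cQ g hg
    have hg2Q : g2 ∈ Q := by rw [hg2]; exact h.cQ g1 hg1Q
    obtain ⟨s, hs⟩ : ∃ s : Set H, s = {g, g1, g2} := ⟨_, rfl⟩
    have hscomm : ∀ x ∈ s, ∀ y ∈ s, x * y = y * x := by
      intro x hx y hy
      rw [hs] at hx hy
      simp only [Set.mem_insert_iff, Set.mem_singleton_iff] at hx hy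
      rcases hx with rfl | rfl | rfl <;> rcases hy with rfl | rfl | rfl
      · rfl
      · exact h01
      · exact h20.symm
      · exact h01.symm
      · rfl
      · exact h12
      · exact h20
      · exact h12.symm
      · rfl
    have hNQ : Subgroup.closure s ≤ Q := by
      rw [Subgroup.closure_le]
      intro x hx
      rw [hs] at hx
      simp only [Set.mem_insert_iff, Set.mem_singleton_iff] at hx
      rcases hx with rfl | rfl | rfl
      · exact hg
      · exact hg1Q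
      · exact hg2Q
    have hNc : ∀ x ∈ Subgroup.closure s, c * x * c⁻¹ ∈ Subgroup.closure s := by
      apply closure_conj_invariant
      intro x hx
      apply Subgroup.subset_closure
      rw [hs] at hx ⊢
      simp only [Set.mem_insert_iff, Set.mem_singleton_iff] at hx ⊢
      rcases hx with rfl | rfl | rfl
      · right; left; exact hg1.symm
      · right; right; exact hg2.symm
      · left; exact hg3
    have hgs : g ∈ Subgroup.closure s := by
      apply Subgroup.subset_closure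
      rw [hs]; simp
    have := tb_gen (p := 3) (by norm_num) ρ h.inj hsol (Subgroup.closure s) c h.c3 hNc
      (hcard3 _ hNQ) (fun x hx y hy _ _ => closure_comm s hscomm x hx y hy)
      ⟨g, hgs, by rw [← hg1]; exact hne⟩
    exact this hquad
  -- choose u
  have hcop2 : (orderOf c).Coprime 2 :=
    Nat.Coprime.coprime_dvd_left (orderOf_dvd_of_pow_eq_one h.c3) (by norm_num)
  have hex : ∃ x ∈ Q, c * (c * x * c⁻¹ * x⁻¹) * c⁻¹ ≠ c * x * c⁻¹ * x⁻¹ := by
    by_contra hall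
    push Not at hall
    exact hne₀ (conj_eq_of_commutator_fixed Q hQ c hcop2 h.cQ hall x₀ hx₀)
  obtain ⟨x₁, hx₁, hune'⟩ := hex
  obtain ⟨u, hu_def⟩ : ∃ u, u = c * x₁ * c⁻¹ * x₁⁻¹ := ⟨_, rfl⟩
  rw [← hu_def] at hune'
  have huW : ∃ x ∈ Q, u = c * x * c⁻¹ * x⁻¹ := ⟨x₁, hx₁, hu_def⟩
  have hWQ : ∀ v, (∃ x ∈ Q, v = c * x * c⁻¹ * x⁻¹) → v ∈ Q := by
    rintro v ⟨x, hx, rfl⟩
    exact Q.mul_mem (h.cQ x hx) (Q.inv_mem hx)
  have hWc : ∀ v, (∃ x ∈ Q, v = c * x * c⁻¹ * x⁻¹) →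
      ∃ x ∈ Q, c * v * c⁻¹ = c * x * c⁻¹ * x⁻¹ := by
    rintro v ⟨x, hx, rfl⟩
    exact ⟨c * x * c⁻¹, h.cQ x hx, by group⟩
  have hWa : ∀ v, (∃ x ∈ Q, v = c * x * c⁻¹ * x⁻¹) → ∀ y ∈ Q,
      beta v y + beta (c * v * c⁻¹) y + beta (c * (c * v * c⁻¹) * c⁻¹) y = 0 := by
    rintro v ⟨x, hx, rfl⟩ y hy
    have hx1 := h.cQ x hx
    have hx2 := h.cQ _ hx1
    have e1 : c * (c * x * c⁻¹ * x⁻¹) * c⁻¹ = (c * (c * x * c⁻¹) * c⁻¹) * (c * x * c⁻¹)⁻¹ := by
      group
    have e2 : c * (c * (c * x * c⁻¹ * x⁻¹) * c⁻¹) * c⁻¹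
        = (c * (c * (c * x * c⁻¹) * c⁻¹) * c⁻¹) * (c * (c * x * c⁻¹) * c⁻¹)⁻¹ := by group
    rw [e2, hcj3 x, e1, h.beta_mul_left hx1 (Q.inv_mem hx) hy,
      h.beta_mul_left hx2 (Q.inv_mem hx1) hy, h.beta_mul_left hx (Q.inv_mem hx2) hy,
      beta_inv_left, beta_inv_left, beta_inv_left]
    generalize beta x y = a
    generalize beta (c * x * c⁻¹) y = b
    generalize beta (c * (c * x * c⁻¹) * c⁻¹) y = d
    revert a b d; decide
  have hWn : ∀ v, (∃ x ∈ Q, v = c * x * c⁻¹ * x⁻¹) → ∀ y ∈ Q,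
      beta v (y * (c * y * c⁻¹) * (c * (c * y * c⁻¹) * c⁻¹)) = 0 := by
    rintro v ⟨x, hx, rfl⟩ y hy
    have hx1 := h.cQ x hx
    have hy1 := h.cQ y hy
    have hy2 := h.cQ _ hy1
    have hnQ : y * (c * y * c⁻¹) * (c * (c * y * c⁻¹) * c⁻¹) ∈ Q :=
      Q.mul_mem (Q.mul_mem hy hy1) hy2
    have e1 : beta (c * x * c⁻¹) (y * (c * y * c⁻¹) * (c * (c * y * c⁻¹) * c⁻¹))
        = beta x (c⁻¹ * (y * (c * y * c⁻¹) * (c * (c * y * c⁻¹) * c⁻¹)) * c) := by
      rw [← beta_conj c⁻¹ (c * x * c⁻¹) (y * (c * y * c⁻¹) * (c * (c * y * c⁻¹) * c⁻¹))]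
      congr 1 <;> group
    have e2 : c⁻¹ * (y * (c * y * c⁻¹) * (c * (c * y * c⁻¹) * c⁻¹)) * c
        = (c * (c * y * c⁻¹) * c⁻¹) * y * (c * y * c⁻¹) := by
      calc c⁻¹ * (y * (c * y * c⁻¹) * (c * (c * y * c⁻¹) * c⁻¹)) * c
          = (c⁻¹ * y * c) * y * (c * y * c⁻¹) := by group
        _ = (c * (c * y * c⁻¹) * c⁻¹) * y * (c * y * c⁻¹) := by rw [hcj2 y]
    rw [h.beta_mul_left hx1 (Q.inv_mem hx) hnQ, beta_inv_left, e1, e2,
      h.beta_mul_right hx (Q.mul_mem hy2 hy) hy1, h.beta_mul_right hx hy2 hy,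
      h.beta_mul_right hx (Q.mul_mem hy hy1) hy2, h.beta_mul_right hx hy hy1]
    generalize beta x y = a
    generalize beta x (c * y * c⁻¹) = b
    generalize beta x (c * (c * y * c⁻¹) * c⁻¹) = d
    revert a b d; decide
  have huQ : u ∈ Q := hWQ u huW
  have hu1 : beta u (c * u * c⁻¹) = 1 := by
    rcases beta_zero_or_one u (c * u * c⁻¹) with h0 | h1
    · exact absurd (hnot u huQ h0) hune'
    · exact h1
  have hu1Q := h.cQ u huQ
  -- key: a commutator element `t` commuting with `u` has the same commutation pattern as `u`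
  have hC : ∀ t, (∃ x ∈ Q, t = c * x * c⁻¹ * x⁻¹) → c * t * c⁻¹ ≠ t → beta u t = 0 →
      ∀ y ∈ Q, beta t y = beta u y := by
    intro t ht htne hut y hy
    have htQ := hWQ t ht
    have ht1Q := h.cQ t htQ
    have ht2Q := h.cQ _ ht1Q
    have hgg : beta (u * t) (c * (u * t) * c⁻¹) = 0 := by
      have e : c * (u * t) * c⁻¹ = (c * u * c⁻¹) * (c * t * c⁻¹) := by group
      rw [e, h.beta_mul_left huQ htQ (Q.mul_mem hu1Q ht1Q), h.beta_mul_right huQ hu1Q ht1Q,
        h.beta_mul_right htQ hu1Q ht1Q]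
      have b2 : beta t (c * t * c⁻¹) = 1 := by
        rcases beta_zero_or_one t (c * t * c⁻¹) with h0 | h1
        · exact absurd (hnot t htQ h0) htne
        · exact h1
      have b3 : beta t (c * u * c⁻¹) = beta u (c * (c * t * c⁻¹) * c⁻¹) := by
        calc beta t (c * u * c⁻¹)
            = beta (c * t * c⁻¹) (c * (c * u * c⁻¹) * c⁻¹) := (beta_conj c t (c * u * c⁻¹)).symm
          _ = beta (c * (c * t * c⁻¹) * c⁻¹) (c * (c * (c * u * c⁻¹) * c⁻¹) * c⁻¹) :=
              (beta_conj c _ _).symm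
          _ = beta (c * (c * t * c⁻¹) * c⁻¹) u := by rw [hcj3 u]
          _ = beta u (c * (c * t * c⁻¹) * c⁻¹) := beta_comm _ _
      have b4 := hWa t ht u huQ
      rw [beta_comm t u, hut, zero_add, beta_comm (c * t * c⁻¹) u,
        beta_comm (c * (c * t * c⁻¹) * c⁻¹) u] at b4
      rw [hu1, b2, b3]
      generalize beta u (c * t * c⁻¹) = a at b4 ⊢
      generalize beta u (c * (c * t * c⁻¹) * c⁻¹) = b at b4 ⊢
      revert b4; revert a b; decide
    have hfix : c * (u * t) * c⁻¹ = u * t := hnot _ (Q.mul_mem huQ htQ) hgg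
    have hy1 := h.cQ y hy
    have hy2 := h.cQ _ hy1
    have k1 : beta (u * t) (c * y * c⁻¹) = beta (u * t) y := by
      have := beta_conj c (u * t) y
      rw [hfix] at this; exact this
    have k2 : beta (u * t) (c * (c * y * c⁻¹) * c⁻¹) = beta (u * t) y := by
      have := beta_conj c (u * t) (c * y * c⁻¹)
      rw [hfix, k1] at this; exact this
    have k3 : beta (u * t) (y * (c * y * c⁻¹) * (c * (c * y * c⁻¹) * c⁻¹)) = 0 := by
      rw [h.beta_mul_left huQ htQ (Q.mul_mem (Q.mul_mem hy hy1) hy2), hWn u huW y hy,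
        hWn t ht y hy, add_zero]
    rw [h.beta_mul_right (Q.mul_mem huQ htQ) (Q.mul_mem hy hy1) hy2,
      h.beta_mul_right (Q.mul_mem huQ htQ) hy hy1, k1, k2] at k3
    have k4 : beta (u * t) y = 0 := zmod2_sum3 k3
    rw [h.beta_mul_left huQ htQ hy] at k4
    exact (zmod2_eq_of_add k4).symm
  -- transfer along powers of c
  have hshift : ∀ (i : ℤ) (v : H), (∀ y ∈ Q, beta (c ^ i * v * (c ^ i)⁻¹) y = beta u y) →
      ∀ y ∈ Q, beta v y = beta (c ^ (-i) * u * (c ^ (-i))⁻¹) y := by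
    intro i v hv y hy
    have h1 := hv _ (hzQ i y hy)
    rw [beta_conj] at h1
    rw [h1, ← beta_conj (c ^ (-i)) u (c ^ i * y * (c ^ i)⁻¹)]
    congr 1
    rw [zpow_neg]; group
  have hD : ∀ b ∈ E, ∃ j : ℤ, ∀ y ∈ Q,
      beta (b * u * b⁻¹) y = beta (c ^ j * u * (c ^ j)⁻¹) y := by
    intro b hb
    have hbc : b * c = c * b := hEc b hb
    have hbc' : c⁻¹ * b⁻¹ = b⁻¹ * c⁻¹ := by
      rw [← mul_inv_rev, ← mul_inv_rev, hbc]
    have hbconj : ∀ z : H, c * (b * z * b⁻¹) * c⁻¹ = b * (c * z * c⁻¹) * b⁻¹ := by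
      intro z
      calc c * (b * z * b⁻¹) * c⁻¹ = (c * b) * z * (b⁻¹ * c⁻¹) := by group
        _ = (b * c) * z * (c⁻¹ * b⁻¹) := by rw [hbc, hbc']
        _ = b * (c * z * c⁻¹) * b⁻¹ := by group
    obtain ⟨v, hv⟩ : ∃ v, v = b * u * b⁻¹ := ⟨_, rfl⟩
    have hvW : ∃ x ∈ Q, v = c * x * c⁻¹ * x⁻¹ := by
      refine ⟨b * x₁ * b⁻¹, hEQ b hb x₁ hx₁, ?_⟩
      rw [hv, hu_def, hbconj]; group
    have hvc : c * v * c⁻¹ = b * (c * u * c⁻¹) * b⁻¹ := by rw [hv, hbconj]
    have hvne : c * v * c⁻¹ ≠ v := by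
      rw [hvc, hv]
      intro h'
      exact hune' (mul_left_cancel (mul_right_cancel h'))
    have hv1W := hWc v hvW
    have hv1ne : c * (c * v * c⁻¹) * c⁻¹ ≠ c * v * c⁻¹ := fun h' =>
      hvne (mul_left_cancel (mul_right_cancel h'))
    have hv2W := hWc _ hv1W
    have hv2ne : c * (c * (c * v * c⁻¹) * c⁻¹) * c⁻¹ ≠ c * (c * v * c⁻¹) * c⁻¹ := fun h' =>
      hv1ne (mul_left_cancel (mul_right_cancel h'))
    have h3 := hWa v hvW u huQ
    rw [← hv]
    rcases zmod2_three h3 with h0 | h0 | h0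
    · refine ⟨-0, hshift 0 v ?_⟩
      intro y hy
      have := hC v hvW hvne (by rw [beta_comm]; exact h0) y hy
      simpa using this
    · refine ⟨-1, hshift 1 v ?_⟩
      intro y hy
      have := hC _ hv1W hv1ne (by rw [beta_comm]; exact h0) y hy
      simpa using this
    · refine ⟨-2, hshift 2 v ?_⟩
      intro y hy
      have := hC _ hv2W hv2ne (by rw [beta_comm]; exact h0) y hy
      have e : c ^ (2 : ℤ) * v * (c ^ (2 : ℤ))⁻¹ = c * (c * v * c⁻¹) * c⁻¹ := by
        rw [zpow_two]; group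
      rw [e]; exact this
  -- composition rules
  have hEQ' : ∀ b ∈ E, ∀ x ∈ Q, b⁻¹ * x * b ∈ Q := by
    intro b hb x hx
    have := hEQ b⁻¹ (E.inv_mem hb) x hx
    rw [inv_inv] at this; exact this
  have hEz : ∀ b ∈ E, ∀ j : ℤ, b * c ^ j = c ^ j * b := by
    intro b hb j
    exact ((show Commute b c from hEc b hb).zpow_right j).eq
  have hRmul : ∀ (j k : ℤ) (b b' : H), b ∈ E → b' ∈ E →
      (∀ y ∈ Q, beta (b * u * b⁻¹) y = beta (c ^ j * u * (c ^ j)⁻¹) y) →
      (∀ y ∈ Q, beta (b' * u * b'⁻¹) y = beta (c ^ k * u * (c ^ k)⁻¹) y) →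
      ∀ y ∈ Q, beta ((b * b') * u * (b * b')⁻¹) y = beta (c ^ (j + k) * u * (c ^ (j + k))⁻¹) y := by
    intro j k b b' hb hb' hR hR' y hy
    have hbk := hEz b hb k
    calc beta ((b * b') * u * (b * b')⁻¹) y
        = beta (b' * u * b'⁻¹) (b⁻¹ * y * b) := by
          rw [← beta_conj b (b' * u * b'⁻¹) (b⁻¹ * y * b)]
          congr 1 <;> group
      _ = beta (c ^ k * u * (c ^ k)⁻¹) (b⁻¹ * y * b) := hR' _ (hEQ' b hb y hy)
      _ = beta (b * (c ^ k * u * (c ^ k)⁻¹) * b⁻¹) y := by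
          rw [← beta_conj b (c ^ k * u * (c ^ k)⁻¹) (b⁻¹ * y * b)]
          congr 1; group
      _ = beta (c ^ k * (b * u * b⁻¹) * (c ^ k)⁻¹) y := by
          congr 1
          calc b * (c ^ k * u * (c ^ k)⁻¹) * b⁻¹ = (b * c ^ k) * u * (b * c ^ k)⁻¹ := by group
            _ = (c ^ k * b) * u * (c ^ k * b)⁻¹ := by rw [hbk]
            _ = c ^ k * (b * u * b⁻¹) * (c ^ k)⁻¹ := by group
      _ = beta (b * u * b⁻¹) ((c ^ k)⁻¹ * y * c ^ k) := by
          rw [← beta_conj (c ^ k) (b * u * b⁻¹) ((c ^ k)⁻¹ * y * c ^ k)]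
          congr 1; group
      _ = beta (c ^ j * u * (c ^ j)⁻¹) ((c ^ k)⁻¹ * y * c ^ k) := by
          apply hR
          have := hzQ (-k) y hy
          rw [zpow_neg, inv_inv] at this; exact this
      _ = beta (c ^ (j + k) * u * (c ^ (j + k))⁻¹) y := by
          rw [← beta_conj (c ^ k) (c ^ j * u * (c ^ j)⁻¹) ((c ^ k)⁻¹ * y * c ^ k)]
          congr 1
          · rw [add_comm j k, zpow_add]; group
          · group
  have hRinv : ∀ (j : ℤ) (b : H), b ∈ E →
      (∀ y ∈ Q, beta (b * u * b⁻¹) y = beta (c ^ j * u * (c ^ j)⁻¹) y) →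
      ∀ y ∈ Q, beta (b⁻¹ * u * b⁻¹⁻¹) y = beta (c ^ (-j) * u * (c ^ (-j))⁻¹) y := by
    intro j b hb hR y hy
    have hbj := hEz b hb j
    have hy3 : c ^ j * (b * y * b⁻¹) * (c ^ j)⁻¹ ∈ Q := hzQ j _ (hEQ b hb y hy)
    calc beta (b⁻¹ * u * b⁻¹⁻¹) y
        = beta u (b * y * b⁻¹) := by
          rw [← beta_conj b (b⁻¹ * u * b⁻¹⁻¹) y]
          congr 1; group
      _ = beta (c ^ j * u * (c ^ j)⁻¹) (c ^ j * (b * y * b⁻¹) * (c ^ j)⁻¹) :=
          (beta_conj (c ^ j) u (b * y * b⁻¹)).symm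
      _ = beta (b * u * b⁻¹) (c ^ j * (b * y * b⁻¹) * (c ^ j)⁻¹) := (hR _ hy3).symm
      _ = beta u (c ^ j * y * (c ^ j)⁻¹) := by
          rw [← beta_conj b u (c ^ j * y * (c ^ j)⁻¹)]
          congr 1
          calc c ^ j * (b * y * b⁻¹) * (c ^ j)⁻¹ = (c ^ j * b) * y * (c ^ j * b)⁻¹ := by group
            _ = (b * c ^ j) * y * (b * c ^ j)⁻¹ := by rw [hbj]
            _ = b * (c ^ j * y * (c ^ j)⁻¹) * b⁻¹ := by group
      _ = beta (c ^ (-j) * u * (c ^ (-j))⁻¹) y := by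
          rw [← beta_conj (c ^ (-j)) u (c ^ j * y * (c ^ j)⁻¹)]
          congr 1
          rw [zpow_neg]; group
  -- the subgroup of E acting trivially
  let S : Subgroup H :=
    { carrier := {b | b ∈ E ∧ ∀ y ∈ Q, beta (b * u * b⁻¹) y = beta u y}
      one_mem' := ⟨E.one_mem, fun y _ => by simp⟩
      mul_mem' := by
        rintro b b' ⟨hb, hR⟩ ⟨hb', hR'⟩
        refine ⟨E.mul_mem hb hb', fun y hy => ?_⟩
        have := hRmul 0 0 b b' hb hb' (fun y hy => by simpa using hR y hy)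
          (fun y hy => by simpa using hR' y hy) y hy
        simpa using this
      inv_mem' := by
        rintro b ⟨hb, hR⟩
        refine ⟨E.inv_mem hb, fun y hy => ?_⟩
        have := hRinv 0 b hb (fun y hy => by simpa using hR y hy) y hy
        simpa using this }
  have hSle : ⁅E, E⁆ ≤ S := by
    rw [Subgroup.commutator_le]
    intro g₁ h₁ g₂ h₂
    obtain ⟨j₁, hj₁⟩ := hD g₁ h₁
    obtain ⟨j₂, hj₂⟩ := hD g₂ h₂
    have hi₁ := hRinv j₁ g₁ h₁ hj₁
    have hi₂ := hRinv j₂ g₂ h₂ hj₂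
    have m1 := hRmul j₁ j₂ g₁ g₂ h₁ h₂ hj₁ hj₂
    have m2 := hRmul (j₁ + j₂) (-j₁) (g₁ * g₂) g₁⁻¹ (E.mul_mem h₁ h₂) (E.inv_mem h₁) m1 hi₁
    have m3 := hRmul (j₁ + j₂ + -j₁) (-j₂) (g₁ * g₂ * g₁⁻¹) g₂⁻¹
      (E.mul_mem (E.mul_mem h₁ h₂) (E.inv_mem h₁)) (E.inv_mem h₂) m2 hi₂
    have e0 : j₁ + j₂ + -j₁ + -j₂ = 0 := by ring
    rw [e0] at m3
    refine ⟨E.mul_mem (E.mul_mem (E.mul_mem h₁ h₂) (E.inv_mem h₁)) (E.inv_mem h₂), fun y hy => ?_⟩
    have := m3 y hy
    rw [commutatorElement_def]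
    simpa using this
  have hcS : c ∈ S := hSle hcE
  have hfin := hcS.2 u huQ
  rw [beta_self, beta_comm] at hfin
  rw [hfin] at hu1
  exact absurd hu1 (by decide)

end Cfsg.Agent.Lib.helper40.HHD
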