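import Mathlib
import Cfsg.Prelude.Def_Local
import Cfsg.Prelude.Def_Solvable
import Cfsg.Agent.Lib.helper40.HHSign
import Cfsg.Agent.Lib.helper40.HHMinQ
import Cfsg.Agent.Lib.helper38.HallHigman2

/-!
# Reduction to the scalar-commutator case

* `span_common_eq_top` : commuting involutions are simultaneously diagonalisable (char ≠ 2).
* `restrictRep` : restriction of a representation to an invariant subspace and a subgroup.
* `sign_case_sub` : `sign_case` on an invariant subspace.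
-/

set_option autoImplicit false

namespace Cfsg.Agent.Lib.helper40.HHD

open Cfsg.Agent.Lib.helper38

theorem le_span_common {F : Type*} [Field F] (h2 : (2 : F) ≠ 0) {V : Type*} [AddCommGroup V]
    [Module F V] [FiniteDimensional F V] (S : Set (Module.End F V)) (hinv : ∀ a ∈ S, a * a = 1)
    (hcomm : ∀ a ∈ S, ∀ b ∈ S, a * b = b * a) :
    ∀ (n : ℕ) (W : Submodule F V), Module.finrank F W ≤ n → (∀ a ∈ S, ∀ w ∈ W, a w ∈ W) →
      W ≤ Submodule.span F {v | ∀ a ∈ S, a v = v ∨ a v = -v} := by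
  intro n
  induction n with
  | zero =>
    intro W hW _
    have : W = ⊥ := Submodule.finrank_eq_zero.mp (Nat.le_zero.mp hW)
    rw [this]; exact bot_le
  | succ n ih =>
    intro W hW hWinv
    by_cases hall : ∀ a ∈ S, (∀ w ∈ W, a w = w) ∨ (∀ w ∈ W, a w = -w)
    · intro w hw
      apply Submodule.subset_span
      intro a ha
      rcases hall a ha with h | h
      · left; exact h w hw
      · right; exact h w hw
    · push Not at hall
      obtain ⟨a, ha, ⟨w1, hw1, hw1ne⟩, ⟨w2, hw2, hw2ne⟩⟩ := hall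
      have haa : ∀ w : V, a (a w) = w := by
        intro w
        have := congrArg (fun f : Module.End F V => f w) (hinv a ha)
        simpa using this
      have hab : ∀ b ∈ S, ∀ w : V, a (b w) = b (a w) := by
        intro b hb w
        have := congrArg (fun f : Module.End F V => f w) (hcomm a ha b hb)
        simpa using this
      have hWp_inv : ∀ b ∈ S, ∀ w ∈ W ⊓ LinearMap.ker (a - 1), b w ∈ W ⊓ LinearMap.ker (a - 1) := by
        intro b hb w hw
        rw [Submodule.mem_inf, LinearMap.mem_ker] at hw ⊢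
        refine ⟨hWinv b hb w hw.1, ?_⟩
        have h1 : a w = w := by
          have := hw.2
          rw [LinearMap.sub_apply, sub_eq_zero] at this
          simpa using this
        rw [LinearMap.sub_apply, hab b hb, h1]
        simp
      have hWm_inv : ∀ b ∈ S, ∀ w ∈ W ⊓ LinearMap.ker (a + 1), b w ∈ W ⊓ LinearMap.ker (a + 1) := by
        intro b hb w hw
        rw [Submodule.mem_inf, LinearMap.mem_ker] at hw ⊢
        refine ⟨hWinv b hb w hw.1, ?_⟩
        have h1 : a w = -w := by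
          have := hw.2
          rw [LinearMap.add_apply] at this
          have h' : a w + w = 0 := by simpa using this
          exact eq_neg_of_add_eq_zero_left h'
        rw [LinearMap.add_apply, hab b hb, h1]
        simp
      have hlt_p : W ⊓ LinearMap.ker (a - 1) < W := by
        refine lt_of_le_of_ne inf_le_left ?_
        intro h
        apply hw1ne
        have : w1 ∈ W ⊓ LinearMap.ker (a - 1) := by rw [h]; exact hw1
        have h3 := (Submodule.mem_inf.mp this).2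
        rw [LinearMap.mem_ker, LinearMap.sub_apply, sub_eq_zero] at h3
        simpa using h3
      have hlt_m : W ⊓ LinearMap.ker (a + 1) < W := by
        refine lt_of_le_of_ne inf_le_left ?_
        intro h
        apply hw2ne
        have : w2 ∈ W ⊓ LinearMap.ker (a + 1) := by rw [h]; exact hw2
        have h3 := (Submodule.mem_inf.mp this).2
        rw [LinearMap.mem_ker, LinearMap.add_apply] at h3
        have h' : a w2 + w2 = 0 := by simpa using h3
        exact eq_neg_of_add_eq_zero_left h'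
      have hfp : Module.finrank F ↥(W ⊓ LinearMap.ker (a - 1)) ≤ n := by
        have := Submodule.finrank_lt_finrank_of_lt hlt_p
        omega
      have hfm : Module.finrank F ↥(W ⊓ LinearMap.ker (a + 1)) ≤ n := by
        have := Submodule.finrank_lt_finrank_of_lt hlt_m
        omega
      have ihp := ih _ hfp hWp_inv
      have ihm := ih _ hfm hWm_inv
      intro w hw
      have hp : w + a w ∈ W ⊓ LinearMap.ker (a - 1) := by
        rw [Submodule.mem_inf, LinearMap.mem_ker]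
        refine ⟨W.add_mem hw (hWinv a ha w hw), ?_⟩
        rw [LinearMap.sub_apply, map_add, haa]
        simp only [Module.End.one_apply]
        abel
      have hm : w - a w ∈ W ⊓ LinearMap.ker (a + 1) := by
        rw [Submodule.mem_inf, LinearMap.mem_ker]
        refine ⟨W.sub_mem hw (hWinv a ha w hw), ?_⟩
        rw [LinearMap.add_apply, map_sub, haa]
        simp only [Module.End.one_apply]
        abel
      have e : w = (2 : F)⁻¹ • ((w + a w) + (w - a w)) := by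
        have : (w + a w) + (w - a w) = (2 : F) • w := by rw [two_smul]; abel
        rw [this, inv_smul_smul₀ h2]
      rw [e]
      exact Submodule.smul_mem _ _ (Submodule.add_mem _ (ihp hp) (ihm hm))

theorem eq_one_of_fix_common {F : Type*} [Field F] (h2 : (2 : F) ≠ 0) {V : Type*}
    [AddCommGroup V] [Module F V] [FiniteDimensional F V] (S : Set (Module.End F V))
    (hinv : ∀ a ∈ S, a * a = 1) (hcomm : ∀ a ∈ S, ∀ b ∈ S, a * b = b * a)
    (g : Module.End F V) (hg : ∀ v, (∀ a ∈ S, a v = v ∨ a v = -v) → g v = v) : g = 1 := by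
  have htop : Submodule.span F {v | ∀ a ∈ S, a v = v ∨ a v = -v} = ⊤ := by
    rw [eq_top_iff]
    exact le_span_common h2 S hinv hcomm (Module.finrank F (⊤ : Submodule F V)) ⊤ le_rfl
      (fun _ _ _ _ => Submodule.mem_top)
  apply LinearMap.ext_on htop
  intro v hv
  rw [Module.End.one_apply]
  exact hg v hv

/-- restriction of a representation -/
noncomputable def restrictRep {F V H : Type*} [Field F] [AddCommGroup V] [Module F V] [Group H]
    (ρ : H →* Module.End F V) (V' : Submodule F V) (T : Subgroup H)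
    (hT : ∀ g ∈ T, ∀ w ∈ V', ρ g w ∈ V') : ↥T →* Module.End F ↥V' where
  toFun g := (ρ (g : H)).restrict (hT g g.2)
  map_one' := by
    apply LinearMap.ext; intro w; apply Subtype.ext
    simp [LinearMap.restrict_apply]
  map_mul' g g' := by
    apply LinearMap.ext; intro w; apply Subtype.ext
    simp [LinearMap.restrict_apply, map_mul]

theorem restrictRep_apply {F V H : Type*} [Field F] [AddCommGroup V] [Module F V] [Group H]
    (ρ : H →* Module.End F V) (V' : Submodule F V) (T : Subgroup H)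
    (hT : ∀ g ∈ T, ∀ w ∈ V', ρ g w ∈ V') (g : ↥T) (w : ↥V') :
    ((restrictRep ρ V' T hT g) w : V) = ρ (g : H) (w : V) := rfl

theorem sign_case_sub {F : Type*} [Field F] [CharP F 3] {V : Type*} [AddCommGroup V]
    [Module F V] [FiniteDimensional F V] {H : Type*} [Group H] [Finite H]
    (ρ : H →* Module.End F V) (hsol : Cfsg.IsPSolvable 3 H) (V' : Submodule F V)
    (T : Subgroup H) (hT : ∀ g ∈ T, ∀ w ∈ V', ρ g w ∈ V') (Q E : Subgroup H) (hQT : Q ≤ T)
    (hET : E ≤ T) (c : H) (hQ : IsPGroup 2 Q) (hc3 : c ^ 3 = 1)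
    (hEQ : ∀ b ∈ E, ∀ x ∈ Q, b * x * b⁻¹ ∈ Q)
    (hEc : ∀ b ∈ E, b * c = c * b) (hcE : c ∈ ⁅E, E⁆) (hquad : (ρ c - 1) ^ 2 = 0)
    (hsc : ∀ x ∈ Q, ∀ y ∈ Q, (∀ w ∈ V', ρ (x * y * x⁻¹ * y⁻¹) w = w) ∨
      (∀ w ∈ V', ρ (x * y * x⁻¹ * y⁻¹) w = -w)) :
    ∀ x ∈ Q, ∀ w ∈ V', ρ (c * x * c⁻¹ * x⁻¹) w = w := by
  classical
  have hF3 : Fact (Nat.Prime 3) := ⟨Nat.prime_three⟩
  intro x hx w hw
  have hcEE : c ∈ E := Subgroup.commutator_le_self E hcE
  have hcT : c ∈ T := hET hcEE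
  obtain ⟨r, hr⟩ : ∃ r : ↥T →* Module.End F ↥V', r = restrictRep ρ V' T hT := ⟨_, rfl⟩
  have hr_apply : ∀ (g : ↥T) (w : ↥V'), ((r g) w : V) = ρ (g : H) (w : V) := by
    intro g w; rw [hr]; rfl
  obtain ⟨ρ', hρ'⟩ : ∃ ρ' : (↥T ⧸ r.ker) →* Module.End F ↥V',
      ∀ g : ↥T, ρ' (QuotientGroup.mk' r.ker g) = r g :=
    ⟨QuotientGroup.lift r.ker r le_rfl, fun g => rfl⟩
  have hinj' : Function.Injective ρ' := by
    intro a b hab
    obtain ⟨a, rfl⟩ := QuotientGroup.mk'_surjective r.ker a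
    obtain ⟨b, rfl⟩ := QuotientGroup.mk'_surjective r.ker b
    rw [hρ', hρ'] at hab
    rw [QuotientGroup.mk'_apply, QuotientGroup.mk'_apply, QuotientGroup.eq, MonoidHom.mem_ker,
      map_mul, ← hab, ← map_mul, inv_mul_cancel, map_one]
  have hsol' : Cfsg.IsPSolvable 3 (↥T ⧸ r.ker) :=
    isPSolvable_quotient _ (isPSolvable_subgroup T hsol)
  obtain ⟨π, hπ⟩ : ∃ π : ↥T →* (↥T ⧸ r.ker), π = QuotientGroup.mk' r.ker := ⟨_, rfl⟩
  have hρπ : ∀ g : ↥T, ρ' (π g) = r g := by intro g; rw [hπ]; exact hρ' g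
  obtain ⟨Q', hQ'⟩ : ∃ Q' : Subgroup (↥T ⧸ r.ker), Q' = (Q.subgroupOf T).map π := ⟨_, rfl⟩
  obtain ⟨E', hE'⟩ : ∃ E' : Subgroup (↥T ⧸ r.ker), E' = (E.subgroupOf T).map π := ⟨_, rfl⟩
  have hmemQ' : ∀ y ∈ Q', ∃ y₁ : ↥T, (y₁ : H) ∈ Q ∧ π y₁ = y := by
    intro y hy
    rw [hQ'] at hy
    obtain ⟨y₁, hy₁, rfl⟩ := hy
    exact ⟨y₁, Subgroup.mem_subgroupOf.mp hy₁, rfl⟩
  have hmemE' : ∀ y ∈ E', ∃ y₁ : ↥T, (y₁ : H) ∈ E ∧ π y₁ = y := by
    intro y hy
    rw [hE'] at hy
    obtain ⟨y₁, hy₁, rfl⟩ := hy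
    exact ⟨y₁, Subgroup.mem_subgroupOf.mp hy₁, rfl⟩
  have hinQ' : ∀ y₁ : ↥T, (y₁ : H) ∈ Q → π y₁ ∈ Q' := by
    intro y₁ hy₁
    rw [hQ']
    exact Subgroup.mem_map_of_mem _ (Subgroup.mem_subgroupOf.mpr hy₁)
  have hSD : SD ρ' Q' (π ⟨c, hcT⟩) := by
    refine ⟨hinj', ?_, ?_, ?_⟩
    · intro a ha b hb
      obtain ⟨a₁, ha₁, rfl⟩ := hmemQ' a ha
      obtain ⟨b₁, hb₁, rfl⟩ := hmemQ' b hb
      have e : π a₁ * π b₁ * (π a₁)⁻¹ * (π b₁)⁻¹ = π (a₁ * b₁ * a₁⁻¹ * b₁⁻¹) := by
        simp only [map_mul, map_inv]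
      rw [e, hρπ]
      rcases hsc _ ha₁ _ hb₁ with h | h
      · left
        apply LinearMap.ext; intro w'; apply Subtype.ext
        rw [hr_apply]
        exact h _ w'.2
      · right
        apply LinearMap.ext; intro w'; apply Subtype.ext
        rw [hr_apply]
        have := h _ w'.2
        simpa using this
    · rw [← map_pow]
      have : (⟨c, hcT⟩ : ↥T) ^ 3 = 1 := Subtype.ext (by simpa using hc3)
      rw [this, map_one]
    · intro a ha
      obtain ⟨a₁, ha₁, rfl⟩ := hmemQ' a ha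
      have e : π ⟨c, hcT⟩ * π a₁ * (π ⟨c, hcT⟩)⁻¹ = π (⟨c, hcT⟩ * a₁ * (⟨c, hcT⟩ : ↥T)⁻¹) := by
        simp only [map_mul, map_inv]
      rw [e]
      apply hinQ'
      exact hEQ c hcEE _ ha₁
  have hQ2' : IsPGroup 2 Q' := by
    rw [hQ']
    exact (hQ.comap_subtype).map π
  have hEQ' : ∀ b ∈ E', ∀ a ∈ Q', b * a * b⁻¹ ∈ Q' := by
    intro b hb a ha
    obtain ⟨a₁, ha₁, rfl⟩ := hmemQ' a ha
    obtain ⟨b₁, hb₁, rfl⟩ := hmemE' b hb
    have e : π b₁ * π a₁ * (π b₁)⁻¹ = π (b₁ * a₁ * b₁⁻¹) := by simp only [map_mul, map_inv]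
    rw [e]
    apply hinQ'
    exact hEQ _ hb₁ _ ha₁
  have hEc' : ∀ b ∈ E', b * π ⟨c, hcT⟩ = π ⟨c, hcT⟩ * b := by
    intro b hb
    obtain ⟨b₁, hb₁, rfl⟩ := hmemE' b hb
    rw [← map_mul, ← map_mul]
    congr 1
    apply Subtype.ext
    exact hEc _ hb₁
  have hcE' : π ⟨c, hcT⟩ ∈ ⁅E', E'⁆ := by
    rw [hE', ← Subgroup.map_commutator]
    apply Subgroup.mem_map_of_mem
    have h1 : (⁅E.subgroupOf T, E.subgroupOf T⁆).map T.subtype = ⁅E, E⁆ := by
      rw [Subgroup.map_commutator, Subgroup.subgroupOf_map_subtype, inf_eq_left.mpr hET]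
    have h2 : c ∈ (⁅E.subgroupOf T, E.subgroupOf T⁆).map T.subtype := by rw [h1]; exact hcE
    obtain ⟨y, hy, hyc⟩ := h2
    have : y = ⟨c, hcT⟩ := Subtype.ext hyc
    rw [← this]; exact hy
  have hquad' : (ρ' (π ⟨c, hcT⟩) - 1) ^ 2 = 0 := by
    rw [hρπ, pow_two]
    apply LinearMap.ext; intro w'; apply Subtype.ext
    have h1 : (ρ c - 1) * (ρ c - 1) = 0 := by rw [← pow_two]; exact hquad
    have h2 := congrArg (fun f : Module.End F V => f (w' : V)) h1
    simp only [Module.End.mul_apply, LinearMap.sub_apply, Module.End.one_apply,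
      LinearMap.zero_apply, map_sub] at h2
    simp only [Module.End.mul_apply, LinearMap.sub_apply, Module.End.one_apply,
      LinearMap.zero_apply, map_sub, Submodule.coe_sub, hr_apply, Submodule.coe_zero]
    exact h2
  have key := sign_case ρ' hsol' Q' E' (π ⟨c, hcT⟩) hSD hQ2' hEQ' hEc' hcE' hquad'
    (π ⟨x, hQT hx⟩) (hinQ' _ hx)
  have h1 : π (⟨c, hcT⟩ * ⟨x, hQT hx⟩ * (⟨c, hcT⟩ : ↥T)⁻¹ * (⟨x, hQT hx⟩ : ↥T)⁻¹) = 1 := by
    simp only [map_mul, map_inv]
    rw [key, mul_inv_cancel]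
  have h2 : r (⟨c, hcT⟩ * ⟨x, hQT hx⟩ * (⟨c, hcT⟩ : ↥T)⁻¹ * (⟨x, hQT hx⟩ : ↥T)⁻¹) = 1 := by
    rw [← hρπ, h1, map_one]
  have h3 := hr_apply (⟨c, hcT⟩ * ⟨x, hQT hx⟩ * (⟨c, hcT⟩ : ↥T)⁻¹ * (⟨x, hQT hx⟩ : ↥T)⁻¹) ⟨w, hw⟩
  rw [h2] at h3
  simpa using h3.symm

end Cfsg.Agent.Lib.helper40.HHD
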