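import Mathlib
import Cfsg.Prelude.Def_Local
import Cfsg.Prelude.Def_Solvable
import Cfsg.Agent.Lib.helper40.HHRed

/-!
# Quadratic central commutators of order 3 centralise invariant 2-subgroups

`cent_of_quad`: in characteristic `3`, let `E` be a `3`-subgroup of a finite `3`-solvable group
`H` acting faithfully, and `c ∈ Z(E) ∩ ⁅E, E⁆` with `c^3 = 1`, `(c - 1)^2 = 0` and
`(b - 1)^2 (c - 1) = 0` for all `b ∈ E`.  Then `c` centralises every `E`-invariant `2`-subgroup.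
-/

set_option autoImplicit false

namespace Cfsg.Agent.Lib.helper40.HHD

open Cfsg.Agent.Lib.helper38
open scoped commutatorElement

theorem cent_of_quad {F : Type*} [Field F] [CharP F 3] {V : Type*} [AddCommGroup V]
    [Module F V] [FiniteDimensional F V] {H : Type*} [Group H] [Finite H]
    (ρ : H →* Module.End F V) (hinj : Function.Injective ρ) (hsol : Cfsg.IsPSolvable 3 H)
    (E : Subgroup H) (hE : IsPGroup 3 E) (c : H) (hc3 : c ^ 3 = 1)
    (hEc : ∀ b ∈ E, b * c = c * b) (hcE : c ∈ ⁅E, E⁆) (hquad : (ρ c - 1) ^ 2 = 0)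
    (hrel : ∀ b ∈ E, (ρ b - 1) * (ρ b - 1) * (ρ c - 1) = 0) (Q₀ : Subgroup H)
    (hQ₀ : IsPGroup 2 Q₀) (hEQ₀ : ∀ b ∈ E, ∀ x ∈ Q₀, b * x * b⁻¹ ∈ Q₀) :
    ∀ x ∈ Q₀, c * x * c⁻¹ = x := by
  classical
  by_contra hcon
  push Not at hcon
  have hcEE : c ∈ E := Subgroup.commutator_le_self E hcE
  have hc2 : (orderOf c).Coprime 2 :=
    Nat.Coprime.coprime_dvd_left (orderOf_dvd_of_pow_eq_one hc3) (by norm_num)
  obtain ⟨Q, hQ2, hEQ, hcQ, hncQ, hZcomm, hZsq, hZc⟩ :=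
    exists_min_inv E c hEc hc2 Q₀ hQ₀ hEQ₀ (hEQ₀ c hcEE) hcon
  obtain ⟨x₂, hx₂, hx₂ne⟩ := hncQ
  have h2F : (2 : F) ≠ 0 := by
    intro h
    have h' : ((2 : ℕ) : F) = 0 := by exact_mod_cast h
    rw [CharP.cast_eq_zero_iff F 3] at h'
    omega
  have hDQ : ⁅Q, Q⁆ ≤ Q := Subgroup.commutator_le_self Q
  have hg₀ : ρ (c * x₂ * c⁻¹ * x₂⁻¹) ≠ 1 := by
    intro h
    have h1 : c * x₂ * c⁻¹ * x₂⁻¹ = 1 := hinj (by rw [h, map_one])
    apply hx₂ne
    calc c * x₂ * c⁻¹ = (c * x₂ * c⁻¹ * x₂⁻¹) * x₂ := by group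
      _ = x₂ := by rw [h1, one_mul]
  obtain ⟨v, hv, hvne⟩ : ∃ v, (∀ z ∈ ⁅Q, Q⁆, ρ z v = v ∨ ρ z v = -v) ∧
      ρ (c * x₂ * c⁻¹ * x₂⁻¹) v ≠ v := by
    by_contra hno
    push Not at hno
    apply hg₀
    apply eq_one_of_fix_common h2F {a | ∃ z ∈ ⁅Q, Q⁆, a = ρ z}
    · rintro a ⟨z, hz, rfl⟩
      rw [← map_mul, hZsq z hz, map_one]
    · rintro a ⟨z, hz, rfl⟩ b ⟨z', hz', rfl⟩
      rw [← map_mul, ← map_mul, hZcomm z hz z' (hDQ hz')]
    · intro v hv
      exact hno v (fun z hz => hv _ ⟨z, hz, rfl⟩)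
  have hneg : ∀ w : V, w = -w → w = 0 := by
    intro w h
    have h1 : (2 : F) • w = 0 := by
      rw [two_smul]
      nth_rewrite 1 [h]
      simp
    exact (smul_eq_zero.mp h1).resolve_left h2F
  have hv0 : v ≠ 0 := by
    rintro rfl
    exact hvne (by simp)
  have hvm : ∀ z ∈ ⁅Q, Q⁆, ρ z v ≠ v → ρ z v = -v := fun z hz h => (hv z hz).resolve_left h
  let V' : Submodule F V :=
    { carrier := {w | ∀ z ∈ ⁅Q, Q⁆, (ρ z v = v → ρ z w = w) ∧ (ρ z v ≠ v → ρ z w = -w)}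
      add_mem' := by
        intro a b ha hb z hz
        refine ⟨fun h => ?_, fun h => ?_⟩
        · rw [map_add, (ha z hz).1 h, (hb z hz).1 h]
        · rw [map_add, (ha z hz).2 h, (hb z hz).2 h, neg_add]
      zero_mem' := by
        intro z hz
        simp
      smul_mem' := by
        intro k a ha z hz
        refine ⟨fun h => ?_, fun h => ?_⟩
        · rw [map_smul, (ha z hz).1 h]
        · rw [map_smul, (ha z hz).2 h, smul_neg] }
  have hV' : ∀ w, w ∈ V' → ∀ z ∈ ⁅Q, Q⁆, (ρ z v = v → ρ z w = w) ∧ (ρ z v ≠ v → ρ z w = -w) :=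
    fun w hw => hw
  have hvV' : v ∈ V' := fun z hz => ⟨fun h => h, fun h => hvm z hz h⟩
  have hpres : ∀ g : H, (∀ z ∈ ⁅Q, Q⁆, g⁻¹ * z * g ∈ ⁅Q, Q⁆ ∧
      (ρ (g⁻¹ * z * g) v = v ↔ ρ z v = v)) → ∀ w ∈ V', ρ g w ∈ V' := by
    intro g hg w hw z hz
    obtain ⟨hz', hiff⟩ := hg z hz
    have e : ρ z (ρ g w) = ρ g (ρ (g⁻¹ * z * g) w) := by
      rw [← Module.End.mul_apply, ← Module.End.mul_apply, ← map_mul, ← map_mul]
      congr 2; group
    refine ⟨fun h => ?_, fun h => ?_⟩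
    · rw [e, (hV' w hw _ hz').1 (hiff.mpr h)]
    · rw [e, (hV' w hw _ hz').2 (fun h' => h (hiff.mp h')), map_neg]
  have hQpres : ∀ x ∈ Q, ∀ w ∈ V', ρ x w ∈ V' := by
    intro x hx
    apply hpres
    intro z hz
    have e : x⁻¹ * z * x = z := by
      rw [mul_assoc, hZcomm z hz x hx, ← mul_assoc, inv_mul_cancel, one_mul]
    rw [e]; exact ⟨hz, Iff.rfl⟩
  have hcpres : ∀ w ∈ V', ρ c w ∈ V' := by
    apply hpres
    intro z hz
    have e : c⁻¹ * z * c = z := by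
      calc c⁻¹ * z * c = c⁻¹ * (c * z * c⁻¹) * c := by rw [hZc z hz]
        _ = z := by group
    rw [e]; exact ⟨hz, Iff.rfl⟩
  have hDinv : ∀ b ∈ E, ∀ z ∈ ⁅Q, Q⁆, b⁻¹ * z * b ∈ ⁅Q, Q⁆ := by
    intro b hb z hz
    have := conj_mem_commutator_self Q b⁻¹ (hEQ b⁻¹ (E.inv_mem hb)) z hz
    rw [inv_inv] at this; exact this
  -- the pattern of `v` is `E`-invariant
  have hP : ∀ b ∈ E, ∀ z ∈ ⁅Q, Q⁆, ρ z v = v → ρ (b⁻¹ * z * b) v = v := by
    by_contra hnP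
    push Not at hnP
    obtain ⟨b, hb, z₁, hz₁, hz₁v, hz₁ne⟩ := hnP
    have hbb : b * b ∈ E := E.mul_mem hb hb
    -- also b*b moves the pattern
    have hnP2 : ∃ z₂ ∈ ⁅Q, Q⁆, ρ z₂ v = v ∧ ρ ((b * b)⁻¹ * z₂ * (b * b)) v ≠ v := by
      by_contra hno
      push Not at hno
      have hpow : ∀ k : ℕ, (b * b) ^ k ∈ E ∧
          ∀ z ∈ ⁅Q, Q⁆, ρ z v = v → ρ (((b * b) ^ k)⁻¹ * z * (b * b) ^ k) v = v := by
        intro k
        induction k with
        | zero =>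
          refine ⟨by simp, fun z hz h => ?_⟩
          simpa using h
        | succ k ih =>
          refine ⟨by rw [pow_succ]; exact E.mul_mem ih.1 hbb, fun z hz h => ?_⟩
          have h1 := ih.2 z hz h
          have h2 := hno _ (hDinv _ ih.1 z hz) h1
          have e : ((b * b) ^ (k + 1))⁻¹ * z * (b * b) ^ (k + 1)
              = (b * b)⁻¹ * (((b * b) ^ k)⁻¹ * z * (b * b) ^ k) * (b * b) := by
            rw [pow_succ]; group
          rw [e]; exact h2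
      obtain ⟨j, hj⟩ := hE ⟨b, hb⟩
      have hj' : b ^ 3 ^ j = 1 := by
        have := congrArg Subtype.val hj
        simpa using this
      obtain ⟨t, ht⟩ : ∃ t, 3 ^ j = 2 * t + 1 := Odd.pow (by decide : Odd 3)
      have hbpow : (b * b) ^ (t + 1) = b := by
        rw [← pow_two, ← pow_mul]
        have : 2 * (t + 1) = 3 ^ j + 1 := by omega
        rw [this, pow_succ, hj', one_mul]
      have := (hpow (t + 1)).2 z₁ hz₁ hz₁v
      rw [hbpow] at this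
      exact hz₁ne this
    obtain ⟨z₂, hz₂, hz₂v, hz₂ne⟩ := hnP2
    obtain ⟨z, hz, hzv, hz1, hz2⟩ : ∃ z ∈ ⁅Q, Q⁆, ρ z v = v ∧ ρ (b⁻¹ * z * b) v ≠ v ∧
        ρ ((b * b)⁻¹ * z * (b * b)) v ≠ v := by
      by_cases h1 : ρ ((b * b)⁻¹ * z₁ * (b * b)) v = v
      · by_cases h2 : ρ (b⁻¹ * z₂ * b) v = v
        · refine ⟨z₁ * z₂, Subgroup.mul_mem _ hz₁ hz₂, ?_, ?_, ?_⟩
          · rw [map_mul, Module.End.mul_apply, hz₂v, hz₁v]
          · have e : b⁻¹ * (z₁ * z₂) * b = (b⁻¹ * z₁ * b) * (b⁻¹ * z₂ * b) := by group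
            rw [e, map_mul, Module.End.mul_apply, h2]; exact hz₁ne
          · have e : (b * b)⁻¹ * (z₁ * z₂) * (b * b)
                = ((b * b)⁻¹ * z₁ * (b * b)) * ((b * b)⁻¹ * z₂ * (b * b)) := by group
            rw [e, map_mul, Module.End.mul_apply, hvm _ (hDinv (b * b) hbb z₂ hz₂) hz₂ne, map_neg, h1]
            intro h
            exact hv0 (hneg v h.symm)
        · exact ⟨z₂, hz₂, hz₂v, h2, hz₂ne⟩
      · exact ⟨z₁, hz₁, hz₁v, hz₁ne, h1⟩
    have hw1 : ∀ w ∈ V', ρ z w = w := fun w hw => (hV' w hw z hz).1 hzv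
    have hw2 : ∀ w ∈ V', ρ (b⁻¹ * z * b) w = -w := fun w hw =>
      (hV' w hw _ (hDinv b hb z hz)).2 hz1
    have hw3 : ∀ w ∈ V', ρ ((b * b)⁻¹ * z * (b * b)) w = -w := fun w hw =>
      (hV' w hw _ (hDinv (b * b) hbb z hz)).2 hz2
    have key : ∀ w₀ ∈ V', ρ c w₀ = w₀ := by
      intro w₀ hw₀
      obtain ⟨w, hwdef⟩ : ∃ w, w = ρ c w₀ - w₀ := ⟨_, rfl⟩
      have hwV' : w ∈ V' := by rw [hwdef]; exact V'.sub_mem (hcpres w₀ hw₀) hw₀
      have h3 := congrArg (fun f : Module.End F V => f w₀) (hrel b hb)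
      simp only [Module.End.mul_apply, LinearMap.sub_apply, Module.End.one_apply,
        LinearMap.zero_apply] at h3
      rw [← hwdef, map_sub] at h3
      have e1 : ρ z (ρ b w) = -ρ b w := by
        have e : ρ z (ρ b w) = ρ b (ρ (b⁻¹ * z * b) w) := by
          rw [← Module.End.mul_apply, ← Module.End.mul_apply, ← map_mul, ← map_mul]
          congr 2; group
        rw [e, hw2 w hwV', map_neg]
      have e2 : ρ z (ρ b (ρ b w)) = -ρ b (ρ b w) := by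
        have e : ρ z (ρ b (ρ b w)) = ρ b (ρ b (ρ ((b * b)⁻¹ * z * (b * b)) w)) := by
          rw [← Module.End.mul_apply, ← Module.End.mul_apply, ← Module.End.mul_apply,
            ← Module.End.mul_apply, ← map_mul, ← map_mul, ← map_mul, ← map_mul]
          congr 2; group
        rw [e, hw3 w hwV', map_neg, map_neg]
      have e3 : ρ z w = w := hw1 w hwV'
      have h4 := congrArg (ρ z) h3
      rw [map_sub, map_sub, map_sub, map_zero, e1, e2, e3] at h4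
      have h5 : w + w = 0 := by
        calc w + w = (ρ b (ρ b w) - ρ b w - (ρ b w - w))
              + (-ρ b (ρ b w) - -ρ b w - (-ρ b w - w)) := by abel
          _ = 0 := by rw [h3, h4, add_zero]
      have hw0 : w = 0 := hneg w (eq_neg_of_add_eq_zero_left h5)
      rw [hw0] at hwdef
      exact (sub_eq_zero.mp hwdef.symm)
    apply hvne
    have hx₂inv : ρ x₂⁻¹ v ∈ V' := hQpres _ (Q.inv_mem hx₂) v hvV'
    have hcfix := key _ hx₂inv
    have hcinvfix : ρ c⁻¹ (ρ x₂⁻¹ v) = ρ x₂⁻¹ v := by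
      nth_rewrite 1 [← hcfix]
      rw [← Module.End.mul_apply, ← map_mul, inv_mul_cancel, map_one, Module.End.one_apply]
    have hxx : ρ x₂ (ρ x₂⁻¹ v) = v := by
      rw [← Module.End.mul_apply, ← map_mul, mul_inv_cancel, map_one, Module.End.one_apply]
    rw [map_mul, map_mul, map_mul, Module.End.mul_apply, Module.End.mul_apply,
      Module.End.mul_apply, hcinvfix, hxx]
    exact key v hvV'
  have hEpres : ∀ b ∈ E, ∀ w ∈ V', ρ b w ∈ V' := by
    intro b hb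
    apply hpres
    intro z hz
    refine ⟨hDinv b hb z hz, fun h => ?_, hP b hb z hz⟩
    have := hP b⁻¹ (E.inv_mem hb) _ (hDinv b hb z hz) h
    have e : b⁻¹⁻¹ * (b⁻¹ * z * b) * b⁻¹ = z := by group
    rw [e] at this; exact this
  let T : Subgroup H :=
    { carrier := {g | (∀ w ∈ V', ρ g w ∈ V') ∧ (∀ w ∈ V', ρ g⁻¹ w ∈ V')}
      one_mem' := by
        refine ⟨fun w hw => ?_, fun w hw => ?_⟩
        · simpa using hw
        · simpa using hw
      mul_mem' := by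
        rintro g g' ⟨h1, h2⟩ ⟨h1', h2'⟩
        refine ⟨fun w hw => ?_, fun w hw => ?_⟩
        · rw [map_mul, Module.End.mul_apply]; exact h1 _ (h1' w hw)
        · rw [mul_inv_rev, map_mul, Module.End.mul_apply]; exact h2' _ (h2 w hw)
      inv_mem' := by
        rintro g ⟨h1, h2⟩
        refine ⟨h2, ?_⟩
        rw [inv_inv]; exact h1 }
  have hT : ∀ g ∈ T, ∀ w ∈ V', ρ g w ∈ V' := fun g hg => hg.1
  have hQT : Q ≤ T := fun x hx => ⟨hQpres x hx, hQpres x⁻¹ (Q.inv_mem hx)⟩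
  have hET : E ≤ T := fun b hb => ⟨hEpres b hb, hEpres b⁻¹ (E.inv_mem hb)⟩
  have hsc : ∀ x ∈ Q, ∀ y ∈ Q, (∀ w ∈ V', ρ (x * y * x⁻¹ * y⁻¹) w = w) ∨
      (∀ w ∈ V', ρ (x * y * x⁻¹ * y⁻¹) w = -w) := by
    intro x hx y hy
    have hz : x * y * x⁻¹ * y⁻¹ ∈ ⁅Q, Q⁆ := by
      rw [← commutatorElement_def]
      exact Subgroup.commutator_mem_commutator hx hy
    by_cases h : ρ (x * y * x⁻¹ * y⁻¹) v = v
    · left; exact fun w hw => (hV' w hw _ hz).1 h
    · right; exact fun w hw => (hV' w hw _ hz).2 h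
  exact hvne (sign_case_sub ρ hsol V' T hT Q E hQT hET c hQ2 hc3 hEQ hEc hcE hquad hsc
    x₂ hx₂ v hvV')

end Cfsg.Agent.Lib.helper40.HHD
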