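import Mathlib
import Cfsg.Prelude.Def_Local
import Cfsg.Prelude.Def_Solvable
import Cfsg.Agent.Lib.helper40.HHQuad
import Cfsg.Agent.Lib.helper38.HHBMain
import Cfsg.Agent.Lib.helper28.Fitting
import Cfsg.Agent.Lib.helper66.DualHH
import Cfsg.Agent.Lib.helper66.PGroupAction
import Cfsg.Agent.Lib.helper1.Coprime

/-!
# A `p`-subgroup with quadratically acting derived subgroup is abelian (`O_p = 1`)

`comm_eq_bot_of_quad`: `p` odd, `H` finite `p`-solvable with `O_p(H) = 1` acting faithfully in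
characteristic `p`, `E` a `p`-subgroup such that `(a - 1)(a' - 1) = 0` for `a, a' ∈ E'` and
`(b - 1)^2 (c - 1) = 0` for `b ∈ E`, `c ∈ E'`.  Then `E' = 1`.
-/

set_option autoImplicit false

namespace Cfsg.Agent.Lib.helper40.HHD

open Cfsg.Agent.Lib.helper38
open scoped commutatorElement

/-- Existence of an `E`-invariant `q`-subgroup (`q ≠ p`) not centralised by an element `c` of
order `p`, in a `p`-solvable group with `O_p = 1` (`E` a `p`-subgroup). -/
theorem exists_inv_q_subgroup {H : Type*} [Group H] [Finite H] {p : ℕ} [Fact p.Prime]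
    (hsol : Cfsg.IsPSolvable p H) (hOp : Cfsg.pCore p H = ⊥) (E : Subgroup H) (hE : IsPGroup p E)
    (c : H) (hcp : orderOf c = p) :
    ∃ q : ℕ, q.Prime ∧ q ≠ p ∧ ∃ Q : Subgroup H, IsPGroup q Q ∧
      (∀ b ∈ E, ∀ u ∈ Q, b * u * b⁻¹ ∈ Q) ∧ ∃ u ∈ Q, c * u * c⁻¹ ≠ u := by
  classical
  have hp : p.Prime := Fact.out
  obtain ⟨N, hN⟩ : ∃ N : Subgroup H, N = Cfsg.pPrimeCore p H := ⟨_, rfl⟩
  have hNn : N.Normal := by rw [hN]; exact Cfsg.Agent.Lib.helper40.pPrimeCore_normal' p H
  have hNcop : (Nat.card N).Coprime p := by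
    rw [hN]; exact Cfsg.Agent.Lib.helper40.pPrimeCore_card_coprime p H
  have hCN : Subgroup.centralizer (N : Set H) ≤ N := by
    rw [hN]; exact Cfsg.Agent.Lib.helper66.centralizer_pPrimeCore_le_of_isPSolvable hsol hOp
  have hcN : c ∉ N := by
    intro hmem
    have h1 : orderOf c ∣ Nat.card N := by
      have := orderOf_dvd_natCard (⟨c, hmem⟩ : N)
      rwa [Subgroup.orderOf_mk] at this
    rw [hcp] at h1
    exact hp.one_lt.ne' (Nat.Coprime.eq_one_of_dvd hNcop.symm h1)
  by_contra hcon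
  push Not at hcon
  apply hcN
  apply hCN
  obtain ⟨C, hC⟩ : ∃ C : Subgroup H, C = Subgroup.centralizer ({c} : Set H) ⊓ N := ⟨_, rfl⟩
  have hCle : C ≤ N := by rw [hC]; exact inf_le_right
  have hA : E ≤ Subgroup.normalizer (N : Set H) := by
    rw [Subgroup.normalizer_eq_top]; exact le_top
  obtain ⟨k, hk⟩ := IsPGroup.exists_card_eq hE
  have hcop : (Nat.card E).Coprime (Nat.card N) := by
    rw [hk]; exact Nat.Coprime.pow_left k hNcop.symm
  have hnil : Group.IsNilpotent E := hE.isNilpotent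
  have hsolv : Group.IsSolvable E := inferInstance
  have hCN' : C = N := by
    apply Cfsg.Agent.Lib.helper66.eq_of_forall_sylow_le hCle
    intro q hqF
    have hq : q.Prime := hqF.out
    obtain ⟨P, hP⟩ := Cfsg.Agent.Lib.helper1.exists_invariant_sylow (p := q)
      E N hA hcop (Or.inl hsolv)
    refine ⟨P, ?_⟩
    have hQp : IsPGroup q ((P : Subgroup N).map N.subtype) := P.isPGroup'.map N.subtype
    have hQN : (P : Subgroup N).map N.subtype ≤ N := Subgroup.map_subtype_le _
    intro u hu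
    rw [hC, Subgroup.mem_inf]
    refine ⟨?_, hQN hu⟩
    rw [Subgroup.mem_centralizer_iff]
    intro h hh
    rw [Set.mem_singleton_iff] at hh
    subst hh
    by_cases hqp : q = p
    · subst hqp
      obtain ⟨k, hk⟩ := hQp ⟨u, hu⟩
      have hk' : u ^ q ^ k = 1 := by
        have := congrArg Subtype.val hk
        simpa using this
      have h1 : orderOf u ∣ q ^ k := orderOf_dvd_of_pow_eq_one hk'
      have h2 : orderOf u ∣ Nat.card N := by
        have := orderOf_dvd_natCard (⟨u, hQN hu⟩ : N)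
        rwa [Subgroup.orderOf_mk] at this
      have hc : (orderOf u).Coprime (Nat.card N) :=
        Nat.Coprime.coprime_dvd_left h1 (Nat.Coprime.pow_left k hNcop.symm)
      have h3 : orderOf u = 1 := Nat.Coprime.eq_one_of_dvd hc h2
      rw [orderOf_eq_one_iff] at h3
      rw [h3, mul_one, one_mul]
    · have hxinv : ∀ b ∈ E, ∀ u ∈ (P : Subgroup N).map N.subtype,
          b * u * b⁻¹ ∈ (P : Subgroup N).map N.subtype := by
        intro b hb u hu
        exact (Subgroup.mem_normalizer_iff.mp (hP hb) u).mp hu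
      have h4 := hcon q hq hqp _ hQp hxinv u hu
      calc h * u = (h * u * h⁻¹) * h := by group
        _ = u * h := by rw [h4]
  rw [Subgroup.mem_centralizer_iff]
  intro u hu
  have h1 : u ∈ C := by rw [hCN']; exact hu
  rw [hC, Subgroup.mem_inf, Subgroup.mem_centralizer_iff] at h1
  exact (h1.1 c (Set.mem_singleton c)).symm

/-- **Key lemma for the derived-length bound.**  `p` odd, `H` finite `p`-solvable with
`O_p(H) = 1`, faithful in characteristic `p`; `E` a `p`-subgroup whose derived subgroup acts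
"quadratically" in the two senses below.  Then `E` is abelian. -/
theorem comm_eq_bot_of_quad {F : Type*} [Field F] {p : ℕ} [Fact p.Prime] [CharP F p]
    (hp2 : p ≠ 2) {V : Type*} [AddCommGroup V] [Module F V] [FiniteDimensional F V]
    {H : Type*} [Group H] [Finite H] (ρ : H →* Module.End F V) (hinj : Function.Injective ρ)
    (hsol : Cfsg.IsPSolvable p H) (hOp : Cfsg.pCore p H = ⊥)
    (E : Subgroup H) (hE : IsPGroup p E)
    (hq1 : ∀ a ∈ ⁅E, E⁆, ∀ a' ∈ ⁅E, E⁆, (ρ a - 1) * (ρ a' - 1) = 0)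
    (hq2 : ∀ b ∈ E, ∀ c ∈ ⁅E, E⁆, (ρ b - 1) * (ρ b - 1) * (ρ c - 1) = 0) :
    ⁅E, E⁆ = ⊥ := by
  classical
  have hp : p.Prime := Fact.out
  by_contra hne
  have hnil : Group.IsNilpotent E := hE.isNilpotent
  have hcomm_ne : commutator E ≠ ⊥ := by
    intro h
    apply hne
    rw [← Subgroup.map_subtype_commutator, h, Subgroup.map_bot]
  have h1 := Cfsg.Agent.Lib.helper28.normal_inf_center_ne_bot (commutator E) hcomm_ne
  obtain ⟨a, ha1⟩ := (Subgroup.ne_bot_iff_exists_ne_one).mp h1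
  obtain ⟨c, hc⟩ : ∃ c : H, c = ((a : E) : H) := ⟨_, rfl⟩
  have hamem := a.2
  rw [Subgroup.mem_inf] at hamem
  have hcE : c ∈ E := by rw [hc]; exact (a : E).2
  have hcA : c ∈ ⁅E, E⁆ := by
    rw [← Subgroup.map_subtype_commutator, hc]
    exact Subgroup.mem_map_of_mem E.subtype hamem.1
  have hc1 : c ≠ 1 := by
    intro h
    apply ha1
    apply Subtype.ext
    apply Subtype.ext
    rw [← hc, h]; rfl
  have hEc : ∀ b ∈ E, b * c = c * b := by
    intro b hb
    have := (Subgroup.mem_center_iff.mp hamem.2) ⟨b, hb⟩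
    have h2 := congrArg Subtype.val this
    rw [hc]
    simpa using h2
  obtain ⟨k, hk⟩ := hE ⟨c, hcE⟩
  have hk' : c ^ p ^ k = 1 := by
    have := congrArg Subtype.val hk
    simpa using this
  obtain ⟨n, hnk, hn⟩ := (Nat.dvd_prime_pow hp).mp (orderOf_dvd_of_pow_eq_one hk')
  have hn1 : 1 ≤ n := by
    rcases Nat.eq_zero_or_pos n with h | h
    · exfalso; apply hc1
      rw [h, pow_zero, orderOf_eq_one_iff] at hn
      exact hn
    · exact h
  have hquad : (ρ c - 1) ^ 2 = 0 := by rw [pow_two]; exact hq1 c hcA c hcA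
  have hp3 : 3 ≤ p := by
    have := hp.two_le
    omega
  have hpn : ∀ j : ℕ, 1 ≤ j → 3 ≤ p ^ j := by
    intro j hj
    calc 3 ≤ p := hp3
      _ = p ^ 1 := (pow_one p).symm
      _ ≤ p ^ j := Nat.pow_le_pow_right hp.pos hj
  have hkey : p = 3 ∧ n = 1 := by
    rcases Cfsg.Agent.Lib.helper38.HHB.theoremB_rep ρ hinj hsol hOp c n hn1 hn 2 hquad with h | ⟨n₀, q, m, h1, h2, hq, hqp, hm, heq, hQ, hle⟩
    · exfalso
      have := hpn n hn1
      omega
    · have h3 := hpn n₀ h1
      have h4 : n = n₀ := by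
        by_contra hnn
        have h5 : 1 ≤ n - n₀ := by omega
        have h6 := hpn (n - n₀) h5
        have h7 : 3 * 2 ≤ p ^ (n - n₀) * (p ^ n₀ - 1) := Nat.mul_le_mul h6 (by omega)
        omega
      rw [h4, Nat.sub_self, pow_zero, one_mul] at hle
      have h8 : p ^ n₀ = 3 := by omega
      have h9 : p ∣ 3 := by
        rw [← h8]; exact dvd_pow_self p (by omega)
      have h10 : p = 3 := (Nat.prime_dvd_prime_iff_eq hp (by norm_num)).mp h9
      refine ⟨h10, ?_⟩
      rw [h10] at h8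
      have h11 : n₀ = 1 := by
        by_contra h12
        have h13 : 2 ≤ n₀ := by omega
        have h14 : 3 ^ 2 ≤ 3 ^ n₀ := Nat.pow_le_pow_right (by norm_num) h13
        omega
      omega
  obtain ⟨hp3', hn1'⟩ := hkey
  subst hp3'
  subst hn1'
  rw [pow_one] at hn
  have hc3 : c ^ 3 = 1 := by rw [← hn]; exact pow_orderOf_eq_one c
  obtain ⟨q, hq, hq3, Q, hQq, hEQ, u, hu, hune⟩ := exists_inv_q_subgroup hsol hOp E hE c hn
  by_cases hq2' : q = 2
  · subst hq2'
    exact hune (cent_of_quad ρ hinj hsol E hE c hc3 hEc hcA hquad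
      (fun b hb => hq2 b hb c hcA) Q hQq hEQ u hu)
  · have hcopQ : (Nat.card Q).Coprime 3 := by
      have : Fact q.Prime := ⟨hq⟩
      obtain ⟨j, hj⟩ := IsPGroup.exists_card_eq hQq
      rw [hj]
      exact Nat.Coprime.pow_left j ((Nat.coprime_primes hq (by norm_num)).mpr hq3)
    have h2 : ∀ x ∈ Q, ∀ y ∈ Q, (∃ a : ℕ, x ^ 2 ^ a = 1) → (∃ b : ℕ, y ^ 2 ^ b = 1) →
        x * y = y * x := by
      intro x hx y hy ⟨a, ha⟩ _
      obtain ⟨j, hj⟩ := hQq ⟨x, hx⟩
      have hj' : x ^ q ^ j = 1 := by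
        have := congrArg Subtype.val hj
        simpa using this
      have h3 : orderOf x ∣ q ^ j := orderOf_dvd_of_pow_eq_one hj'
      have h4 : orderOf x ∣ 2 ^ a := orderOf_dvd_of_pow_eq_one ha
      have h5 : (q ^ j).Coprime (2 ^ a) :=
        Nat.Coprime.pow _ _ ((Nat.coprime_primes hq Nat.prime_two).mpr hq2')
      have h6 : orderOf x = 1 := Nat.eq_one_of_dvd_coprimes h5 h3 h4
      rw [orderOf_eq_one_iff] at h6
      rw [h6, one_mul, mul_one]
    have h7 := tb_gen (p := 3) (by norm_num) ρ hinj hsol Q c hc3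
      (fun x hx => hEQ c hcE x hx) hcopQ h2 ⟨u, hu, hune⟩
    exact h7 hquad

end Cfsg.Agent.Lib.helper40.HHD
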