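import Mathlib
import Cfsg.Prelude.Def_Local
import Cfsg.Prelude.Def_Solvable
import Cfsg.Agent.Lib.helper40.HHML
import Cfsg.Agent.Lib.helper3.WrDual
import Cfsg.Agent.Lib.helper38.HallHigman
import Cfsg.Agent.Lib.helper38.HallHigman2
import Cfsg.Agent.Lib.helper51.GCore

/-!
# Group-level lemma for the derived length bound

`comm_le_pCore`: `p` odd, `G` finite `p`-solvable with `O_{p'}(G) = 1`, `B` a `p`-subgroup
normalised by `O_p(G)` with `B'` abelian.  Then `B' ≤ O_p(G)`.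
-/

set_option autoImplicit false

namespace Cfsg.Agent.Lib.helper40.HHD

open Cfsg.Agent.Lib.helper3
open scoped commutatorElement

section

variable {G : Type*} [Group G] (p : ℕ) (R : Subgroup G) [hR : R.Normal]

/-- `δ_g(r) = r⁻¹ g⁻¹ r g`, as an element of the normal subgroup `R`. -/
def dlt (g : G) (r : R) : R := r⁻¹ * MulAut.conjNormal g⁻¹ r

theorem dlt_coe (g : G) (r : R) : ((dlt R g r : R) : G) = (r : G)⁻¹ * g⁻¹ * r * g := by
  unfold dlt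
  rw [Subgroup.coe_mul, MulAut.conjNormal_apply]
  simp [mul_assoc]

theorem drep_sub_one_apply (g : G) (f : Additive ↥R →+ ZMod p) (r : R) :
    (drep p R g - 1) f (Additive.ofMul r) = f (Additive.ofMul (dlt R g r)) := by
  unfold dlt
  rw [LinearMap.sub_apply, AddMonoidHom.sub_apply, drep_apply, ofMul_mul, map_add, ofMul_inv,
    map_neg, Module.End.one_apply]
  abel

theorem drep_mul_eq_zero (g₁ g₂ : G) (h : ∀ r : R, dlt R g₂ (dlt R g₁ r) = 1) :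
    (drep p R g₁ - 1) * (drep p R g₂ - 1) = 0 := by
  apply LinearMap.ext
  intro f
  apply AddMonoidHom.ext
  intro a
  obtain ⟨r, rfl⟩ : ∃ r : R, Additive.ofMul r = a := ⟨Additive.toMul a, rfl⟩
  rw [Module.End.mul_apply, drep_sub_one_apply, drep_sub_one_apply, h]
  simp

theorem drep_mul_mul_eq_zero (g₁ g₂ g₃ : G)
    (h : ∀ r : R, dlt R g₃ (dlt R g₂ (dlt R g₁ r)) = 1) :
    (drep p R g₁ - 1) * (drep p R g₂ - 1) * (drep p R g₃ - 1) = 0 := by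
  apply LinearMap.ext
  intro f
  apply AddMonoidHom.ext
  intro a
  obtain ⟨r, rfl⟩ : ∃ r : R, Additive.ofMul r = a := ⟨Additive.toMul a, rfl⟩
  rw [Module.End.mul_apply, Module.End.mul_apply, drep_sub_one_apply, drep_sub_one_apply,
    drep_sub_one_apply, h]
  simp

end

/-- **Group-level key lemma.**  `p` odd, `G` finite `p`-solvable with `O_{p'}(G) = 1`; `B` a
`p`-subgroup normalised by `O_p(G)` whose derived subgroup is abelian.  Then `B' ≤ O_p(G)`. -/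
theorem comm_le_pCore {G : Type*} [Group G] [Finite G] {p : ℕ} [Fact p.Prime] (hp2 : p ≠ 2)
    (hsol : Cfsg.IsPSolvable p G) (hOp' : Cfsg.pPrimeCore p G = ⊥)
    (B : Subgroup G) (hB : IsPGroup p B)
    (hRB : ∀ r ∈ Cfsg.pCore p G, ∀ b ∈ B, r * b * r⁻¹ ∈ B)
    (hBB : ∀ x ∈ ⁅B, B⁆, ∀ y ∈ ⁅B, B⁆, x * y = y * x) : ⁅B, B⁆ ≤ Cfsg.pCore p G := by
  classical
  have hp : p.Prime := Fact.out
  have hRn : (Cfsg.pCore p G).Normal := Cfsg.Agent.Lib.helper40.pCore_normal' p G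
  have hRp : IsPGroup p (Cfsg.pCore p G) := Cfsg.Agent.Lib.helper40.pCore_isPGroup p G
  have hCR : Subgroup.centralizer (Cfsg.pCore p G : Set G) ≤ Cfsg.pCore p G :=
    Cfsg.Agent.Lib.helper38.centralizer_pCore_le_of_isPSolvable hsol hOp'
  have hker : (drep p (Cfsg.pCore p G)).ker ≤ Cfsg.pCore p G :=
    Cfsg.Agent.Lib.helper40.le_pCore _ (MonoidHom.normal_ker _)
      (drep_ker_isPGroup p (Cfsg.pCore p G) hRp hCR)
  have hle : Cfsg.pCore p G ≤ (drep p (Cfsg.pCore p G)).ker := by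
    intro g hg
    rw [MonoidHom.mem_ker]
    exact drep_eq_one_of_mem p (Cfsg.pCore p G) hg
  obtain ⟨ρ, hρ⟩ : ∃ ρ : G ⧸ Cfsg.pCore p G →*
      Module.End (ZMod p) (Additive ↥(Cfsg.pCore p G) →+ ZMod p),
      ∀ g : G, ρ (QuotientGroup.mk' (Cfsg.pCore p G) g) = drep p (Cfsg.pCore p G) g :=
    ⟨QuotientGroup.lift (Cfsg.pCore p G) (drep p (Cfsg.pCore p G)) hle, fun g => rfl⟩
  have hinj : Function.Injective ρ := by
    rw [injective_iff_map_eq_one]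
    intro x hx
    obtain ⟨g, rfl⟩ := QuotientGroup.mk'_surjective (Cfsg.pCore p G) x
    rw [hρ] at hx
    rw [QuotientGroup.mk'_apply, QuotientGroup.eq_one_iff]
    exact hker (MonoidHom.mem_ker.mpr hx)
  have hsolH : Cfsg.IsPSolvable p (G ⧸ Cfsg.pCore p G) :=
    Cfsg.Agent.Lib.helper38.isPSolvable_quotient (Cfsg.pCore p G) hsol
  have hOpH : Cfsg.pCore p (G ⧸ Cfsg.pCore p G) = ⊥ :=
    Cfsg.Agent.Lib.helper51.pCore_quotient_pCore_eq_bot p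
  have hfin : Finite (Additive ↥(Cfsg.pCore p G) →+ ZMod p) :=
    Finite.of_injective (fun f => (f : Additive ↥(Cfsg.pCore p G) → ZMod p))
      DFunLike.coe_injective
  have hfd : FiniteDimensional (ZMod p) (Additive ↥(Cfsg.pCore p G) →+ ZMod p) :=
    Module.Finite.of_finite
  -- the image subgroup
  have hE : IsPGroup p (B.map (QuotientGroup.mk' (Cfsg.pCore p G))) := hB.map _
  have hEE : ⁅B.map (QuotientGroup.mk' (Cfsg.pCore p G)),
      B.map (QuotientGroup.mk' (Cfsg.pCore p G))⁆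
      = (⁅B, B⁆).map (QuotientGroup.mk' (Cfsg.pCore p G)) := (Subgroup.map_commutator _ _ _).symm
  -- `R` normalises `⁅B, B⁆`
  have hRA : ∀ r ∈ Cfsg.pCore p G, ∀ a ∈ ⁅B, B⁆, r * a * r⁻¹ ∈ ⁅B, B⁆ := by
    intro r hr a ha
    have h1 : (⁅B, B⁆).map (MulAut.conj r).toMonoidHom ≤ ⁅B, B⁆ := by
      rw [Subgroup.map_commutator]
      have h2 : B.map (MulAut.conj r).toMonoidHom ≤ B := by
        rintro _ ⟨b, hb, rfl⟩
        exact hRB r hr b hb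
      exact Subgroup.commutator_mono h2 h2
    exact h1 (Subgroup.mem_map_of_mem _ ha)
  -- `δ_b(r) ∈ B` and `δ_a(r) ∈ ⁅B, B⁆`
  have hdB : ∀ b ∈ B, ∀ r : Cfsg.pCore p G, ((dlt (Cfsg.pCore p G) b r : Cfsg.pCore p G) : G) ∈ B := by
    intro b hb r
    rw [dlt_coe]
    have h1 := hRB (r : G)⁻¹ ((Cfsg.pCore p G).inv_mem r.2) b⁻¹ (B.inv_mem hb)
    rw [inv_inv] at h1
    exact B.mul_mem h1 hb
  have hdA : ∀ a ∈ ⁅B, B⁆, ∀ r : Cfsg.pCore p G,
      ((dlt (Cfsg.pCore p G) a r : Cfsg.pCore p G) : G) ∈ ⁅B, B⁆ := by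
    intro a ha r
    rw [dlt_coe]
    have h1 := hRA (r : G)⁻¹ ((Cfsg.pCore p G).inv_mem r.2) a⁻¹ ((⁅B, B⁆).inv_mem ha)
    rw [inv_inv] at h1
    exact (⁅B, B⁆).mul_mem h1 ha
  -- `δ_b(x) ∈ ⁅B, B⁆` for `x ∈ B`
  have hdBB : ∀ b ∈ B, ∀ r : Cfsg.pCore p G, (r : G) ∈ B →
      ((dlt (Cfsg.pCore p G) b r : Cfsg.pCore p G) : G) ∈ ⁅B, B⁆ := by
    intro b hb r hr
    rw [dlt_coe]
    have h1 : ⁅(r : G)⁻¹, b⁻¹⁆ ∈ ⁅B, B⁆ :=
      Subgroup.commutator_mem_commutator (B.inv_mem hr) (B.inv_mem hb)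
    rw [commutatorElement_def, inv_inv, inv_inv] at h1
    exact h1
  -- `δ_a(x) = 1` for `a, x ∈ ⁅B, B⁆`
  have hd1 : ∀ a ∈ ⁅B, B⁆, ∀ r : Cfsg.pCore p G, (r : G) ∈ ⁅B, B⁆ →
      dlt (Cfsg.pCore p G) a r = 1 := by
    intro a ha r hr
    apply Subtype.ext
    rw [dlt_coe, Subgroup.coe_one]
    have h1 := hBB (r : G) hr a ha
    calc (r : G)⁻¹ * a⁻¹ * r * a = (r : G)⁻¹ * a⁻¹ * (r * a) := by group
      _ = (r : G)⁻¹ * a⁻¹ * (a * r) := by rw [h1]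
      _ = 1 := by group
  have hq1 : ∀ a ∈ ⁅B.map (QuotientGroup.mk' (Cfsg.pCore p G)),
      B.map (QuotientGroup.mk' (Cfsg.pCore p G))⁆,
      ∀ a' ∈ ⁅B.map (QuotientGroup.mk' (Cfsg.pCore p G)),
      B.map (QuotientGroup.mk' (Cfsg.pCore p G))⁆, (ρ a - 1) * (ρ a' - 1) = 0 := by
    rw [hEE]
    rintro _ ⟨a, ha, rfl⟩ _ ⟨a', ha', rfl⟩
    rw [hρ, hρ]
    apply drep_mul_eq_zero
    intro r
    exact hd1 a' ha' _ (hdA a ha r)
  have hq2 : ∀ b ∈ B.map (QuotientGroup.mk' (Cfsg.pCore p G)),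
      ∀ c ∈ ⁅B.map (QuotientGroup.mk' (Cfsg.pCore p G)),
      B.map (QuotientGroup.mk' (Cfsg.pCore p G))⁆, (ρ b - 1) * (ρ b - 1) * (ρ c - 1) = 0 := by
    rw [hEE]
    rintro _ ⟨b, hb, rfl⟩ _ ⟨c, hc, rfl⟩
    rw [hρ, hρ]
    apply drep_mul_mul_eq_zero
    intro r
    exact hd1 c hc _ (hdBB b hb _ (hdB b hb r))
  have hmain := comm_eq_bot_of_quad hp2 ρ hinj hsolH hOpH _ hE hq1 hq2
  rw [hEE] at hmain
  intro x hx
  have h1 : QuotientGroup.mk' (Cfsg.pCore p G) x ∈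
      (⁅B, B⁆).map (QuotientGroup.mk' (Cfsg.pCore p G)) := Subgroup.mem_map_of_mem _ hx
  rw [hmain, Subgroup.mem_bot, QuotientGroup.mk'_apply, QuotientGroup.eq_one_iff] at h1
  exact h1

end Cfsg.Agent.Lib.helper40.HHD
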