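import Mathlib
import Cfsg.Agent.Lib.helper86.IvDefs

/-!
# S3928 piece BF: Brauer–Fowler count for an involutory automorphism

`helper40_iv_bf` has the verbatim skeleton statement of `iv_bf` (racer copy, prefixed name).
-/

set_option autoImplicit false

namespace Cfsg.Agent.Lib.helper86.IV

/-- BF : Brauer–Fowler count for an involutory automorphism. -/
theorem helper40_iv_bf {N : Type*} [Group N] [Finite N] (α : MulAut N) (h2 : ∀ g, α (α g) = g)
    (hne : ∃ g, α g ≠ g) :
    ∃ g : N, g ≠ 1 ∧ (Subgroup.centralizer {g}).index ≤ 2 * (Nat.card {c : N // α c = c}) ^ 2 := by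
  classical
  have : Fintype N := Fintype.ofFinite N
  by_contra hcon
  push Not at hcon
  obtain ⟨Cn, hCn⟩ : ∃ Cn : ℕ, Cn = Nat.card {c : N // α c = c} := ⟨_, rfl⟩
  rw [← hCn] at hcon
  have hCn' : Cn = (Finset.univ.filter (fun c : N => α c = c)).card := by
    rw [hCn, Nat.card_eq_fintype_card, Fintype.card_subtype]
  obtain ⟨K, hK⟩ : ∃ K : Finset N, K = Finset.univ.image (fun c : N => c * (α c)⁻¹) := ⟨_, rfl⟩
  have hKinv : ∀ k ∈ K, α k = k⁻¹ := by
    intro k hk
    rw [hK, Finset.mem_image] at hk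
    obtain ⟨c, _, rfl⟩ := hk
    rw [map_mul, map_inv, h2, mul_inv_rev, inv_inv]
  -- |N| ≤ |C| * |K|
  have hN_le : Fintype.card N ≤ Cn * K.card := by
    rw [hK, ← Finset.card_univ]
    apply Finset.card_le_mul_card_image
    intro a ha
    rw [Finset.mem_image] at ha
    obtain ⟨c₀, _, rfl⟩ := ha
    rw [hCn']
    apply Finset.card_le_card_of_injOn (fun c => c₀⁻¹ * c)
    · intro c hc
      have hc' := (Finset.mem_filter.mp hc).2
      simp only [Finset.coe_filter, Finset.mem_univ, true_and, Set.mem_ofPred_eq]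
      rw [map_mul, map_inv]
      calc (α c₀)⁻¹ * α c = c₀⁻¹ * (c₀ * (α c₀)⁻¹) * α c := by group
        _ = c₀⁻¹ * (c * (α c)⁻¹) * α c := by rw [hc']
        _ = c₀⁻¹ * c := by group
    · intro c _ c' _ h
      exact mul_left_cancel h
  -- |K| ≥ 2
  have hK2 : 2 ≤ K.card := by
    obtain ⟨g₀, hg₀⟩ := hne
    have h1 : (1 : N) ∈ K := by
      rw [hK, Finset.mem_image]
      exact ⟨1, Finset.mem_univ _, by simp⟩
    have h3 : g₀ * (α g₀)⁻¹ ∈ K := by
      rw [hK, Finset.mem_image]
      exact ⟨g₀, Finset.mem_univ _, rfl⟩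
    have h4 : g₀ * (α g₀)⁻¹ ≠ 1 := by
      intro h
      apply hg₀
      rw [mul_inv_eq_one] at h
      exact h.symm
    exact Finset.one_lt_card.mpr ⟨_, h3, _, h1, h4⟩
  -- the key relation
  have key : ∀ (g a b : N), a ∈ K → b ∈ K → a * b⁻¹ = g → α g = a⁻¹ * g⁻¹ * a := by
    intro g a b ha hb hab
    rw [← hab, map_mul, map_inv, hKinv a ha, hKinv b hb]
    group
  -- counting the off-diagonal pairs
  obtain ⟨T, hT⟩ : ∃ T : Finset N, T = Finset.univ.filter (fun g : N => g ≠ 1) := ⟨_, rfl⟩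
  have hmap : ∀ p ∈ K.offDiag, p.1 * p.2⁻¹ ∈ T := by
    intro p hp
    rw [Finset.mem_offDiag] at hp
    rw [hT, Finset.mem_filter]
    refine ⟨Finset.mem_univ _, ?_⟩
    intro h
    rw [mul_inv_eq_one] at h
    exact hp.2.2 h
  have hsum := Finset.card_eq_sum_card_fiberwise hmap
  have hfiber : ∀ g ∈ T, (2 * Cn ^ 2 + 1) *
      (K.offDiag.filter (fun p => p.1 * p.2⁻¹ = g)).card ≤ Fintype.card N := by
    intro g hg
    rw [hT, Finset.mem_filter] at hg
    have hidx := hcon g hg.2
    have hmul := Subgroup.index_mul_card (Subgroup.centralizer ({g} : Set N))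
    rw [Nat.card_eq_fintype_card (α := N)] at hmul
    have hfc : (K.offDiag.filter (fun p => p.1 * p.2⁻¹ = g)).card ≤
        Nat.card (Subgroup.centralizer ({g} : Set N)) := by
      rcases Finset.eq_empty_or_nonempty (K.offDiag.filter (fun p => p.1 * p.2⁻¹ = g)) with he | hne'
      · rw [he]; simp
      · obtain ⟨p₀, hp₀⟩ := hne'
        rw [Finset.mem_filter, Finset.mem_offDiag] at hp₀
        have hcard : Nat.card (Subgroup.centralizer ({g} : Set N)) =
            (Finset.univ.filter (fun x : N => x ∈ Subgroup.centralizer ({g} : Set N))).card := by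
          rw [Nat.card_eq_fintype_card, Fintype.card_subtype]
        rw [hcard]
        apply Finset.card_le_card_of_injOn (fun p => p.1 * p₀.1⁻¹)
        · intro p hp
          have hp' := Finset.mem_filter.mp hp
          rw [Finset.mem_offDiag] at hp'
          simp only [Finset.coe_filter, Finset.mem_univ, true_and, Set.mem_ofPred_eq]
          rw [Subgroup.mem_centralizer_iff]
          intro h hh
          rw [Set.mem_singleton_iff] at hh
          subst hh
          have h1 : p.1⁻¹ * h⁻¹ * p.1 = p₀.1⁻¹ * h⁻¹ * p₀.1 :=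
            (key h p.1 p.2 hp'.1.1 hp'.1.2.1 hp'.2).symm.trans
              (key h p₀.1 p₀.2 hp₀.1.1 hp₀.1.2.1 hp₀.2)
          have h3 : h⁻¹ * (p.1 * p₀.1⁻¹) = (p.1 * p₀.1⁻¹) * h⁻¹ := by
            calc h⁻¹ * (p.1 * p₀.1⁻¹) = p.1 * (p.1⁻¹ * h⁻¹ * p.1) * p₀.1⁻¹ := by group
              _ = p.1 * (p₀.1⁻¹ * h⁻¹ * p₀.1) * p₀.1⁻¹ := by rw [h1]
              _ = p.1 * p₀.1⁻¹ * h⁻¹ := by group
          calc h * (p.1 * p₀.1⁻¹) = h * ((p.1 * p₀.1⁻¹) * h⁻¹) * h := by group
            _ = h * (h⁻¹ * (p.1 * p₀.1⁻¹)) * h := by rw [h3]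
            _ = p.1 * p₀.1⁻¹ * h := by group
        · intro p hp p' hp' hpp
          have hp1 := (Finset.mem_filter.mp hp).2
          have hp1' := (Finset.mem_filter.mp hp').2
          have h1 : p.1 = p'.1 := mul_right_cancel hpp
          have h4 : p.2⁻¹ = p'.2⁻¹ := by
            rw [h1] at hp1
            exact mul_left_cancel (hp1.trans hp1'.symm)
          exact Prod.ext h1 (inv_injective h4)
    calc (2 * Cn ^ 2 + 1) * (K.offDiag.filter (fun p => p.1 * p.2⁻¹ = g)).card
        ≤ (Subgroup.centralizer ({g} : Set N)).index *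
            Nat.card (Subgroup.centralizer ({g} : Set N)) := Nat.mul_le_mul (by omega) hfc
      _ = Fintype.card N := hmul
  have hbound : (2 * Cn ^ 2 + 1) * K.offDiag.card ≤ Fintype.card N * Fintype.card N := by
    rw [hsum, Finset.mul_sum]
    calc ∑ g ∈ T, (2 * Cn ^ 2 + 1) * (K.offDiag.filter (fun p => p.1 * p.2⁻¹ = g)).card
        ≤ ∑ _g ∈ T, Fintype.card N := Finset.sum_le_sum hfiber
      _ = T.card * Fintype.card N := by rw [Finset.sum_const, smul_eq_mul]
      _ ≤ Fintype.card N * Fintype.card N := by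
          apply Nat.mul_le_mul_right
          rw [← Finset.card_univ]
          exact Finset.card_le_card (Finset.subset_univ _)
  -- arithmetic
  have hoff : K.offDiag.card + K.card = K.card * K.card := by
    rw [Finset.offDiag_card]
    exact Nat.sub_add_cancel (Nat.le_mul_self _)
  obtain ⟨n, hn⟩ : ∃ n : ℕ, n = K.card := ⟨_, rfl⟩
  obtain ⟨p, hp⟩ : ∃ p : ℕ, p = K.offDiag.card := ⟨_, rfl⟩
  rw [← hn] at hK2 hN_le hoff
  rw [← hp] at hbound hoff
  have h5 : Fintype.card N * Fintype.card N ≤ (Cn * n) * (Cn * n) := Nat.mul_le_mul hN_le hN_le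
  have h6 : n * n ≤ 2 * p := by nlinarith
  have h7 : 1 ≤ p := by nlinarith
  have h8 : (2 * Cn ^ 2 + 1) * p ≤ (Cn * n) * (Cn * n) := hbound.trans h5
  nlinarith [Nat.mul_le_mul_left (Cn ^ 2) h6]

end Cfsg.Agent.Lib.helper86.IV
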