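import Mathlib
import Cfsg.Prelude.Def_LieTypeChar
import Cfsg.Agent.Lib.helper44.LODefs
import Cfsg.Agent.Lib.helper6.LOARITH
import Cfsg.Agent.S1163

set_option autoImplicit false

namespace Cfsg.Agent.Lib.helper44.LO

open Cfsg

/-- SZ (racer copy of `lo_sz`). -/
theorem h40_lo_sz {F : Type} [Field F] [Fintype F] (m : ℕ) (hm : 1 ≤ m) (hF : Fintype.card F = 2 ^ (2 * m + 1)) :
    LOGood 2 (Nat.card ↥(Cfsg.Lie.Sz F (2 ^ (m + 1)))) := by
  have hres := (Cfsg.Agent.S1163.result hm hF).1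
  have hq2 : 2 ≤ 2 ^ (2 * m + 1) := by
    calc 2 = 2 ^ 1 := by norm_num
      _ ≤ 2 ^ (2 * m + 1) := Nat.pow_le_pow_right (by norm_num) (by omega)
  have hqe : 2 ∣ 2 ^ (2 * m + 1) := dvd_pow_self 2 (by omega)
  refine lo_good Nat.prime_two (2 * m + 1) (by omega) 1 _ 2
    ((2 ^ (2 * m + 1) - 1) * ((2 ^ (2 * m + 1)) ^ 2 + 1)) 3 ?_ ?_ ?_ ?_ (by norm_num) (by norm_num)
  · rw [one_mul, hres, mul_assoc]
  · norm_num
  · generalize 2 ^ (2 * m + 1) = q at hq2 hqe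
    intro h
    rcases (Nat.Prime.dvd_mul Nat.prime_two).mp h with h | h
    · omega
    · have h2 : 2 ∣ q ^ 2 := dvd_pow hqe (by norm_num)
      omega
  · generalize 2 ^ (2 * m + 1) = q at hq2
    obtain ⟨t, rfl⟩ : ∃ t, q = t + 2 := ⟨q - 2, by omega⟩
    simp only [one_mul, show t + 2 - 1 = t + 1 from rfl]
    nlinarith [Nat.zero_le t]

end Cfsg.Agent.Lib.helper44.LO
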