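/-
Project S5006, piece NORM: the norm inequality for an irreducible character of the group of the
length-24 code, from the first orthogonality relation and Cauchy-Schwarz on cyclic subgroups.
-/
import Mathlib
import Cfsg.Agent.Lib.helper33.M24BDefs
import Cfsg.Agent.Lib.helper92.M24B_NORMGEN
import Cfsg.Agent.Lib.helper81.CharBasic
import Cfsg.Agent.Lib.helper9.M24Order

set_option autoImplicit false

namespace Cfsg.Agent.Lib.helper40.M24B

open Cfsg Cfsg.Agent.Lib.helper33.M24B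
open scoped ComplexConjugate

/-- The square of an element of order 3 has the same number of fixed points. -/
theorem fixN_sq_of_order_three (y : ↥M24) (hy : orderOf y = 3) : fixN (y ^ 2) = fixN y := by
  unfold fixN
  congr 1
  ext p
  simp only [Finset.mem_filter, Finset.mem_univ, true_and]
  have h3 : (y : Equiv.Perm GolayPt) ^ 3 = 1 := by
    have h := pow_orderOf_eq_one y
    rw [hy] at h
    have h' := congrArg (fun z : ↥M24 => (z : Equiv.Perm GolayPt)) h
    simpa using h'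
  rw [Subgroup.coe_pow]
  constructor
  · intro h
    have h4 : ((y : Equiv.Perm GolayPt) ^ 3) p = (y : Equiv.Perm GolayPt) p := by
      rw [show (3 : ℕ) = 2 + 1 from rfl, pow_succ', Equiv.Perm.mul_apply, h]
    rw [h3, Equiv.Perm.one_apply] at h4
    exact h4.symm
  · intro h
    rw [pow_two, Equiv.Perm.mul_apply, h, h]

/-- The sum of the squared absolute values of an irreducible character is the group order. -/
theorem sum_norm_sq_irr {G : Type*} [Group G] [Fintype G] (χ : IrrCharacter G) :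
    ∑ g : G, ‖(χ : G → ℂ) g‖ ^ 2 = (Nat.card G : ℝ) := by
  have h := Cfsg.Agent.Lib.helper81.irr_classInner_self χ
  unfold classInner at h
  have hne : (Nat.card G : ℂ) ≠ 0 := by
    exact_mod_cast (Nat.card_pos (α := G)).ne'
  have h2 : ∑ g : G, (χ : G → ℂ) g * conj ((χ : G → ℂ) g) = (Nat.card G : ℂ) := by
    have := congrArg (fun z => (Nat.card G : ℂ) * z) h
    simp only [mul_one] at this
    rw [← mul_assoc, mul_inv_cancel₀ hne, one_mul] at this
    exact this
  have h3 : ∀ g : G, (χ : G → ℂ) g * conj ((χ : G → ℂ) g) = ((‖(χ : G → ℂ) g‖ ^ 2 : ℝ) : ℂ) := by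
    intro g
    rw [Complex.mul_conj, Complex.normSq_eq_norm_sq]
  simp_rw [h3] at h2
  rw [← Complex.ofReal_sum] at h2
  have h4 : ((∑ g : G, ‖(χ : G → ℂ) g‖ ^ 2 : ℝ) : ℂ) = (((Nat.card G : ℕ) : ℝ) : ℂ) := by
    rw [h2]; norm_cast
  exact Complex.ofReal_injective h4

/-- NORM -/
theorem norm_ineq (χ : IrrCharacter ↥M24) (sA s11 : ℂ)
    (hA : ∀ y : ↥M24, orderOf y = 3 → fixN y = 6 → psum (χ : ↥M24 → ℂ) 3 y = sA)
    (h11 : ∀ y : ↥M24, orderOf y = 11 → psum (χ : ↥M24 → ℂ) 11 y = s11)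
    (cA : 226688 ≤ Set.ncard {y : ↥M24 | orderOf y = 3 ∧ fixN y = 6})
    (c11 : 22256640 ≤ Set.ncard {y : ↥M24 | orderOf y = 11}) :
    10 * ‖(χ : ↥M24 → ℂ) 1‖ ^ 2 + 566720 * ‖sA‖ ^ 2 + 2225664 * ‖s11‖ ^ 2 ≤ 2448230400 := by
  classical
  have : Fintype ↥M24 := Fintype.ofFinite _
  set YA : Finset ↥M24 := Finset.univ.filter (fun y => orderOf y = 3 ∧ fixN y = 6) with hYA
  set Y11 : Finset ↥M24 := Finset.univ.filter (fun y => orderOf y = 11) with hY11
  have hYAc : Set.ncard {y : ↥M24 | orderOf y = 3 ∧ fixN y = 6} = YA.card := by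
    rw [← Set.ncard_coe_finset]
    congr 1
    ext y
    simp [hYA]
  have hY11c : Set.ncard {y : ↥M24 | orderOf y = 11} = Y11.card := by
    rw [← Set.ncard_coe_finset]
    congr 1
    ext y
    simp [hY11]
  rw [hYAc] at cA
  rw [hY11c] at c11
  -- Cauchy-Schwarz on the two families
  have nA := Cfsg.Agent.Lib.helper92.M24B.norm_lower 3 Nat.prime_three YA
    (fun y hy => ((Finset.mem_filter.mp hy).2).1)
    (by
      intro y hy k hk
      have hy' := (Finset.mem_filter.mp hy).2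
      rw [Finset.mem_Ico] at hk
      have hk' : k = 1 ∨ k = 2 := by omega
      rcases hk' with rfl | rfl
      · rw [pow_one]; exact hy
      · rw [Finset.mem_filter]
        refine ⟨Finset.mem_univ _, ?_, ?_⟩
        · rw [Nat.Coprime.orderOf_pow (by rw [hy'.1]; norm_num), hy'.1]
        · rw [fixN_sq_of_order_three y hy'.1, hy'.2])
    (χ : ↥M24 → ℂ) sA
    (fun y hy => hA y ((Finset.mem_filter.mp hy).2).1 ((Finset.mem_filter.mp hy).2).2)
  have n11 := Cfsg.Agent.Lib.helper92.M24B.norm_lower 11 (by norm_num) Y11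
    (fun y hy => (Finset.mem_filter.mp hy).2)
    (by
      intro y hy k hk
      have hy' := (Finset.mem_filter.mp hy).2
      rw [Finset.mem_Ico] at hk
      rw [Finset.mem_filter]
      refine ⟨Finset.mem_univ _, ?_⟩
      have hcop : (orderOf y).Coprime k := by
        rw [hy']
        exact (Nat.Prime.coprime_iff_not_dvd (by norm_num)).mpr
          (Nat.not_dvd_of_pos_of_lt (by omega) hk.2)
      rw [Nat.Coprime.orderOf_pow hcop, hy'])
    (χ : ↥M24 → ℂ) s11
    (fun y hy => h11 y (Finset.mem_filter.mp hy).2)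
  -- the three parts are disjoint
  have hd : Disjoint YA Y11 := by
    rw [Finset.disjoint_left]
    intro y h1 h2
    have e1 := ((Finset.mem_filter.mp h1).2).1
    have e2 := (Finset.mem_filter.mp h2).2
    omega
  have h1not : (1 : ↥M24) ∉ YA ∪ Y11 := by
    intro h
    rcases Finset.mem_union.mp h with h | h
    · have e1 := ((Finset.mem_filter.mp h).2).1
      rw [orderOf_one] at e1
      omega
    · have e2 := (Finset.mem_filter.mp h).2
      rw [orderOf_one] at e2
      omega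
  have hsub : ∑ g ∈ insert (1 : ↥M24) (YA ∪ Y11), ‖(χ : ↥M24 → ℂ) g‖ ^ 2
      ≤ ∑ g : ↥M24, ‖(χ : ↥M24 → ℂ) g‖ ^ 2 :=
    Finset.sum_le_sum_of_subset_of_nonneg (Finset.subset_univ _) (fun _ _ _ => sq_nonneg _)
  rw [Finset.sum_insert h1not, Finset.sum_union hd, sum_norm_sq_irr χ,
    Cfsg.Agent.Lib.helper9.card_M24] at hsub
  have cA' : (226688 : ℝ) ≤ (YA.card : ℝ) := by exact_mod_cast cA
  have c11' : (22256640 : ℝ) ≤ (Y11.card : ℝ) := by exact_mod_cast c11
  have hsA : 0 ≤ ‖sA‖ ^ 2 := sq_nonneg _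
  have hs11 : 0 ≤ ‖s11‖ ^ 2 := sq_nonneg _
  have eA : (226688 : ℝ) * ‖sA‖ ^ 2 ≤ (YA.card : ℝ) * ‖sA‖ ^ 2 :=
    mul_le_mul_of_nonneg_right cA' hsA
  have e11 : (22256640 : ℝ) * ‖s11‖ ^ 2 ≤ (Y11.card : ℝ) * ‖s11‖ ^ 2 :=
    mul_le_mul_of_nonneg_right c11' hs11
  norm_num at nA n11 hsub
  linarith

end Cfsg.Agent.Lib.helper40.M24B
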