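/-
Project S5006, piece TWO_A: an element of order 3 with six fixed points in the group of the
length-24 code is centralized by a subgroup of order 8 (explicit tables).
-/
import Mathlib
import Cfsg.Agent.Lib.helper33.M24BDefs
import Cfsg.Agent.Lib.helper94.M24Frame
import Cfsg.Agent.Lib.helper94.M24FixAll

set_option autoImplicit false

namespace Cfsg.Agent.Lib.helper40.M24B

open Cfsg Cfsg.Agent.Lib.helper33.M24B Cfsg.Agent.Lib.helper94

/-- A group containing `a` of order 4 and `b` of order dividing 2 inverting `a`, both commuting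
with `y`, has a subgroup of order 8 centralizing `y`. -/
theorem exists_card_eight_of {G : Type*} [Group G] [Finite G] (y a b : G)
    (ha4 : a ^ 4 = 1) (ha2 : a ^ 2 ≠ 1) (hb2 : b ^ 2 = 1) (hba : b * a * b⁻¹ = a ^ 3)
    (hay : a * y = y * a) (hby : b * y = y * b) :
    ∃ P : Subgroup G, Nat.card P = 8 ∧ ∀ x ∈ P, x * y = y * x := by
  classical
  have : Fact (Nat.Prime 2) := ⟨Nat.prime_two⟩
  have hbinv : b⁻¹ = b := by
    rw [inv_eq_iff_mul_eq_one, ← pow_two]; exact hb2
  have hoa : orderOf a = 4 := by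
    have := orderOf_eq_prime_pow (x := a) (p := 2) (n := 1) (by simpa using ha2) (by simpa using ha4)
    simpa using this
  have hcardA : Nat.card (Subgroup.zpowers a) = 4 := by
    rw [Nat.card_zpowers, hoa]
  have hpA : IsPGroup 2 (Subgroup.zpowers a) := by
    rw [IsPGroup.iff_card]
    exact ⟨2, by rw [hcardA]; norm_num⟩
  have hpB : IsPGroup 2 (Subgroup.zpowers b) := by
    rw [IsPGroup.iff_card]
    have hob : orderOf b ∣ 2 := orderOf_dvd_of_pow_eq_one hb2
    rw [Nat.card_zpowers]
    rcases (Nat.dvd_prime Nat.prime_two).mp hob with h | h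
    · exact ⟨0, by rw [h]; norm_num⟩
    · exact ⟨1, by rw [h]; norm_num⟩
  -- conjugation by `b` preserves the powers of `a`
  have hconj : ∀ n : G, n ∈ Subgroup.zpowers a → b * n * b⁻¹ ∈ Subgroup.zpowers a := by
    intro n hn
    obtain ⟨k, rfl⟩ := Subgroup.mem_zpowers_iff.mp hn
    have h1 : b * a ^ k * b⁻¹ = (b * a * b⁻¹) ^ k := by
      rw [conj_zpow]
    rw [h1, hba]
    exact Subgroup.zpow_mem _ (Subgroup.pow_mem _ (Subgroup.mem_zpowers a) 3) k
  have hnorm : Subgroup.zpowers b ≤ Subgroup.normalizer (Subgroup.zpowers a : Set G) := by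
    rw [Subgroup.zpowers_le]
    rw [Subgroup.mem_normalizer_iff]
    intro n
    constructor
    · exact hconj n
    · intro h
      have h2 := hconj _ h
      rw [hbinv] at h2
      have h3 : b * (b * n * b) * b = n := by
        have hbb : b * b = 1 := by rw [← pow_two]; exact hb2
        calc b * (b * n * b) * b = (b * b) * n * (b * b) := by group
          _ = n := by rw [hbb]; group
      rw [hbinv] at h
      rwa [h3] at h2
  have hpK : IsPGroup 2 (Subgroup.zpowers b ⊔ Subgroup.zpowers a : Subgroup G) :=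
    IsPGroup.to_sup_of_normal_right' hpB hpA hnorm
  set K : Subgroup G := Subgroup.zpowers b ⊔ Subgroup.zpowers a with hK
  have hbK : b ∈ K := (le_sup_left : Subgroup.zpowers b ≤ K) (Subgroup.mem_zpowers b)
  have hAK : Subgroup.zpowers a ≤ K := le_sup_right
  have hbnot : b ∉ Subgroup.zpowers a := by
    intro hb
    obtain ⟨k, hk⟩ := Subgroup.mem_zpowers_iff.mp hb
    have hcomm : b * a = a * b := by
      rw [← hk, ← zpow_add_one, ← zpow_one_add]
      rw [add_comm]
    have h1 : b * a * b⁻¹ = a := by rw [hcomm]; group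
    rw [h1] at hba
    apply ha2
    have h2 : a ^ 3 = a * a ^ 2 := by rw [pow_succ' a 2]
    rw [h2] at hba
    exact (mul_eq_left).mp hba.symm
  obtain ⟨n, hn⟩ := (IsPGroup.iff_card (p := 2)).mp hpK
  have hn3 : 3 ≤ n := by
    by_contra hlt
    have hle : Nat.card K ≤ Nat.card (Subgroup.zpowers a) := by
      rw [hn, hcardA]
      have : n ≤ 2 := by omega
      calc 2 ^ n ≤ 2 ^ 2 := Nat.pow_le_pow_right (by norm_num) this
        _ = 4 := by norm_num
    have := Subgroup.eq_of_le_of_card_ge hAK hle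
    exact hbnot (this ▸ hbK)
  have hdvd : 2 ^ 3 ∣ Nat.card K := by
    rw [hn]; exact pow_dvd_pow 2 hn3
  obtain ⟨P', hP'⟩ := Sylow.exists_subgroup_card_pow_prime 2 hdvd
  refine ⟨P'.map K.subtype, ?_, ?_⟩
  · rw [Subgroup.card_map_of_injective K.subtype_injective, hP']; norm_num
  · rintro x hx
    obtain ⟨x', -, rfl⟩ := Subgroup.mem_map.mp hx
    have hKc : K ≤ Subgroup.centralizer ({y} : Set G) := by
      rw [hK]
      refine sup_le ?_ ?_
      · rw [Subgroup.zpowers_le, Subgroup.mem_centralizer_iff]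
        intro z hz
        rw [Set.mem_singleton_iff] at hz
        rw [hz]; exact hby.symm
      · rw [Subgroup.zpowers_le, Subgroup.mem_centralizer_iff]
        intro z hz
        rw [Set.mem_singleton_iff] at hz
        rw [hz]; exact hay.symm
    have := Subgroup.mem_centralizer_iff.mp (hKc x'.2) y (Set.mem_singleton y)
    exact this.symm

/-- The table form of `two_A` / `two_B`. -/
theorem two_of_tables (Y A B A2 A3 n : ℕ)
    (h : isM24 Y = true ∧ isM24 A = true ∧ isM24 B = true ∧ validPerm A2 = true ∧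
      validPerm A3 = true ∧ powOne Y 3 = true ∧ fixCnt Y = n ∧ powOne A 4 = true ∧
      powOne A 2 = false ∧ powOne B 2 = true ∧ mulOK A A A2 = true ∧ mulOK A2 A A3 = true ∧
      conjOK B A A3 = true ∧ conjOK A Y Y = true ∧ conjOK B Y Y = true) (hn : n ≠ 24) :
    ∃ y : ↥M24, orderOf y = 3 ∧ fixN y = n ∧
      ∃ P : Subgroup ↥M24, Nat.card P = 8 ∧ ∀ x ∈ P, x * y = y * x := by
  obtain ⟨hY, hA, hB, hA2v, hA3v, hY3, hfix, hA4, hA2ne, hB2, hm1, hm2, hc1, hc2, hc3⟩ := h
  have hYv := isM24_valid hY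
  have hAv := isM24_valid hA
  have hBv := isM24_valid hB
  set y : ↥M24 := ⟨tperm Y, tperm_mem_M24 hY⟩ with hy
  set a : ↥M24 := ⟨tperm A, tperm_mem_M24 hA⟩ with ha
  set b : ↥M24 := ⟨tperm B, tperm_mem_M24 hB⟩ with hb
  have hfixy : fixN y = n := by
    rw [← hfix, ← card_fixed_tperm hYv]
    rfl
  have hy3 : y ^ 3 = 1 := by
    apply Subtype.ext
    rw [Subgroup.coe_pow]
    exact (powOne_iff hYv 3).mp hY3
  have hy1 : y ≠ 1 := by
    intro h1
    apply hn
    rw [← hfixy, h1]
    have : fixN (1 : ↥M24) = (Finset.univ : Finset GolayPt).card := by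
      unfold fixN
      congr 1
    rw [this, Finset.card_univ, card_golayPt]
  have hoy : orderOf y = 3 := by
    have : Fact (Nat.Prime 3) := ⟨Nat.prime_three⟩
    exact orderOf_eq_prime hy3 hy1
  have ha4 : a ^ 4 = 1 := by
    apply Subtype.ext
    rw [Subgroup.coe_pow]
    exact (powOne_iff hAv 4).mp hA4
  have ha2 : a ^ 2 ≠ 1 := by
    intro h1
    have h2 : tperm A ^ 2 = 1 := by
      have := congrArg (Subtype.val) h1
      rwa [Subgroup.coe_pow] at this
    have := (powOne_iff hAv 2).mpr h2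
    rw [hA2ne] at this
    exact absurd this (by simp)
  have hb2 : b ^ 2 = 1 := by
    apply Subtype.ext
    rw [Subgroup.coe_pow]
    exact (powOne_iff hBv 2).mp hB2
  have hba : b * a * b⁻¹ = a ^ 3 := by
    apply Subtype.ext
    have e1 := tperm_conj hBv hAv hA3v hc1
    have e2 := tperm_mul_of_mulOK hAv hAv hA2v hm1
    have e3 := tperm_mul_of_mulOK hA2v hAv hA3v hm2
    show tperm B * tperm A * (tperm B)⁻¹ = ((a ^ 3 : ↥M24) : Equiv.Perm GolayPt)
    rw [Subgroup.coe_pow, ← e1, ← e3, ← e2]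
    show tperm A * tperm A * tperm A = tperm A ^ 3
    rw [pow_succ, pow_two]
  have hay : a * y = y * a := by
    apply Subtype.ext
    have e1 := tperm_conj hAv hYv hYv hc2
    show tperm A * tperm Y = tperm Y * tperm A
    conv_rhs => rw [e1]
    group
  have hby : b * y = y * b := by
    apply Subtype.ext
    have e1 := tperm_conj hBv hYv hYv hc3
    show tperm B * tperm Y = tperm Y * tperm B
    conv_rhs => rw [e1]
    group
  exact ⟨y, hoy, hfixy, exists_card_eight_of y a b ha4 ha2 hb2 hba hay hby⟩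

/-- TWO_A -/
theorem two_A : ∃ y : ↥M24, orderOf y = 3 ∧ fixN y = 6 ∧
    ∃ P : Subgroup ↥M24, Nat.card P = 8 ∧ ∀ x ∈ P, x * y = y * x := by
  refine two_of_tables 0x4a2d75c2517cdac72a95198a720041 0x1c8285aa8548cd8bc237158b9d137
    0x396244a30558acabc33399a41d137 0xbb97441c837d8a6aa933931b180820
    0x4a221b97351d8523c30b34d545137 6 ?_ (by norm_num)
  decide +kernel

end Cfsg.Agent.Lib.helper40.M24B
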