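/-
Project S5006, piece TWO_B: a fixed-point-free element of order 3 in the group of the
length-24 code is centralized by a subgroup of order 8 (explicit tables).
-/
import Mathlib
import Cfsg.Agent.Lib.helper40.M24B_TWO_A

set_option autoImplicit false

namespace Cfsg.Agent.Lib.helper40.M24B

open Cfsg Cfsg.Agent.Lib.helper33.M24B Cfsg.Agent.Lib.helper94

/-- TWO_B -/
theorem two_B : ∃ y : ↥M24, orderOf y = 3 ∧ fixN y = 0 ∧
    ∃ P : Subgroup ↥M24, Nat.card P = 8 ∧ ∀ x ∈ P, x * y = y * x := by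
  refine two_of_tables 0xb44ce1a2ec3b685ac9ea4ae1320041 0x1012a60c2d8c9143cec4bbdd02acd5
    0x548a23d9062002b65c719c2af4d1ae 0x5d6d3a14c808c8abb0101464d71de9
    0x3a40c539e431613152ad5846895e36 0 ?_ (by norm_num)
  decide +kernel

end Cfsg.Agent.Lib.helper40.M24B
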