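import Mathlib
import Cfsg.Agent.Lib.helper68.HallPet
import Cfsg.Agent.Lib.helper79.PearlX
import Cfsg.Agent.Lib.helper58.P3FRAT
import Cfsg.Agent.Lib.helper37.P3ZC

/-!
# S5239, sub-piece NUA of NONUNIF (racer copy)
-/

set_option autoImplicit false

namespace Cfsg.Agent.Lib.helper79.P3

open Cfsg.Agent.Lib.helper68

/-- NUA (racer copy of `p3_nu_a`). Some `u ∈ P_2 ∖ P_(n-1)` commutes with `h`. -/
theorem h40_p3_nu_a {G : Type*} [Group G] [Finite G] (n : ℕ) (hn : 4 ≤ n) (hG : Nat.card G = 3 ^ n) (x : G)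
    (hx : x ^ 3 = 1) (hC : Nat.card (Subgroup.centralizer ({x} : Set G)) = 3 ^ 2) (h : G) (hh : h ∉ gam G 2)
    (hCh : Nat.card (Subgroup.centralizer ({h} : Set G)) ≠ 3 ^ 2) :
    ∃ u ∈ gam G 2, u ∉ gam G (n - 1) ∧ com u h = 1 := by
  haveI : Fact (Nat.Prime 3) := ⟨Nat.prime_three⟩
  have hcard : ∀ i, 2 ≤ i → i ≤ n → Nat.card (gam G i) = 3 ^ (n - i) := fun i hi hin =>
    h79_px_card 3 n hG x hC (by omega) i hi hin
  have hbot : gam G n = ⊥ := by
    have h1 := hcard n (by omega) le_rfl
    rw [Nat.sub_self, pow_zero] at h1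
    exact Subgroup.card_eq_one.mp h1
  have hx1 : ∀ g : G, g ∈ gam G 1 := fun g => by unfold gam; simp
  have hPc : ∀ z ∈ gam G (n - 1), ∀ g : G, g * z = z * g := by
    intro z hz g
    have h2 := com_mem hz (hx1 g)
    rw [show n - 1 + 1 = n by omega, hbot, Subgroup.mem_bot] at h2
    calc g * z = g * z * com z g := by rw [h2, mul_one]
      _ = z * g := by unfold com; group
  have hPC : gam G (n - 1) ≤ Subgroup.centralizer ({h} : Set G) := by
    intro z hz
    rw [Subgroup.mem_centralizer_iff]
    intro y hy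
    rw [Set.mem_singleton_iff] at hy
    subst hy
    exact hPc z hz y
  have hhC : h ∈ Subgroup.centralizer ({h} : Set G) := by
    rw [Subgroup.mem_centralizer_iff]
    intro y hy
    rw [Set.mem_singleton_iff] at hy
    subst hy
    rfl
  have hn1 : Nat.card (gam G (n - 1)) = 3 := by
    rw [hcard (n - 1) (by omega) (by omega), show n - (n - 1) = 1 by omega, pow_one]
  have hP2 : gam G (n - 1) ≤ gam G 2 := gam_antitone (by omega)
  -- the order of the centralizer
  have hCdvd : Nat.card (Subgroup.centralizer ({h} : Set G)) ∣ 3 ^ n := by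
    rw [← hG]
    exact Subgroup.card_subgroup_dvd_card _
  obtain ⟨k, -, hCk⟩ := (Nat.dvd_prime_pow Nat.prime_three).mp hCdvd
  have hk3 : 3 ≤ k := by
    by_contra hlt
    rcases Nat.lt_or_ge k 2 with h1 | h1
    · have hle : Nat.card (Subgroup.centralizer ({h} : Set G)) ≤ Nat.card (gam G (n - 1)) := by
        rw [hCk, hn1]
        calc 3 ^ k ≤ 3 ^ 1 := Nat.pow_le_pow_right (by norm_num) (by omega)
          _ = 3 := by norm_num
      have heq := Subgroup.eq_of_le_of_card_ge hPC hle
      exact hh (hP2 (heq ▸ hhC))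
    · have hk2 : k = 2 := by omega
      subst hk2
      exact hCh hCk
  have h27 : 27 ≤ Nat.card (Subgroup.centralizer ({h} : Set G)) := by
    rw [hCk]
    calc 27 = 3 ^ 3 := by norm_num
      _ ≤ 3 ^ k := Nat.pow_le_pow_right (by norm_num) hk3
  -- the relative index of `P_2` in the centralizer
  have hidx : (gam G 2).index = 9 := by
    rw [h79_px_index 3 n hG x hC (by omega) 2 le_rfl (by omega)]
    norm_num
  have hrdvd : (gam G 2).relIndex (Subgroup.centralizer ({h} : Set G)) ∣ 9 := by
    rw [← hidx]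
    exact Subgroup.relIndex_dvd_index_of_normal (gam G 2) _
  have hr9 : (gam G 2).relIndex (Subgroup.centralizer ({h} : Set G)) ≠ 9 := by
    intro h9
    have h1 := Subgroup.relIndex_sup_right (Subgroup.centralizer ({h} : Set G)) (gam G 2)
    have h2 := Subgroup.relIndex_mul_index
      (le_sup_right : gam G 2 ≤ Subgroup.centralizer ({h} : Set G) ⊔ gam G 2)
    rw [h1, h9, hidx] at h2
    have h3 : (Subgroup.centralizer ({h} : Set G) ⊔ gam G 2).index = 1 := by omega
    have htop : Subgroup.centralizer ({h} : Set G) ⊔ gam G 2 = ⊤ := Subgroup.index_eq_one.mp h3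
    have hCtop : Subgroup.centralizer ({h} : Set G) = ⊤ := p3_frat n (by omega) hG _ htop
    -- `h` is central
    have hcen : h ∈ Subgroup.center G := by
      rw [Subgroup.mem_center_iff]
      intro g
      have hg : g ∈ Subgroup.centralizer ({h} : Set G) := by rw [hCtop]; exact Subgroup.mem_top g
      rw [Subgroup.mem_centralizer_iff] at hg
      exact (hg h rfl).symm
    have hZ : gam G (n - 1) ≤ Subgroup.center G := by
      intro z hz
      rw [Subgroup.mem_center_iff]
      intro g
      exact hPc z hz g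
    have hZeq : gam G (n - 1) = Subgroup.center G :=
      Subgroup.eq_of_le_of_card_ge hZ (by rw [p3_center_card n (by omega) hG x hC, hn1])
    exact hh (hP2 (hZeq ▸ hcen))
  have hr3 : (gam G 2).relIndex (Subgroup.centralizer ({h} : Set G)) ≤ 3 := by
    have hle : (gam G 2).relIndex (Subgroup.centralizer ({h} : Set G)) ≤ 9 :=
      Nat.le_of_dvd (by norm_num) hrdvd
    generalize (gam G 2).relIndex (Subgroup.centralizer ({h} : Set G)) = r at hrdvd hr9 hle
    interval_cases r <;> simp_all
  -- the intersection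
  have hmul : Nat.card (gam G 2 ⊓ Subgroup.centralizer ({h} : Set G) : Subgroup G) *
      (gam G 2).relIndex (Subgroup.centralizer ({h} : Set G)) =
      Nat.card (Subgroup.centralizer ({h} : Set G)) := by
    have h1 := Subgroup.card_mul_index ((gam G 2).subgroupOf (Subgroup.centralizer ({h} : Set G)))
    have h2 : Nat.card ((gam G 2).subgroupOf (Subgroup.centralizer ({h} : Set G))) =
        Nat.card (gam G 2 ⊓ Subgroup.centralizer ({h} : Set G) : Subgroup G) := by
      rw [← Subgroup.inf_subgroupOf_right]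
      exact Nat.card_congr (Subgroup.subgroupOfEquivOfLe inf_le_right).toEquiv
    rw [h2] at h1
    exact h1
  have h9 : 9 ≤ Nat.card (gam G 2 ⊓ Subgroup.centralizer ({h} : Set G) : Subgroup G) := by
    by_contra hlt
    have h8 : Nat.card (gam G 2 ⊓ Subgroup.centralizer ({h} : Set G) : Subgroup G) ≤ 8 := by omega
    have : Nat.card (gam G 2 ⊓ Subgroup.centralizer ({h} : Set G) : Subgroup G) *
        (gam G 2).relIndex (Subgroup.centralizer ({h} : Set G)) ≤ 8 * 3 :=
      Nat.mul_le_mul h8 hr3
    omega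
  -- an element outside `P_(n-1)`
  by_contra hcon
  have hsub : gam G 2 ⊓ Subgroup.centralizer ({h} : Set G) ≤ gam G (n - 1) := by
    intro u hu
    by_contra hun
    apply hcon
    have hu' := Subgroup.mem_inf.mp hu
    refine ⟨u, hu'.1, hun, ?_⟩
    have hu2 := hu'.2
    rw [Subgroup.mem_centralizer_iff] at hu2
    have h3 : h * u = u * h := hu2 h rfl
    unfold com
    rw [mul_assoc, mul_assoc, ← h3]
    group
  have hle := Nat.le_of_dvd (by rw [hn1]; norm_num) (Subgroup.card_dvd_of_le hsub)
  rw [hn1] at hle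
  omega

end Cfsg.Agent.Lib.helper79.P3
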