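import Mathlib
import Cfsg.Agent.Lib.helper65.PearlBasic

set_option autoImplicit false

namespace Cfsg.Agent.Lib.helper65.PearlPow

open Cfsg.Agent.Lib.helper68

variable {H : Type*} [Group H]

/-- D1 (racer copy of `rel_dl`). -/
theorem h40_rel_dl {u v : ℕ} {s s' : ℕ → H} (hs : PolySeq v s) (h : Rel u s s') :
    Rel (u + 1) (dl s) (dl s') := by
  unfold Rel at h ⊢
  have e : (fun n : ℕ => (dl s n)⁻¹ * dl s' n) =
      fun n => com ((s n)⁻¹ * s (n + 1)) ((s n)⁻¹ * s' n) *
        (((s n)⁻¹ * s' n)⁻¹ * ((s (n + 1))⁻¹ * s' (n + 1))) := by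
    funext n
    unfold dl com
    group
  rw [e]
  exact PolySeq.mul (PolySeq.mono (by omega) (PolySeq.comm (PolySeq.diff hs) h)) (PolySeq.diff h)

/-- A1 (racer copy of `atom_remove`). -/
theorem h40_atom_remove {v : ℕ} (hv : 1 ≤ v) {s : ℕ → H} (hs : PolySeq v s) (k : ℕ) (hk : 1 ≤ k)
    (a : H) (ha : a ∈ gam H (k + v)) (j : ℕ) (hj : k + 1 ≤ j) :
    Rel (v + j + 1) (dl^[j] s) (dl^[j] (fun n => (a ^ (n.choose k))⁻¹ * s n)) := by
  set s' : ℕ → H := fun n => (a ^ (n.choose k))⁻¹ * s n with hs'
  -- stage 1: peel the atom down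
  have st1 : ∀ i, i ≤ k →
      Rel (v + i + 1) (fun n => (a ^ (n.choose (k - i)))⁻¹ * dl^[i] s n) (dl^[i] s') := by
    intro i
    induction i with
    | zero =>
      intro _
      exact rel_refl _ _
    | succ i ih =>
      intro hik
      have ih' := ih (by omega)
      have hr : PolySeq (v + i) (dl^[i] s) := polyseq_dl_iter hs i
      obtain ⟨m, hm⟩ : ∃ m, k - i = m + 1 := ⟨k - i - 1, by omega⟩
      have hm' : k - (i + 1) = m := by omega
      rw [hm] at ih'
      rw [hm']
      have hcm : PolySeq (v + i) (fun n : ℕ => a ^ (n.choose (m + 1))) :=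
        PolySeq.atom (m + 1) (v + i) a (by rw [show m + 1 + (v + i) = k + v by omega]; exact ha)
      have hcm1 : PolySeq (v + i + 1) (fun n : ℕ => a ^ (n.choose m)) :=
        PolySeq.atom m (v + i + 1) a (by rw [show m + (v + i + 1) = k + v by omega]; exact ha)
      have hprod : PolySeq (v + i) (fun n => (a ^ (n.choose (m + 1)))⁻¹ * dl^[i] s n) :=
        PolySeq.mul (PolySeq.inv hcm) hr
      have h1 := h40_rel_dl hprod ih'
      simp only [Function.iterate_succ_apply']
      refine rel_trans ?_ (rel_mono (by omega) h1)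
      generalize dl^[i] s = r at hr ⊢
      unfold Rel
      have e : (fun n => ((a ^ (n.choose m))⁻¹ * dl r n)⁻¹ *
            dl (fun n => (a ^ (n.choose (m + 1)))⁻¹ * r n) n)
          = fun n => ((r n)⁻¹ * r (n + 1))⁻¹ * com ((a ^ (n.choose m))⁻¹) (r n) *
              ((r n)⁻¹ * r (n + 1)) := by
        funext n
        have hch : (n + 1).choose (m + 1) = n.choose m + n.choose (m + 1) :=
          Nat.choose_succ_succ n m
        simp only [dl, com]
        rw [hch, pow_add]
        generalize a ^ (n.choose m) = A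
        generalize a ^ (n.choose (m + 1)) = B
        group
      rw [e]
      exact polyseq_conj (PolySeq.mono (by omega) (PolySeq.comm (PolySeq.inv hcm1) hr))
        (PolySeq.diff hr)
  -- stage 2: one more difference kills the constant
  have st2 : Rel (v + (k + 1) + 1) (dl^[k + 1] s) (dl^[k + 1] s') := by
    have h := st1 k le_rfl
    rw [Nat.sub_self] at h
    have hr : PolySeq (v + k) (dl^[k] s) := polyseq_dl_iter hs k
    have hconst : PolySeq (v + k) (fun n : ℕ => a ^ (n.choose 0)) :=
      PolySeq.atom 0 (v + k) a (by rw [zero_add, add_comm]; exact ha)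
    have h1 := h40_rel_dl (PolySeq.mul (PolySeq.inv hconst) hr) h
    simp only [Function.iterate_succ_apply']
    refine rel_trans (rel_of_eq _ ?_) (rel_mono (by omega) h1)
    generalize dl^[k] s = r
    funext n
    show (r n)⁻¹ * r (n + 1) =
      ((a ^ (n.choose 0))⁻¹ * r n)⁻¹ * ((a ^ ((n + 1).choose 0))⁻¹ * r (n + 1))
    rw [Nat.choose_zero_right, Nat.choose_zero_right, pow_one]
    group
  -- stage 3: the remaining differences
  have st3 : ∀ j, k + 1 ≤ j → Rel (v + j + 1) (dl^[j] s) (dl^[j] s') := by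
    intro j hj
    induction j, hj using Nat.le_induction with
    | base => exact st2
    | succ j hj ih =>
      simp only [Function.iterate_succ_apply']
      exact rel_mono (by omega) (h40_rel_dl (polyseq_dl_iter hs j) ih)
  exact st3 j hj

end Cfsg.Agent.Lib.helper65.PearlPow
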