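import Mathlib
import Cfsg.Agent.Lib.helper65.PearlBasic

set_option autoImplicit false

namespace Cfsg.Agent.Lib.helper65.PearlPow

open Cfsg.Agent.Lib.helper68

variable {H : Type*} [Group H]

/-- A2 (racer copy of `dl_iter_vanish`). -/
theorem h40_dl_iter_vanish (s : ℕ → H) (p : ℕ) (hs : ∀ i < p, s i = 1) : dl^[p] s 0 = s p := by
  induction p generalizing s with
  | zero => rfl
  | succ p ih =>
    rw [Function.iterate_succ_apply]
    have h1 : ∀ i < p, dl s i = 1 := by
      intro i hi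
      show (s i)⁻¹ * s (i + 1) = 1
      rw [hs i (by omega), hs (i + 1) (by omega)]
      simp
    rw [ih (dl s) h1]
    show (s p)⁻¹ * s (p + 1) = s (p + 1)
    rw [hs p (by omega)]
    simp

/-- A3 core: `taylor_top` with the statement of A1 (`atom_remove`) as a hypothesis. -/
theorem h40_taylor_top_core
    (hA1 : ∀ {v : ℕ} (_ : 1 ≤ v) {s : ℕ → H} (_ : PolySeq v s) (k : ℕ) (_ : 1 ≤ k)
      (a : H) (_ : a ∈ gam H (k + v)) (j : ℕ) (_ : k + 1 ≤ j),
      Rel (v + j + 1) (dl^[j] s) (dl^[j] (fun n => (a ^ (n.choose k))⁻¹ * s n)))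
    {w : ℕ} (hw : 1 ≤ w) (p : ℕ) (hp : p.Prime) (hnil : gam H (w + 1 + p) = ⊥)
    (hexp : ∀ y ∈ gam H (w + 2), y ^ p = 1) {s : ℕ → H} (hs : PolySeq w s) (h0 : s 0 = 1) :
    s p = (s 1) ^ p * dl^[p] s 0 := by
  have key : ∀ k, 1 ≤ k → k + 1 ≤ p → ∃ r : ℕ → H, PolySeq w r ∧ (∀ i ≤ k, r i = 1) ∧
      s p = (s 1) ^ p * r p ∧ Rel (w + p + 1) (dl^[p] s) (dl^[p] r) := by
    intro k hk
    induction k, hk using Nat.le_induction with
    | base =>
      intro hp2
      have ha : s 1 ∈ gam H (1 + w) := by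
        have := PolySeq.vanish 1 hs (fun i hi => by
          have : i = 0 := by omega
          subst this; exact h0)
        rwa [add_comm] at this
      refine ⟨fun n => ((s 1) ^ (n.choose 1))⁻¹ * s n, ?_, ?_, ?_, ?_⟩
      · exact PolySeq.mul (PolySeq.inv (PolySeq.atom 1 w (s 1) ha)) hs
      · intro i hi
        interval_cases i
        · simp [h0]
        · simp
      · simp
      · exact hA1 hw hs 1 le_rfl (s 1) ha p hp2
    | succ k hk ih =>
      intro hkp
      obtain ⟨r, hr, hr1, hsp, hrel⟩ := ih (by omega)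
      have ha : r (k + 1) ∈ gam H (k + 1 + w) := by
        have := PolySeq.vanish (k + 1) hr (fun i hi => hr1 i (by omega))
        rwa [add_comm] at this
      have hap : (r (k + 1)) ^ (p.choose (k + 1)) = 1 := by
        obtain ⟨c, hc⟩ := hp.dvd_choose_self (by omega : k + 1 ≠ 0) (by omega : k + 1 < p)
        rw [hc, pow_mul, hexp _ (gam_antitone (by omega) ha), one_pow]
      refine ⟨fun n => ((r (k + 1)) ^ (n.choose (k + 1)))⁻¹ * r n, ?_, ?_, ?_, ?_⟩
      · exact PolySeq.mul (PolySeq.inv (PolySeq.atom (k + 1) w _ ha)) hr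
      · intro i hi
        rcases Nat.lt_or_ge i (k + 1) with h | h
        · show ((r (k + 1)) ^ (i.choose (k + 1)))⁻¹ * r i = 1
          rw [Nat.choose_eq_zero_of_lt h, hr1 i (by omega)]
          simp
        · have : i = k + 1 := by omega
          subst this
          show ((r (k + 1)) ^ ((k + 1).choose (k + 1)))⁻¹ * r (k + 1) = 1
          rw [Nat.choose_self]
          simp
      · show s p = s 1 ^ p * (((r (k + 1)) ^ (p.choose (k + 1)))⁻¹ * r p)
        rw [hap, hsp]
        simp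
      · exact rel_trans hrel (hA1 hw hr (k + 1) (by omega) _ ha p (by omega))
  have hp2 := hp.two_le
  obtain ⟨r, hr, hr1, hsp, hrel⟩ := key (p - 1) (by omega) (by omega)
  have h1 : dl^[p] r 0 = r p := h40_dl_iter_vanish r p (fun i hi => hr1 i (by omega))
  have h2 : (dl^[p] s 0)⁻¹ * dl^[p] r 0 = 1 := by
    have hm := PolySeq.mem hrel 0
    rw [show w + p + 1 = w + 1 + p by ring, hnil] at hm
    exact (Subgroup.mem_bot).mp hm
  have h3 : dl^[p] s 0 = dl^[p] r 0 := inv_mul_eq_one.mp h2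
  rw [h3, h1]
  exact hsp

end Cfsg.Agent.Lib.helper65.PearlPow
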