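import Mathlib
import Cfsg.Agent.Lib.helper68.HallPet
import Cfsg.Agent.Lib.helper32.PearlGK1
import Cfsg.Agent.Lib.helper40.PearlGK4core

/-!
# S5238 block G (helper65's split), piece K4 (`pg_uniserial`)
-/

set_option autoImplicit false

namespace Cfsg.Agent.Lib.helper65.PearlG

open Cfsg.Agent.Lib.helper68

variable {G : Type*} [Group G] [Finite G]

/-- K4. Uniserial action of `x`. -/
theorem pg_uniserial (p : ℕ) [Fact p.Prime] (n : ℕ) (hG : Nat.card G = p ^ n) (x : G)
    (hC : Nat.card (Subgroup.centralizer ({x} : Set G)) = p ^ 2) (i : ℕ) (hi : 2 ≤ i)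
    (hin : i + 2 ≤ n) (m : G) (hm : m ∈ gam G i) (hm' : m ∉ gam G (i + 1)) :
    com m x ∉ gam G (i + 2) :=
  h40_pg_uniserial_core p n hG x hC (fun j hj hjn => h32_pg_card p n hG x hC j hj hjn)
    i hi hin m hm hm'

end Cfsg.Agent.Lib.helper65.PearlG
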