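import Mathlib
import Cfsg.Agent.Lib.helper68.HallPet

/-!
# S5238 block G (helper33's split), leaf UNI (`uniserial`), racer copy
-/

set_option autoImplicit false

namespace Cfsg.Agent.Lib.helper33.PearlG

open Cfsg.Agent.Lib.helper68

variable {G : Type*} [Group G]

/-- The subgroup `{h ∈ gam G i | com x h ∈ gam G (i + 2)}`. -/
def h40_uniSub (x : G) (i : ℕ) : Subgroup G where
  carrier := {h | h ∈ gam G i ∧ com x h ∈ gam G (i + 2)}
  mul_mem' := by
    rintro a b ⟨ha, ha'⟩ ⟨hb, hb'⟩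
    refine ⟨(gam G i).mul_mem ha hb, ?_⟩
    have e : com x (a * b) = com x b * (b⁻¹ * com x a * b) := by unfold com; group
    rw [e]
    have hn : b⁻¹ * com x a * b ∈ gam G (i + 2) := by
      have h1 := (inferInstance : (gam G (i + 2)).Normal).conj_mem (com x a) ha' b⁻¹
      rwa [inv_inv] at h1
    exact (gam G (i + 2)).mul_mem hb' hn
  one_mem' := by
    refine ⟨(gam G i).one_mem, ?_⟩
    have e : com x (1 : G) = 1 := by unfold com; group
    rw [e]
    exact (gam G (i + 2)).one_mem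
  inv_mem' := by
    rintro a ⟨ha, ha'⟩
    refine ⟨(gam G i).inv_mem ha, ?_⟩
    have e : com x a⁻¹ = a * (com x a)⁻¹ * a⁻¹ := by unfold com; group
    rw [e]
    exact (inferInstance : (gam G (i + 2)).Normal).conj_mem _ ((gam G (i + 2)).inv_mem ha') a

theorem h40_mem_uniSub (x : G) (i : ℕ) (h : G) :
    h ∈ h40_uniSub x i ↔ h ∈ gam G i ∧ com x h ∈ gam G (i + 2) := Iff.rfl

variable [Finite G]

/-- UNI (racer copy of `uniserial`). `x` acts uniserially. -/
theorem h40_uniserial (p : ℕ) [Fact p.Prime] (n : ℕ) (x : G)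
    (hkey : ∀ M N : Subgroup G, M ≤ gam G 2 → x ∉ N → (∀ h ∈ N, com x h ∈ M) →
      Nat.card N ≤ p * Nat.card M)
    (hcard : ∀ i, 2 ≤ i → i ≤ n → Nat.card (gam G i) = p ^ (n - i))
    (hxn : x ∉ gam G 2) (i : ℕ) (hi : 2 ≤ i) (hin : i + 2 ≤ n) (m : G) (hm : m ∈ gam G i)
    (hm' : m ∉ gam G (i + 1)) : com m x ∉ gam G (i + 2) := by
  intro hcon
  have hx1 : x ∈ gam G 1 := by unfold gam; simp
  have hN_le : h40_uniSub x i ≤ gam G i := fun h hh => ((h40_mem_uniSub x i h).mp hh).1
  have hle1 : gam G (i + 1) ≤ h40_uniSub x i := by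
    intro h hh
    rw [h40_mem_uniSub]
    refine ⟨gam_antitone (Nat.le_succ i) hh, ?_⟩
    have h2 := com_mem hx1 hh
    rwa [show 1 + (i + 1) = i + 2 by omega] at h2
  have hmN : m ∈ h40_uniSub x i := by
    rw [h40_mem_uniSub]
    refine ⟨hm, ?_⟩
    have e : com x m = (com m x)⁻¹ := by unfold com; group
    rw [e]
    exact (gam G (i + 2)).inv_mem hcon
  have hxN : x ∉ h40_uniSub x i := fun h => hxn (gam_antitone hi (hN_le h))
  have hk := hkey (gam G (i + 2)) (h40_uniSub x i) (gam_antitone (by omega)) hxN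
    (fun h hh => ((h40_mem_uniSub x i h).mp hh).2)
  rw [hcard (i + 2) (by omega) hin] at hk
  have hc1 := hcard (i + 1) (by omega) (by omega)
  have hle2 : Nat.card (h40_uniSub x i) ≤ Nat.card (gam G (i + 1)) := by
    rw [hc1]
    calc Nat.card (h40_uniSub x i) ≤ p * p ^ (n - (i + 2)) := hk
      _ = p ^ (n - (i + 1)) := by
          rw [← pow_succ']
          congr 1
          omega
  have heq : gam G (i + 1) = h40_uniSub x i := Subgroup.eq_of_le_of_card_ge hle1 hle2
  apply hm'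
  rw [heq]
  exact hmN

end Cfsg.Agent.Lib.helper33.PearlG
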