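import Mathlib
import Cfsg.Agent.Lib.helper68.HallPet
import Cfsg.Agent.Lib.helper40.PearlUni

/-!
# S5238 (block G, step (2b), the case `w = 1`): `g ↦ com x g` maps `G` onto `P 2`
-/

set_option autoImplicit false

namespace Cfsg.Agent.Lib.helper40.PearlUni

open Cfsg.Agent.Lib.helper68

variable {G : Type*} [Group G] [Finite G]

/-- Step (2b) for `w = 1`: if `|G| = p ^ n`, `|P2| = p ^ (n - 2)`, every `com x g` lies in `P2`
and `|C_G(x)| = p ^ 2`, then `g ↦ com x g` maps `G` ONTO `P2`. -/
theorem pearl_onto_one (p : ℕ) [Fact p.Prime] (n : ℕ) (hG : Nat.card G = p ^ n) (hn : 2 ≤ n)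
    (P2 : Subgroup G) (hP2 : Nat.card P2 = p ^ (n - 2)) (x : G) (hcomm : ∀ g : G, com x g ∈ P2)
    (hC : Nat.card (Subgroup.centralizer ({x} : Set G)) = p ^ 2) :
    ∀ y ∈ P2, ∃ g : G, com x g = y := by
  classical
  have hp : p.Prime := Fact.out
  have : Fintype G := Fintype.ofFinite G
  have hcf : ∀ S : Subgroup G, Nat.card S = (Finset.univ.filter (fun g : G => g ∈ S)).card := by
    intro S
    rw [Nat.card_eq_fintype_card, Fintype.card_subtype]
  set B : Finset G := Finset.univ.filter (fun g : G => g ∈ P2) with hB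
  have hAc : (Finset.univ : Finset G).card = p ^ n := by
    rw [Finset.card_univ, ← Nat.card_eq_fintype_card, hG]
  have hBc : B.card = p ^ (n - 2) := by rw [hB, ← hcf, hP2]
  have himg : (Finset.univ : Finset G).image (fun g => com x g) ⊆ B := by
    intro y hy
    rw [Finset.mem_image] at hy
    obtain ⟨g, -, rfl⟩ := hy
    rw [hB, Finset.mem_filter]
    exact ⟨Finset.mem_univ _, hcomm g⟩
  have hfib : ∀ a ∈ (Finset.univ : Finset G).image (fun g => com x g),
      ((Finset.univ : Finset G).filter (fun g => com x g = a)).card ≤ p ^ 2 := by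
    intro a ha
    rw [Finset.mem_image] at ha
    obtain ⟨g0, -, rfl⟩ := ha
    rw [← hC, hcf (Subgroup.centralizer ({x} : Set G))]
    refine Finset.card_le_card_of_injOn (fun g => g * g0⁻¹) ?_ ?_
    · intro g hg
      rw [Finset.mem_coe, Finset.mem_filter] at hg
      rw [Finset.mem_coe, Finset.mem_filter]
      exact ⟨Finset.mem_univ _, com_eq_centralizer hg.2.symm⟩
    · intro g _ g' _ h
      exact mul_right_cancel h
  have hle := Finset.card_le_mul_card_image (f := fun g => com x g) (Finset.univ : Finset G)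
    (p ^ 2) hfib
  rw [hAc] at hle
  have hle2 : B.card ≤ ((Finset.univ : Finset G).image (fun g => com x g)).card := by
    rw [hBc]
    have e : p ^ n = p ^ 2 * p ^ (n - 2) := by
      rw [← pow_add]
      congr 1
      omega
    rw [e] at hle
    exact Nat.le_of_mul_le_mul_left hle (pow_pos hp.pos 2)
  have heq : (Finset.univ : Finset G).image (fun g => com x g) = B :=
    Finset.eq_of_subset_of_card_le himg hle2
  intro y hy
  have hyB : y ∈ B := by
    rw [hB, Finset.mem_filter]
    exact ⟨Finset.mem_univ _, hy⟩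
  rw [← heq, Finset.mem_image] at hyB
  obtain ⟨g, -, hgy⟩ := hyB
  exact ⟨g, hgy⟩

end Cfsg.Agent.Lib.helper40.PearlUni
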