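import Mathlib
import Cfsg.Agent.Lib.helper57.SfoBINCNT

/-!
# S5977/S5978 block C, piece BINM: an anisotropic binary form takes the value 1 exactly `q + 1` times

`h40_qfc_bin_minus_count` has the verbatim skeleton statement of `qfc_bin_minus_count` (racer
copy, prefixed name).
-/

set_option autoImplicit false

namespace Cfsg.Agent.Lib.helper2

open Matrix

/-- BINM, racer copy -/
theorem h40_qfc_bin_minus_count {F : Type*} [Field F] [Fintype F] (h2 : (2 : F) ≠ 0) (a b : F)
    (hab : ∀ x y : F, x ^ 2 + a * x * y + b * y ^ 2 = 0 → x = 0 ∧ y = 0) :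
    Nat.card {z : Fin 2 → F // z 0 ^ 2 + a * z 0 * z 1 + b * z 1 ^ 2 = 1} = Fintype.card F + 1 := by
  classical
  have h4 : (4 : F) ≠ 0 := by
    have h : (4 : F) = 2 * 2 := by norm_num
    rw [h]
    exact mul_ne_zero h2 h2
  obtain ⟨c, hc⟩ : ∃ c : F, c = b - a ^ 2 / 4 := ⟨_, rfl⟩
  have hsq : ∀ x y : F, x ^ 2 + a * x * y + b * y ^ 2 = (x + a * y / 2) ^ 2 + c * y ^ 2 := by
    intro x y
    rw [hc]
    field_simp
    ring
  have hc0 : c ≠ 0 := by
    intro h0
    have h1 := hab (-(a / 2)) 1 (by
      rw [hsq, h0]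
      ring)
    exact one_ne_zero h1.2
  obtain ⟨e, he, ht, h0⟩ := Cfsg.Agent.Lib.helper24.sfo_bin_count h2 (1 : F) c one_ne_zero hc0
  have hzero : (Finset.univ.filter (fun p : F × F => (1 : F) * p.1 ^ 2 + c * p.2 ^ 2 = 0)) =
      {((0 : F), (0 : F))} := by
    ext p
    simp only [Finset.mem_filter, Finset.mem_univ, true_and, Finset.mem_singleton]
    constructor
    · intro hp
      have h1 := hab (p.1 - a * p.2 / 2) p.2 (by
        rw [hsq, ← hp]
        ring)
      obtain ⟨h1a, h1b⟩ := h1
      rw [h1b] at h1a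
      apply Prod.ext
      · simpa using h1a
      · exact h1b
    · rintro rfl
      simp
  rw [hzero, Finset.card_singleton] at h0
  have hq : 2 ≤ Fintype.card F := Fintype.one_lt_card
  have hq' : (2 : ℤ) ≤ (Fintype.card F : ℤ) := by exact_mod_cast hq
  have he' : e = -1 := by
    rcases he with rfl | rfl
    · exfalso
      push_cast at h0
      linarith
    · rfl
  have h1 := ht 1 one_ne_zero
  rw [he'] at h1
  let eqv : {z : Fin 2 → F // z 0 ^ 2 + a * z 0 * z 1 + b * z 1 ^ 2 = 1} ≃
      {p : F × F // (1 : F) * p.1 ^ 2 + c * p.2 ^ 2 = 1} :=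
    { toFun := fun z => ⟨(z.1 0 + a * z.1 1 / 2, z.1 1), by
        rw [one_mul, ← hsq]
        exact z.2⟩
      invFun := fun p => ⟨![p.1.1 - a * p.1.2 / 2, p.1.2], by
        have h5 := p.2
        rw [one_mul] at h5
        simp only [Matrix.cons_val_zero, Matrix.cons_val_one]
        rw [hsq]
        linear_combination h5⟩
      left_inv := fun z => by
        apply Subtype.ext
        funext i
        fin_cases i <;> simp
      right_inv := fun p => by
        apply Subtype.ext
        apply Prod.ext <;> simp }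
  rw [Nat.card_congr eqv, Nat.card_eq_fintype_card, Fintype.card_subtype]
  have h6 : ((Finset.univ.filter (fun p : F × F => (1 : F) * p.1 ^ 2 + c * p.2 ^ 2 = 1)).card : ℤ)
      = ((Fintype.card F + 1 : ℕ) : ℤ) := by
    rw [h1]
    push_cast
    ring
  exact_mod_cast h6

end Cfsg.Agent.Lib.helper2
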