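import Mathlib
import Cfsg.Prelude.Def_Classical
import Cfsg.Agent.Lib.helper40.QfcN1P

/-!
# S5977/S5978 block C, piece N1M: the number of vectors with `quadFormMinus = 1`

`h40_qfc_count_minus` has the verbatim skeleton statement of `qfc_count_minus` (racer copy,
prefixed name).
-/

set_option autoImplicit false

namespace Cfsg.Agent.Lib.helper2

open Matrix

/-- the fibre count over a fixed `x` -/
theorem h40_minus_fibre {F : Type*} [Field F] [Fintype F] (m : ℕ) (a b : F)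
    (hbin : Nat.card {z : Fin 2 → F // z 0 ^ 2 + a * z 0 * z 1 + b * z 1 ^ 2 = 1} =
      Fintype.card F + 1) (x : Fin m → F) [Decidable (x = 0)] :
    Nat.card {w : (Fin m → F) × (Fin 2 → F) //
        ∑ i, x i * w.1 i + (w.2 0 ^ 2 + a * w.2 0 * w.2 1 + b * w.2 1 ^ 2) = 1} =
      if x = 0 then (Fintype.card F + 1) * Fintype.card F ^ m
      else Fintype.card F ^ 2 * Fintype.card F ^ (m - 1) := by
  classical
  have e1 : {w : (Fin m → F) × (Fin 2 → F) //
        ∑ i, x i * w.1 i + (w.2 0 ^ 2 + a * w.2 0 * w.2 1 + b * w.2 1 ^ 2) = 1} ≃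
      {w : (Fin 2 → F) × (Fin m → F) //
        ∑ i, x i * w.2 i + (w.1 0 ^ 2 + a * w.1 0 * w.1 1 + b * w.1 1 ^ 2) = 1} :=
    (Equiv.prodComm (Fin m → F) (Fin 2 → F)).subtypeEquiv (fun w => Iff.rfl)
  have e2 := Equiv.subtypeProdEquivSigmaSubtype
    (fun (z : Fin 2 → F) (y : Fin m → F) =>
      ∑ i, x i * y i + (z 0 ^ 2 + a * z 0 * z 1 + b * z 1 ^ 2) = 1)
  rw [Nat.card_congr e1, Nat.card_congr e2, Nat.card_sigma]
  by_cases hx : x = 0
  · rw [if_pos hx]
    have hterm : ∀ z : Fin 2 → F,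
        Nat.card {y : Fin m → F // ∑ i, x i * y i + (z 0 ^ 2 + a * z 0 * z 1 + b * z 1 ^ 2) = 1} =
          if z 0 ^ 2 + a * z 0 * z 1 + b * z 1 ^ 2 = 1 then Fintype.card F ^ m else 0 := by
      intro z
      have hsum : ∀ y : Fin m → F, ∑ i, x i * y i = 0 := by
        intro y
        rw [hx]
        simp
      by_cases hz : z 0 ^ 2 + a * z 0 * z 1 + b * z 1 ^ 2 = 1
      · rw [if_pos hz]
        have e3 : {y : Fin m → F //
            ∑ i, x i * y i + (z 0 ^ 2 + a * z 0 * z 1 + b * z 1 ^ 2) = 1} ≃ (Fin m → F) :=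
          Equiv.subtypeUnivEquiv (fun y => by rw [hsum, zero_add, hz])
        rw [Nat.card_congr e3, Nat.card_eq_fintype_card, Fintype.card_fun, Fintype.card_fin]
      · rw [if_neg hz, Nat.card_eq_zero]
        left
        constructor
        rintro ⟨y, hy⟩
        rw [hsum, zero_add] at hy
        exact hz hy
    rw [Finset.sum_congr rfl (fun z _ => hterm z), Finset.sum_ite, Finset.sum_const,
      Finset.sum_const_zero, add_zero, smul_eq_mul]
    congr 1
    rw [← hbin, Nat.card_eq_fintype_card, Fintype.card_subtype]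
  · rw [if_neg hx]
    have hterm : ∀ z : Fin 2 → F,
        Nat.card {y : Fin m → F // ∑ i, x i * y i + (z 0 ^ 2 + a * z 0 * z 1 + b * z 1 ^ 2) = 1} =
          Fintype.card F ^ (m - 1) := by
      intro z
      rw [← h40_hyperplane_card m x hx (1 - (z 0 ^ 2 + a * z 0 * z 1 + b * z 1 ^ 2))]
      exact Nat.card_congr (Equiv.subtypeEquivRight (fun y => eq_sub_iff_add_eq.symm))
    rw [Finset.sum_congr rfl (fun z _ => hterm z), Finset.sum_const, smul_eq_mul,
      Finset.card_univ, Fintype.card_fun, Fintype.card_fin]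

theorem h40_count_minus_aux {F : Type*} [Field F] [Fintype F] (m : ℕ) (hm : 1 ≤ m) (a b : F)
    (hbin : Nat.card {z : Fin 2 → F // z 0 ^ 2 + a * z 0 * z 1 + b * z 1 ^ 2 = 1} =
      Fintype.card F + 1) :
    Nat.card {v : (Fin m ⊕ Fin m) ⊕ Fin 2 → F // Cfsg.quadFormMinus m F a b v = 1} =
      Fintype.card F ^ m * (Fintype.card F ^ (m + 1) + 1) := by
  classical
  let E : ((Fin m ⊕ Fin m) ⊕ Fin 2 → F) ≃ (Fin m → F) × ((Fin m → F) × (Fin 2 → F)) :=
    (Equiv.sumArrowEquivProdArrow (Fin m ⊕ Fin m) (Fin 2) F).trans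
      ((Equiv.prodCongr (Equiv.sumArrowEquivProdArrow (Fin m) (Fin m) F) (Equiv.refl _)).trans
        (Equiv.prodAssoc _ _ _))
  have e1 : {v : (Fin m ⊕ Fin m) ⊕ Fin 2 → F // Cfsg.quadFormMinus m F a b v = 1} ≃
      {t : (Fin m → F) × ((Fin m → F) × (Fin 2 → F)) //
        ∑ i, t.1 i * t.2.1 i + (t.2.2 0 ^ 2 + a * t.2.2 0 * t.2.2 1 + b * t.2.2 1 ^ 2) = 1} :=
    E.subtypeEquiv (fun v => Iff.rfl)
  have e2 := Equiv.subtypeProdEquivSigmaSubtype
    (fun (x : Fin m → F) (w : (Fin m → F) × (Fin 2 → F)) =>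
      ∑ i, x i * w.1 i + (w.2 0 ^ 2 + a * w.2 0 * w.2 1 + b * w.2 1 ^ 2) = 1)
  rw [Nat.card_congr e1, Nat.card_congr e2, Nat.card_sigma]
  rw [Finset.sum_congr rfl (fun x _ => h40_minus_fibre m a b hbin x)]
  rw [← Finset.add_sum_erase Finset.univ _ (Finset.mem_univ (0 : Fin m → F))]
  rw [if_pos rfl]
  rw [Finset.sum_congr rfl (fun x hx => if_neg (Finset.ne_of_mem_erase hx))]
  rw [Finset.sum_const, smul_eq_mul, Finset.card_erase_of_mem (Finset.mem_univ _),
    Finset.card_univ, Fintype.card_fun, Fintype.card_fin]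
  obtain ⟨m', rfl⟩ : ∃ m', m = m' + 1 := ⟨m - 1, by omega⟩
  have hq : 0 < Fintype.card F := Fintype.card_pos
  have hQ : 1 ≤ Fintype.card F ^ (m' + 1) := Nat.one_le_pow _ _ hq
  generalize Fintype.card F = q at hQ ⊢
  rw [Nat.add_sub_cancel]
  zify [hQ]
  ring

/-- N1M, racer copy -/
theorem h40_qfc_count_minus {F : Type*} [Field F] [Fintype F] (d : ℕ) (hd : 2 ≤ d) (a b : F)
    (hbin : Nat.card {z : Fin 2 → F // z 0 ^ 2 + a * z 0 * z 1 + b * z 1 ^ 2 = 1} =
      Fintype.card F + 1) :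
    Nat.card {v : (Fin (d - 1) ⊕ Fin (d - 1)) ⊕ Fin 2 → F //
        Cfsg.quadFormMinus (d - 1) F a b v = 1} =
      Fintype.card F ^ (d - 1) * (Fintype.card F ^ d + 1) := by
  have h1 := h40_count_minus_aux (d - 1) (by omega) a b hbin
  rw [Nat.sub_add_cancel (by omega : 1 ≤ d)] at h1
  exact h1

end Cfsg.Agent.Lib.helper2
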