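import Mathlib
import Cfsg.Prelude.Def_GeometricClasses
import Cfsg.Agent.Lib.helper24.SfoDefs

/-!
# S5977 / S5978, KUNIQ sub-split, piece CONJ: `h = Φ₂ ∘ T ∘ Φ₁⁻¹` is an isometry with `h κ₁ = κ₂ h`

`h40_qfu_conj` has the verbatim skeleton statement of `qfu_conj` (racer copy, prefixed name).
-/

set_option autoImplicit false

namespace Cfsg.Agent.Lib.helper2

open Cfsg.Geo Matrix Cfsg.Agent.Lib.helper24

/-- `Φ₂ ∘ (T *ᵥ ·) ∘ Φ₁⁻¹` is `F`-linear -/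
theorem h40_qfu_lin {F : Type*} [Field F] {ι : Type} [Fintype ι] [DecidableEq ι]
    (δ : F) [Fact (∀ r : F, r ^ 2 ≠ δ + 0 * r)] (κ₁ κ₂ : Matrix ι ι F)
    (d : ℕ) (Φ₁ Φ₂ : (Fin d → QuadraticAlgebra F δ 0) ≃+ (ι → F))
    (hΦ₁ : ∀ (z : QuadraticAlgebra F δ 0) (k : Fin d → QuadraticAlgebra F δ 0),
        Φ₁ (z • k) = z.re • Φ₁ k + z.im • (κ₁ *ᵥ Φ₁ k))
    (hΦ₂ : ∀ (z : QuadraticAlgebra F δ 0) (k : Fin d → QuadraticAlgebra F δ 0),
        Φ₂ (z • k) = z.re • Φ₂ k + z.im • (κ₂ *ᵥ Φ₂ k))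
    (T : Matrix (Fin d) (Fin d) (QuadraticAlgebra F δ 0)) :
    ∃ L : (ι → F) →ₗ[F] (ι → F), ∀ v, L v = Φ₂ (T *ᵥ Φ₁.symm v) := by
  have hsymm : ∀ (a : F) (v : ι → F),
      Φ₁.symm (a • v) = (⟨a, 0⟩ : QuadraticAlgebra F δ 0) • Φ₁.symm v := by
    intro a v
    rw [AddEquiv.symm_apply_eq, hΦ₁, AddEquiv.apply_symm_apply]
    simp
  refine ⟨{ toFun := fun v => Φ₂ (T *ᵥ Φ₁.symm v)
            map_add' := fun u v => by
              simp only [map_add, Matrix.mulVec_add]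
            map_smul' := fun a v => by
              simp only [RingHom.id_apply]
              rw [hsymm, Matrix.mulVec_smul, hΦ₂]
              simp }, fun v => rfl⟩

/-- CONJ (L), racer copy -/
theorem h40_qfu_conj {F : Type*} [Field F] {ι : Type} [Fintype ι] [DecidableEq ι]
    (Q : (ι → F) → F) (δ : F) [Fact (∀ r : F, r ^ 2 ≠ δ + 0 * r)] (κ₁ κ₂ : Matrix ι ι F)
    (d : ℕ) (Φ₁ Φ₂ : (Fin d → QuadraticAlgebra F δ 0) ≃+ (ι → F))
    (hΦ₁ : ∀ (z : QuadraticAlgebra F δ 0) (k : Fin d → QuadraticAlgebra F δ 0),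
        Φ₁ (z • k) = z.re • Φ₁ k + z.im • (κ₁ *ᵥ Φ₁ k))
    (hΦ₂ : ∀ (z : QuadraticAlgebra F δ 0) (k : Fin d → QuadraticAlgebra F δ 0),
        Φ₂ (z • k) = z.re • Φ₂ k + z.im • (κ₂ *ᵥ Φ₂ k))
    (qk₁ qk₂ : (ι → F) → QuadraticAlgebra F δ 0) (hre₁ : ∀ v, (qk₁ v).re = Q v)
    (hre₂ : ∀ v, (qk₂ v).re = Q v) (T : GL (Fin d) (QuadraticAlgebra F δ 0))
    (hT : ∀ k : Fin d → QuadraticAlgebra F δ 0,
      qk₂ (Φ₂ ((T : Matrix (Fin d) (Fin d) (QuadraticAlgebra F δ 0)) *ᵥ k)) = qk₁ (Φ₁ k)) :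
    ∃ h : GL ι F, h ∈ Cfsg.isometryGroup F Q ∧
      (h : Matrix ι ι F) * κ₁ = κ₂ * (h : Matrix ι ι F) := by
  classical
  obtain ⟨L, hL⟩ := h40_qfu_lin δ κ₁ κ₂ d Φ₁ Φ₂ hΦ₁ hΦ₂
    (T : Matrix (Fin d) (Fin d) (QuadraticAlgebra F δ 0))
  obtain ⟨L', hL'⟩ := h40_qfu_lin δ κ₂ κ₁ d Φ₂ Φ₁ hΦ₂ hΦ₁
    ((T⁻¹ : GL (Fin d) (QuadraticAlgebra F δ 0)) : Matrix (Fin d) (Fin d) (QuadraticAlgebra F δ 0))
  have hTT : (T : Matrix (Fin d) (Fin d) (QuadraticAlgebra F δ 0)) *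
      ((T⁻¹ : GL (Fin d) (QuadraticAlgebra F δ 0)) :
        Matrix (Fin d) (Fin d) (QuadraticAlgebra F δ 0)) = 1 := by
    rw [← Units.val_mul, mul_inv_cancel, Units.val_one]
  have hTT' : ((T⁻¹ : GL (Fin d) (QuadraticAlgebra F δ 0)) :
        Matrix (Fin d) (Fin d) (QuadraticAlgebra F δ 0)) *
      (T : Matrix (Fin d) (Fin d) (QuadraticAlgebra F δ 0)) = 1 := by
    rw [← Units.val_mul, inv_mul_cancel, Units.val_one]
  have hLL' : L ∘ₗ L' = LinearMap.id := by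
    apply LinearMap.ext
    intro v
    rw [LinearMap.comp_apply, hL, hL', AddEquiv.symm_apply_apply, Matrix.mulVec_mulVec, hTT,
      Matrix.one_mulVec, AddEquiv.apply_symm_apply, LinearMap.id_apply]
  have hL'L : L' ∘ₗ L = LinearMap.id := by
    apply LinearMap.ext
    intro v
    rw [LinearMap.comp_apply, hL', hL, AddEquiv.symm_apply_apply, Matrix.mulVec_mulVec, hTT',
      Matrix.one_mulVec, AddEquiv.apply_symm_apply, LinearMap.id_apply]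
  have hMM' : LinearMap.toMatrix' L * LinearMap.toMatrix' L' = 1 := by
    rw [← LinearMap.toMatrix'_comp, hLL', LinearMap.toMatrix'_id]
  have hM'M : LinearMap.toMatrix' L' * LinearMap.toMatrix' L = 1 := by
    rw [← LinearMap.toMatrix'_comp, hL'L, LinearMap.toMatrix'_id]
  have hmv : ∀ v, LinearMap.toMatrix' L *ᵥ v = L v := fun v => LinearMap.toMatrix'_mulVec L v
  refine ⟨⟨LinearMap.toMatrix' L, LinearMap.toMatrix' L', hMM', hM'M⟩, ?_, ?_⟩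
  · intro u _
    show Q (LinearMap.toMatrix' L *ᵥ u) = Q u
    rw [hmv, hL, ← hre₂, hT, AddEquiv.apply_symm_apply, hre₁]
  · show LinearMap.toMatrix' L * κ₁ = κ₂ * LinearMap.toMatrix' L
    apply Matrix.toLin'.injective
    apply LinearMap.ext
    intro v
    rw [Matrix.toLin'_mul, Matrix.toLin'_mul, LinearMap.comp_apply, LinearMap.comp_apply,
      Matrix.toLin'_apply, Matrix.toLin'_apply, Matrix.toLin'_apply, Matrix.toLin'_apply,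
      hmv, hmv, hL, hL]
    have h1 : κ₁ *ᵥ v = Φ₁ ((⟨0, 1⟩ : QuadraticAlgebra F δ 0) • Φ₁.symm v) := by
      rw [hΦ₁, AddEquiv.apply_symm_apply]
      simp
    rw [h1, AddEquiv.symm_apply_apply, Matrix.mulVec_smul, hΦ₂]
    simp

end Cfsg.Agent.Lib.helper2
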