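import Mathlib

/-!
# Automorphisms of odd prime order preserving a `T`-valued quadratic map on an elementary
abelian `2`-group (`|T| ≤ 4`) with at most one nontrivial zero

Two lemmas requested by helper14 for S3117:

* `quad_aut_prime`: such an automorphism has order `3` or `5`;
* `quad_aut_not_both`: automorphisms of order `3` and `5` cannot both exist (under `hZ0`).
-/

set_option autoImplicit false
set_option linter.unusedSectionVars false

namespace Cfsg.Agent.Lib.helper40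

section basics

variable {E : Type*} [Group E]

theorem qa_mul_cancel (hE : ∀ x : E, x * x = 1) (a b : E) : a * (a * b) = b := by
  rw [← mul_assoc, hE, one_mul]

theorem qa_mul_eq_iff (hE : ∀ x : E, x * x = 1) (a b c : E) : a * b = c ↔ b = a * c := by
  constructor
  · intro h; rw [← h, qa_mul_cancel hE]
  · intro h; rw [h, qa_mul_cancel hE]

theorem qa_comm (hE : ∀ x : E, x * x = 1) (a b : E) : a * b = b * a := by
  have h1 : a * b * (a * b) = 1 := hE (a * b)
  have h2 : a * b = (a * b)⁻¹ := eq_inv_of_mul_eq_one_left h1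
  have ha : a⁻¹ = a := inv_eq_of_mul_eq_one_left (hE a)
  have hb : b⁻¹ = b := inv_eq_of_mul_eq_one_left (hE b)
  rw [h2, mul_inv_rev, ha, hb]

/-- In a subgroup with more than `|F|` elements some element avoids the finite set `F`. -/
theorem qa_exists_not_mem [Finite E] (W : Subgroup E) (F : Finset E) (h : F.card < Nat.card W) :
    ∃ y ∈ W, y ∉ F := by
  classical
  by_contra hcon
  push Not at hcon
  have h1 : (W : Set E) ⊆ (F : Set E) := fun y hy => hcon y hy
  have h2 : (W : Set E).ncard ≤ (F : Set E).ncard := Set.ncard_le_ncard h1 F.finite_toSet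
  rw [Set.ncard_coe_finset] at h2
  have h3 : Nat.card W = (W : Set E).ncard := Nat.card_coe_set_eq (W : Set E)
  omega

/-- Three elements of a large subgroup all of whose seven products avoid `F`. -/
theorem qa_exists_triple [Finite E] (hE : ∀ x : E, x * x = 1) (W : Subgroup E) (F : Finset E)
    (hW : 4 * F.card < Nat.card W) :
    ∃ y1 ∈ W, ∃ y2 ∈ W, ∃ y3 ∈ W, y1 ∉ F ∧ y2 ∉ F ∧ y3 ∉ F ∧ y1 * y2 ∉ F ∧ y1 * y3 ∉ F ∧
      y2 * y3 ∉ F ∧ y1 * (y2 * y3) ∉ F := by
  classical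
  obtain ⟨y1, hy1W, hy1⟩ := qa_exists_not_mem W F (by omega)
  obtain ⟨y2, hy2W, hy2⟩ := qa_exists_not_mem W (F ∪ F.image (fun f => y1 * f)) (by
    have h1 := Finset.card_union_le F (F.image (fun f => y1 * f))
    have h2 := Finset.card_image_le (s := F) (f := fun f => y1 * f)
    omega)
  obtain ⟨y3, hy3W, hy3⟩ := qa_exists_not_mem W
    (F ∪ F.image (fun f => y1 * f) ∪ (F.image (fun f => y2 * f) ∪
      F.image (fun f => y2 * (y1 * f)))) (by
    have h1 := Finset.card_union_le (F ∪ F.image (fun f => y1 * f))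
      (F.image (fun f => y2 * f) ∪ F.image (fun f => y2 * (y1 * f)))
    have h2 := Finset.card_union_le F (F.image (fun f => y1 * f))
    have h3 := Finset.card_union_le (F.image (fun f => y2 * f))
      (F.image (fun f => y2 * (y1 * f)))
    have h4 := Finset.card_image_le (s := F) (f := fun f => y1 * f)
    have h5 := Finset.card_image_le (s := F) (f := fun f => y2 * f)
    have h6 := Finset.card_image_le (s := F) (f := fun f => y2 * (y1 * f))
    omega)
  simp only [Finset.mem_union, Finset.mem_image, not_or, not_exists, not_and] at hy2 hy3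
  refine ⟨y1, hy1W, y2, hy2W, y3, hy3W, hy1, hy2.1, hy3.1.1, ?_, ?_, ?_, ?_⟩
  · intro h
    exact hy2.2 _ h ((qa_mul_eq_iff hE _ _ _).mp rfl).symm
  · intro h
    exact hy3.1.2 _ h ((qa_mul_eq_iff hE _ _ _).mp rfl).symm
  · intro h
    exact hy3.2.1 _ h ((qa_mul_eq_iff hE _ _ _).mp rfl).symm
  · intro h
    apply hy3.2.2 _ h
    have e1 : y2 * y3 = y1 * (y1 * (y2 * y3)) := (qa_mul_eq_iff hE _ _ _).mp rfl
    have e2 : y3 = y2 * (y1 * (y1 * (y2 * y3))) := (qa_mul_eq_iff hE _ _ _).mp e1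
    exact e2.symm

end basics

section counting

/-- Orbit counting for a map of prime order on an invariant finite set. -/
theorem qa_card_modEq {α : Type*} [DecidableEq α] (f : α → α) (l : ℕ) [Fact l.Prime]
    (hf : ∀ x, f^[l] x = x) (A : Finset α) (hA : ∀ x ∈ A, f x ∈ A) :
    A.card ≡ (A.filter (fun x => f x = x)).card [MOD l] := by
  classical
  let g : Function.End ↥A := fun a => ⟨f a, hA a a.2⟩
  have hit : ∀ (n : ℕ) (a : ↥A), ((g^[n] a : ↥A) : α) = f^[n] a := by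
    intro n
    induction n with
    | zero => intro a; rfl
    | succ n ih =>
      intro a
      rw [Function.iterate_succ_apply', Function.iterate_succ_apply', ← ih]
  have hg : g ^ l ^ 1 = 1 := by
    rw [pow_one]
    funext a
    apply Subtype.ext
    show ((g^[l] a : ↥A) : α) = a
    rw [hit, hf]
  have h := Equiv.Perm.card_fixedPoints_modEq (f := g) hg
  have e1 : Fintype.card ↥A = A.card := Fintype.card_coe A
  have e2 : Fintype.card ↥(Function.fixedPoints g) = (A.filter (fun x => f x = x)).card := by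
    rw [← Fintype.card_coe (A.filter (fun x => f x = x))]
    apply Fintype.card_congr
    exact
      { toFun := fun a => ⟨a.1.1, Finset.mem_filter.mpr ⟨a.1.2, congrArg Subtype.val a.2⟩⟩
        invFun := fun x => ⟨⟨x.1, (Finset.mem_filter.mp x.2).1⟩,
          Subtype.ext (Finset.mem_filter.mp x.2).2⟩
        left_inv := fun a => rfl
        right_inv := fun x => rfl }
  rw [e1, e2] at h
  exact h

theorem qa_dvd_card {α : Type*} [DecidableEq α] (f : α → α) (l : ℕ) [Fact l.Prime]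
    (hf : ∀ x, f^[l] x = x) (A : Finset α) (hA : ∀ x ∈ A, f x ∈ A)
    (hfix : ∀ x ∈ A, f x ≠ x) : l ∣ A.card := by
  have h := qa_card_modEq f l hf A hA
  have h0 : A.filter (fun x => f x = x) = ∅ := by
    apply Finset.filter_eq_empty_iff.mpr
    intro x hx
    exact hfix x hx
  rw [h0, Finset.card_empty] at h
  exact (Nat.modEq_zero_iff_dvd).mp h

end counting

section quad

variable {E T : Type*} [Group E] [Finite E] [CommGroup T] [Finite T]

theorem qa_inj (γ : E →* E) (l : ℕ) (hl : 0 < l) (hγ : ∀ x, γ^[l] x = x) :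
    Function.Injective γ := by
  intro a b hab
  have h1 : γ^[l] a = γ^[l] b := by
    have e : l = (l - 1) + 1 := by omega
    rw [e, Function.iterate_succ_apply, Function.iterate_succ_apply, hab]
  rwa [hγ, hγ] at h1

theorem qa_card_eq_succ (W : Subgroup E) (A : Finset E) (hA : ∀ y, y ∈ A ↔ y ∈ W ∧ y ≠ 1) :
    Nat.card W = A.card + 1 := by
  classical
  have h1 : Nat.card W = (W : Set E).ncard := Nat.card_coe_set_eq (W : Set E)
  have h2 : (W : Set E) = ((insert 1 A : Finset E) : Set E) := by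
    ext y
    rw [Finset.mem_coe, Finset.mem_insert, hA, SetLike.mem_coe]
    constructor
    · intro h
      by_cases hy : y = 1
      · exact Or.inl hy
      · exact Or.inr ⟨h, hy⟩
    · rintro (h | h)
      · rw [h]; exact one_mem _
      · exact h.1
  rw [h1, h2, Set.ncard_coe_finset, Finset.card_insert_of_notMem]
  rw [hA]; exact fun h => h.2 rfl

theorem qa_card_pow_two (hE : ∀ x : E, x * x = 1) (W : Subgroup E) : ∃ k : ℕ, Nat.card W = 2 ^ k := by
  have hW2 : IsPGroup 2 W := by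
    intro g
    refine ⟨1, ?_⟩
    rw [pow_one, pow_two]
    exact Subtype.ext (hE g)
  exact IsPGroup.iff_card.mp hW2

theorem qa_S_one (S : E → T) (hT : ∀ t : T, t * t = 1)
    (hB : ∀ x y z : E, S (x * (y * z)) * S x * S (y * z) =
      (S (x * y) * S x * S y) * (S (x * z) * S x * S z)) : S 1 = 1 := by
  have h := hB 1 1 1
  simp only [mul_one, hT, one_mul] at h
  exact h

theorem qa_pu (hT : ∀ t : T, t * t = 1) (hcT : Nat.card T ≤ 4) (u : T) (hu : u ≠ 1) (a b : T)
    (ha1 : a ≠ 1) (hau : a ≠ u) (hb1 : b ≠ 1) (hbu : b ≠ u) : a * b = 1 ∨ a * b = u := by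
  classical
  by_contra hcon
  push Not at hcon
  obtain ⟨h1, h2⟩ := hcon
  have hab : a ≠ b := by rintro rfl; exact h1 (hT a)
  have h3 : a * b ≠ a := by
    intro h
    exact hb1 (mul_left_cancel (a := a) (by rw [h, mul_one]))
  have h4 : a * b ≠ b := by
    intro h
    exact ha1 (mul_right_cancel (b := b) (by rw [h, one_mul]))
  have := Fintype.ofFinite T
  have e1 : ({b, a * b} : Finset T).card = 2 := Finset.card_pair (fun h => h4 h.symm)
  have e2 : ({a, b, a * b} : Finset T).card = 3 := by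
    rw [Finset.card_insert_of_notMem, e1]
    simp only [Finset.mem_insert, Finset.mem_singleton, not_or]
    exact ⟨hab, fun h => h3 h.symm⟩
  have e3 : ({u, a, b, a * b} : Finset T).card = 4 := by
    rw [Finset.card_insert_of_notMem, e2]
    simp only [Finset.mem_insert, Finset.mem_singleton, not_or]
    exact ⟨fun h => hau h.symm, fun h => hbu h.symm, fun h => h2 h.symm⟩
  have e4 : ({1, u, a, b, a * b} : Finset T).card = 5 := by
    rw [Finset.card_insert_of_notMem, e3]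
    simp only [Finset.mem_insert, Finset.mem_singleton, not_or]
    exact ⟨fun h => hu h.symm, fun h => ha1 h.symm, fun h => hb1 h.symm, fun h => h1 h.symm⟩
  have h5 : ({1, u, a, b, a * b} : Finset T).card ≤ Fintype.card T := Finset.card_le_univ _
  rw [Nat.card_eq_fintype_card] at hcT
  omega

/-- `(Y)`: no three elements all of whose seven products take values outside `{1, u}`. -/
theorem qa_no_triple (S : E → T) (hT : ∀ t : T, t * t = 1)
    (hB : ∀ x y z : E, S (x * (y * z)) * S x * S (y * z) =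
      (S (x * y) * S x * S y) * (S (x * z) * S x * S z)) (u : T)
    (hu : ∀ a b : T, a ≠ 1 → a ≠ u → b ≠ 1 → b ≠ u → a * b = 1 ∨ a * b = u)
    (y1 y2 y3 : E)
    (h : ∀ w : E, (w = y1 ∨ w = y2 ∨ w = y3 ∨ w = y1 * y2 ∨ w = y1 * y3 ∨ w = y2 * y3 ∨
      w = y1 * (y2 * y3)) → S w ≠ 1 ∧ S w ≠ u) : False := by
  have key : ∀ a b c : T, (a ≠ 1 ∧ a ≠ u) → (b ≠ 1 ∧ b ≠ u) → (c ≠ 1 ∧ c ≠ u) →
      (a * b * c ≠ 1 ∧ a * b * c ≠ u) := by
    intro a b c ha hb hc
    rcases hu a b ha.1 ha.2 hb.1 hb.2 with h1 | h1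
    · rw [h1, one_mul]; exact hc
    · rw [h1]
      constructor
      · intro h2
        apply hc.2
        have h3 : u * (u * c) = c := by rw [← mul_assoc, hT, one_mul]
        rw [← h3, h2, mul_one]
      · intro h2
        exact hc.1 (mul_left_cancel (a := u) (by rw [h2, mul_one]))
  have hX := key _ _ _ (h (y1 * y2) (Or.inr (Or.inr (Or.inr (Or.inl rfl)))))
    (h y1 (Or.inl rfl)) (h y2 (Or.inr (Or.inl rfl)))
  have hY := key _ _ _ (h (y1 * y3) (Or.inr (Or.inr (Or.inr (Or.inr (Or.inl rfl))))))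
    (h y1 (Or.inl rfl)) (h y3 (Or.inr (Or.inr (Or.inl rfl))))
  have hXY := key _ _ _ (h (y1 * (y2 * y3))
    (Or.inr (Or.inr (Or.inr (Or.inr (Or.inr (Or.inr rfl)))))))
    (h y1 (Or.inl rfl)) (h (y2 * y3) (Or.inr (Or.inr (Or.inr (Or.inr (Or.inr (Or.inl rfl)))))))
  rw [hB y1 y2 y3] at hXY
  rcases hu _ _ hX.1 hX.2 hY.1 hY.2 with h1 | h1
  · exact hXY.1 h1
  · exact hXY.2 h1

/-- `(Yc)`: `S` is not constant `u ≠ 1` on the seven products. -/
theorem qa_no_const (S : E → T) (hT : ∀ t : T, t * t = 1)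
    (hB : ∀ x y z : E, S (x * (y * z)) * S x * S (y * z) =
      (S (x * y) * S x * S y) * (S (x * z) * S x * S z)) (u : T) (hu : u ≠ 1)
    (y1 y2 y3 : E)
    (h : ∀ w : E, (w = y1 ∨ w = y2 ∨ w = y3 ∨ w = y1 * y2 ∨ w = y1 * y3 ∨ w = y2 * y3 ∨
      w = y1 * (y2 * y3)) → S w = u) : False := by
  have h0 := hB y1 y2 y3
  rw [h (y1 * (y2 * y3)) (Or.inr (Or.inr (Or.inr (Or.inr (Or.inr (Or.inr rfl)))))),
    h y1 (Or.inl rfl), h (y2 * y3) (Or.inr (Or.inr (Or.inr (Or.inr (Or.inr (Or.inl rfl)))))),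
    h (y1 * y2) (Or.inr (Or.inr (Or.inr (Or.inl rfl)))), h y2 (Or.inr (Or.inl rfl)),
    h (y1 * y3) (Or.inr (Or.inr (Or.inr (Or.inr (Or.inl rfl))))),
    h y3 (Or.inr (Or.inr (Or.inl rfl)))] at h0
  simp only [hT, one_mul] at h0
  exact hu h0

/-- The kernel of `y ↦ B(x, y)` on a subgroup `M` has index at most `4`. -/
theorem qa_ker (S : E → T) (hT : ∀ t : T, t * t = 1) (hcT : Nat.card T ≤ 4)
    (hB : ∀ x y z : E, S (x * (y * z)) * S x * S (y * z) =
      (S (x * y) * S x * S y) * (S (x * z) * S x * S z)) (x : E) (M : Subgroup E) :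
    ∃ W : Subgroup E, (∀ y, y ∈ W ↔ y ∈ M ∧ S (x * y) * S x * S y = 1) ∧
      Nat.card M ≤ 4 * Nat.card W := by
  have hS1 := qa_S_one S hT hB
  let β : ↥M →* T :=
    { toFun := fun y => S (x * (y : E)) * S x * S (y : E)
      map_one' := by
        show S (x * ((1 : ↥M) : E)) * S x * S ((1 : ↥M) : E) = 1
        rw [Subgroup.coe_one, mul_one, hT, one_mul, hS1]
      map_mul' := by
        intro a b
        show S (x * ((a * b : ↥M) : E)) * S x * S ((a * b : ↥M) : E) = _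
        rw [Subgroup.coe_mul]
        exact hB x a b }
  have hβ : ∀ y : ↥M, β y = S (x * (y : E)) * S x * S (y : E) := fun y => rfl
  refine ⟨β.ker.map M.subtype, ?_, ?_⟩
  · intro y
    rw [Subgroup.mem_map]
    constructor
    · rintro ⟨⟨z, hz⟩, hker, rfl⟩
      exact ⟨hz, by rw [MonoidHom.mem_ker, hβ] at hker; exact hker⟩
    · rintro ⟨hy, h⟩
      exact ⟨⟨y, hy⟩, by rw [MonoidHom.mem_ker, hβ]; exact h, rfl⟩
  · have h1 : Nat.card (β.ker.map M.subtype) = Nat.card β.ker :=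
      Subgroup.card_map_of_injective (Subgroup.subtype_injective M)
    have h2 : Nat.card β.ker * β.ker.index = Nat.card M := Subgroup.card_mul_index β.ker
    have h3 : β.ker.index = Nat.card β.range := Subgroup.index_ker β
    have h4 : Nat.card β.range ≤ Nat.card T := Subgroup.card_le_card_group β.range
    rw [h1, ← h2, h3]
    nlinarith [Nat.zero_le (Nat.card β.ker)]

/-- The structure of `M = {x · γ(x)}` for an automorphism `γ` of odd prime order `l` preserving
`S`: `γ` is fixed-point-free on `M ∖ 1`, `S` is anisotropic on `M`, and `|M| = 4` (`l = 3`) or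
`|M| = 16` (`l ∈ {3, 5}`). -/
theorem qa_core (S : E → T)
    (hE : ∀ x : E, x * x = 1) (hT : ∀ t : T, t * t = 1) (hcT : Nat.card T ≤ 4)
    (hB : ∀ x y z : E, S (x * (y * z)) * S x * S (y * z) =
      (S (x * y) * S x * S y) * (S (x * z) * S x * S z))
    (hZ1 : ∀ x y : E, S x = 1 → S y = 1 → x ≠ 1 → y ≠ 1 → x = y)
    (γ : E →* E) (l : ℕ) (hl : l.Prime) (hl2 : l ≠ 2) (hγ : ∀ x, γ^[l] x = x)
    (hγ1 : ∃ x, γ x ≠ x) (hS : ∀ x, S (γ x) = S x) :
    ∃ μ : E →* E, (∀ x, μ x = x * γ x) ∧ (∀ y ∈ μ.range, γ y ∈ μ.range) ∧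
      (∀ y ∈ μ.range, γ y = y → y = 1) ∧ (∀ y ∈ μ.range, y ≠ 1 → S y ≠ 1) ∧
      ((Nat.card μ.range = 4 ∧ l = 3) ∨ (Nat.card μ.range = 16 ∧ (l = 3 ∨ l = 5))) := by
  classical
  have hlF : Fact l.Prime := ⟨hl⟩
  have hcomm := qa_comm hE
  have hS1 := qa_S_one S hT hB
  have hinj : Function.Injective γ := qa_inj γ l hl.pos hγ
  have hzero : ∀ x, x ≠ 1 → S x = 1 → γ x = x := by
    intro x hx hSx
    apply hZ1 _ _ (by rw [hS]; exact hSx) hSx _ hx
    intro h
    apply hx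
    apply hinj
    rw [h, map_one]
  let μ : E →* E :=
    { toFun := fun x => x * γ x
      map_one' := by simp
      map_mul' := by
        intro x y
        show x * y * γ (x * y) = x * γ x * (y * γ y)
        rw [map_mul]
        calc x * y * (γ x * γ y) = x * (y * γ x) * γ y := by group
          _ = x * (γ x * y) * γ y := by rw [hcomm y (γ x)]
          _ = x * γ x * (y * γ y) := by group }
  have hμ : ∀ x, μ x = x * γ x := fun x => rfl
  have hMγ : ∀ y ∈ μ.range, γ y ∈ μ.range := by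
    rintro _ ⟨x, rfl⟩
    exact ⟨γ x, by rw [hμ, hμ, map_mul]⟩
  have hMfix : ∀ y ∈ μ.range, γ y = y → y = 1 := by
    rintro _ ⟨x, rfl⟩ hfix
    rw [hμ] at hfix ⊢
    obtain ⟨t, ht⟩ : ∃ t, t = x * γ x := ⟨_, rfl⟩
    rw [← ht] at hfix ⊢
    have hγx : γ x = x * t := by rw [ht, qa_mul_cancel hE]
    have hk : ∀ k : ℕ, γ^[k] x = x * t ^ k := by
      intro k
      induction k with
      | zero => simp
      | succ k ih =>
        rw [Function.iterate_succ_apply', ih, map_mul, map_pow, hfix, hγx, pow_succ', mul_assoc]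
    have h1 : x * t ^ l = x := by rw [← hk, hγ]
    have h2 : t ^ l = 1 := mul_left_cancel (a := x) (by rw [h1, mul_one])
    have h3 : t ^ 2 = 1 := by rw [pow_two]; exact hE t
    obtain ⟨j, hj⟩ : ∃ j, l = 2 * j + 1 := by
      rcases hl.eq_two_or_odd with h | h
      · exact absurd h hl2
      · exact ⟨l / 2, by omega⟩
    rw [hj, pow_succ, pow_mul, h3, one_pow, one_mul] at h2
    exact h2
  have hMan : ∀ y ∈ μ.range, y ≠ 1 → S y ≠ 1 := by
    intro y hy hy1 hSy
    exact hy1 (hMfix y hy (hzero y hy1 hSy))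
  refine ⟨μ, hμ, hMγ, hMfix, hMan, ?_⟩
  have hfin := Fintype.ofFinite E
  obtain ⟨A, hA⟩ : ∃ A : Finset E, A = Finset.univ.filter (fun y => y ∈ μ.range ∧ y ≠ 1) :=
    ⟨_, rfl⟩
  have hAmem : ∀ y, y ∈ A ↔ y ∈ μ.range ∧ y ≠ 1 := by
    intro y; rw [hA, Finset.mem_filter]; simp
  have hAγ : ∀ y ∈ A, γ y ∈ A := by
    intro y hy
    rw [hAmem] at hy ⊢
    exact ⟨hMγ y hy.1, fun h => hy.2 (hinj (by rw [h, map_one]))⟩
  have hAfix : ∀ y ∈ A, γ y ≠ y := by
    intro y hy h
    rw [hAmem] at hy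
    exact hy.2 (hMfix y hy.1 h)
  have hdvd : l ∣ A.card := qa_dvd_card γ l hγ A hAγ hAfix
  have hcardM : Nat.card μ.range = A.card + 1 := qa_card_eq_succ μ.range A hAmem
  obtain ⟨m, hm⟩ := qa_card_pow_two hE μ.range
  obtain ⟨x₀, hx₀⟩ := hγ1
  have hx₀A : x₀ * γ x₀ ∈ A := by
    rw [hAmem]
    refine ⟨⟨x₀, rfl⟩, fun h => hx₀ ?_⟩
    have h1 := (qa_mul_eq_iff hE _ _ _).mp h
    rw [h1, mul_one]
  -- `(X)`: `|M| ≤ 32`
  have hle32 : Nat.card μ.range ≤ 32 := by
    by_contra hgt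
    push Not at hgt
    obtain ⟨x, hxA⟩ : ∃ x, x ∈ A := ⟨_, hx₀A⟩
    rw [hAmem] at hxA
    obtain ⟨hxM, hx1⟩ := hxA
    have hu1 : S x ≠ 1 := hMan x hxM hx1
    obtain ⟨W, hWmem, hWcard⟩ := qa_ker S hT hcT hB x μ.range
    obtain ⟨y1, hy1, y2, hy2, y3, hy3, g1, g2, g3, g12, g13, g23, g123⟩ :=
      qa_exists_triple hE W {1, x} (by
        have : ({1, x} : Finset E).card ≤ 2 := Finset.card_le_two
        omega)
    have hval : ∀ w ∈ W, w ∉ ({1, x} : Finset E) → S w ≠ 1 ∧ S w ≠ S x := by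
      intro w hw hwF
      simp only [Finset.mem_insert, Finset.mem_singleton, not_or] at hwF
      rw [hWmem] at hw
      obtain ⟨hwM, hwβ⟩ := hw
      have h1 : S w ≠ 1 := hMan w hwM hwF.1
      refine ⟨h1, fun h2 => ?_⟩
      rw [h2, mul_assoc, hT, mul_one] at hwβ
      have h3 : x * w ∈ μ.range := mul_mem hxM hwM
      have h4 : x * w ≠ 1 := by
        intro h5
        apply hwF.2
        have h6 := (qa_mul_eq_iff hE _ _ _).mp h5
        rw [h6, mul_one]
      exact hMan _ h3 h4 hwβ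
    apply qa_no_triple S hT hB (S x) (fun a b => qa_pu hT hcT (S x) hu1 a b) y1 y2 y3
    rintro w (rfl | rfl | rfl | rfl | rfl | rfl | rfl)
    · exact hval _ hy1 g1
    · exact hval _ hy2 g2
    · exact hval _ hy3 g3
    · exact hval _ (mul_mem hy1 hy2) g12
    · exact hval _ (mul_mem hy1 hy3) g13
    · exact hval _ (mul_mem hy2 hy3) g23
    · exact hval _ (mul_mem hy1 (mul_mem hy2 hy3)) g123
  -- `(Tr)`
  have htr : l = A.card → 8 ≤ Nat.card μ.range → False := by
    intro hlA h8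
    obtain ⟨x, hxA⟩ : ∃ x, x ∈ A := ⟨_, hx₀A⟩
    have hxA' := (hAmem x).mp hxA
    have hu1 : S x ≠ 1 := hMan x hxA'.1 hxA'.2
    obtain ⟨Fx, hFx⟩ : ∃ Fx : Finset E, Fx = A.filter (fun y => S y = S x) := ⟨_, rfl⟩
    have hFγ : ∀ y ∈ Fx, γ y ∈ Fx := by
      intro y hy
      rw [hFx, Finset.mem_filter] at hy ⊢
      exact ⟨hAγ y hy.1, by rw [hS]; exact hy.2⟩
    have hFfix : ∀ y ∈ Fx, γ y ≠ y := by
      intro y hy
      rw [hFx, Finset.mem_filter] at hy
      exact hAfix y hy.1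
    have hd := qa_dvd_card γ l hγ Fx hFγ hFfix
    have hxF : x ∈ Fx := by rw [hFx, Finset.mem_filter]; exact ⟨hxA, rfl⟩
    have hpos : 0 < Fx.card := Finset.card_pos.mpr ⟨x, hxF⟩
    have hge : l ≤ Fx.card := Nat.le_of_dvd hpos hd
    have hsub : Fx ⊆ A := by rw [hFx]; exact Finset.filter_subset _ _
    have heq : Fx = A := Finset.eq_of_subset_of_card_le hsub (by rw [← hlA]; exact hge)
    have hconst : ∀ y ∈ μ.range, y ≠ 1 → S y = S x := by
      intro y hy hy1
      have h1 : y ∈ Fx := by rw [heq, hAmem]; exact ⟨hy, hy1⟩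
      rw [hFx, Finset.mem_filter] at h1
      exact h1.2
    obtain ⟨y1, hy1, y2, hy2, y3, hy3, g1, g2, g3, g12, g13, g23, g123⟩ :=
      qa_exists_triple hE μ.range {1} (by rw [Finset.card_singleton]; omega)
    simp only [Finset.mem_singleton] at g1 g2 g3 g12 g13 g23 g123
    apply qa_no_const S hT hB (S x) hu1 y1 y2 y3
    rintro w (rfl | rfl | rfl | rfl | rfl | rfl | rfl)
    · exact hconst _ hy1 g1
    · exact hconst _ hy2 g2
    · exact hconst _ hy3 g3
    · exact hconst _ (mul_mem hy1 hy2) g12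
    · exact hconst _ (mul_mem hy1 hy3) g13
    · exact hconst _ (mul_mem hy2 hy3) g23
    · exact hconst _ (mul_mem hy1 (mul_mem hy2 hy3)) g123
  have hm5 : m ≤ 5 := by
    by_contra h
    push Not at h
    have h1 : 2 ^ 6 ≤ 2 ^ m := Nat.pow_le_pow_right (by norm_num) h
    rw [hm] at hle32
    omega
  have hApos : 0 < A.card := Finset.card_pos.mpr ⟨_, hx₀A⟩
  rw [hm] at hcardM
  interval_cases m
  · rw [pow_zero] at hcardM
    omega
  · norm_num at hcardM
    have h1 : A.card = 1 := by omega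
    rw [h1] at hdvd
    exact absurd (Nat.dvd_one.mp hdvd) hl.one_lt.ne'
  · norm_num at hcardM
    have h1 : A.card = 3 := by omega
    rw [h1] at hdvd
    left
    exact ⟨by rw [hm]; norm_num, (Nat.prime_dvd_prime_iff_eq hl (by norm_num)).mp hdvd⟩
  · norm_num at hcardM
    have h1 : A.card = 7 := by omega
    exfalso
    rw [h1] at hdvd
    have h2 : l = 7 := (Nat.prime_dvd_prime_iff_eq hl (by norm_num)).mp hdvd
    exact htr (by rw [h1, h2]) (by rw [hm]; norm_num)
  · norm_num at hcardM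
    have h1 : A.card = 15 := by omega
    rw [h1] at hdvd
    right
    refine ⟨by rw [hm]; norm_num, ?_⟩
    have h2 : l ∣ 3 * 5 := hdvd
    rcases (Nat.Prime.dvd_mul hl).mp h2 with h3 | h3
    · exact Or.inl ((Nat.prime_dvd_prime_iff_eq hl (by norm_num)).mp h3)
    · exact Or.inr ((Nat.prime_dvd_prime_iff_eq hl (by norm_num)).mp h3)
  · norm_num at hcardM
    have h1 : A.card = 31 := by omega
    exfalso
    rw [h1] at hdvd
    have h2 : l = 31 := (Nat.prime_dvd_prime_iff_eq hl (by norm_num)).mp hdvd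
    exact htr (by rw [h1, h2]) (by rw [hm]; norm_num)

/-- An automorphism of odd prime order preserving `S` has order `3` or `5`. -/
theorem quad_aut_prime {E T : Type*} [Group E] [Finite E] [CommGroup T] [Finite T] (S : E → T)
    (hE : ∀ x : E, x * x = 1) (hT : ∀ t : T, t * t = 1) (hcT : Nat.card T ≤ 4)
    (hB : ∀ x y z : E, S (x * (y * z)) * S x * S (y * z) =
      (S (x * y) * S x * S y) * (S (x * z) * S x * S z))
    (hZ1 : ∀ x y : E, S x = 1 → S y = 1 → x ≠ 1 → y ≠ 1 → x = y)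
    (γ : E →* E) (l : ℕ) (hl : l.Prime) (hl2 : l ≠ 2) (hγ : ∀ x, γ^[l] x = x)
    (hγ1 : ∃ x, γ x ≠ x) (hS : ∀ x, S (γ x) = S x) : l = 3 ∨ l = 5 := by
  obtain ⟨μ, -, -, -, -, h⟩ := qa_core S hE hT hcT hB hZ1 γ l hl hl2 hγ hγ1 hS
  rcases h with ⟨-, h⟩ | ⟨-, h⟩
  · exact Or.inl h
  · exact h

theorem qa_three_disjoint {α : Type*} [DecidableEq α] (A B C D : Finset α) (hA : A ⊆ D)
    (hB : B ⊆ D) (hC : C ⊆ D) (hAB : Disjoint A B) (hAC : Disjoint A C) (hBC : Disjoint B C) :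
    A.card + B.card + C.card ≤ D.card := by
  have h1 : (A ∪ B ∪ C).card = A.card + B.card + C.card := by
    rw [Finset.card_union_of_disjoint (Finset.disjoint_union_left.mpr ⟨hAC, hBC⟩),
      Finset.card_union_of_disjoint hAB]
  rw [← h1]
  exact Finset.card_le_card (Finset.union_subset (Finset.union_subset hA hB) hC)

/-- Automorphisms of order `3` and `5` preserving `S` cannot both exist. -/
theorem quad_aut_not_both {E T : Type*} [Group E] [Finite E] [CommGroup T] [Finite T] (S : E → T)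
    (hE : ∀ x : E, x * x = 1) (hT : ∀ t : T, t * t = 1) (hcT : Nat.card T ≤ 4)
    (hB : ∀ x y z : E, S (x * (y * z)) * S x * S (y * z) =
      (S (x * y) * S x * S y) * (S (x * z) * S x * S z))
    (hZ1 : ∀ x y : E, S x = 1 → S y = 1 → x ≠ 1 → y ≠ 1 → x = y)
    (hZ0 : (∃ x : E, x ≠ 1 ∧ S x = 1) → ∀ a b : T, a ≠ 1 → b ≠ 1 → a = b)
    (γ₃ γ₅ : E →* E) (h3 : ∀ x, γ₃^[3] x = x) (h5 : ∀ x, γ₅^[5] x = x) (h31 : ∃ x, γ₃ x ≠ x)
    (h51 : ∃ x, γ₅ x ≠ x) (hS3 : ∀ x, S (γ₃ x) = S x) (hS5 : ∀ x, S (γ₅ x) = S x) : False := by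
  classical
  have hp3 : Fact (Nat.Prime 3) := ⟨by norm_num⟩
  have hp5 : Fact (Nat.Prime 5) := ⟨by norm_num⟩
  obtain ⟨μ3, hμ3, -, -, -, hM3card⟩ :=
    qa_core S hE hT hcT hB hZ1 γ₃ 3 (by norm_num) (by norm_num) h3 h31 hS3
  obtain ⟨μ5, hμ5, hM5γ, hM5fix, hM5an, hM5card⟩ :=
    qa_core S hE hT hcT hB hZ1 γ₅ 5 (by norm_num) (by norm_num) h5 h51 hS5
  have hM5 : Nat.card μ5.range = 16 := by
    rcases hM5card with ⟨-, h⟩ | ⟨h, -⟩
    · norm_num at h
    · exact h
  have hM3 : 4 ≤ Nat.card μ3.range := by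
    rcases hM3card with ⟨h, -⟩ | ⟨h, -⟩ <;> omega
  have hinj3 : Function.Injective γ₃ := qa_inj γ₃ 3 (by norm_num) h3
  have hinj5 : Function.Injective γ₅ := qa_inj γ₅ 5 (by norm_num) h5
  -- a triple in `M5`
  obtain ⟨y1, hy1, y2, hy2, y3, hy3, g1, g2, g3, g12, g13, g23, g123⟩ :=
    qa_exists_triple hE μ5.range {1} (by rw [Finset.card_singleton, hM5]; norm_num)
  simp only [Finset.mem_singleton] at g1 g2 g3 g12 g13 g23 g123
  have htrip : ∀ w : E, (w = y1 ∨ w = y2 ∨ w = y3 ∨ w = y1 * y2 ∨ w = y1 * y3 ∨ w = y2 * y3 ∨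
      w = y1 * (y2 * y3)) → w ∈ μ5.range ∧ w ≠ 1 := by
    rintro w (rfl | rfl | rfl | rfl | rfl | rfl | rfl)
    · exact ⟨hy1, g1⟩
    · exact ⟨hy2, g2⟩
    · exact ⟨hy3, g3⟩
    · exact ⟨mul_mem hy1 hy2, g12⟩
    · exact ⟨mul_mem hy1 hy3, g13⟩
    · exact ⟨mul_mem hy2 hy3, g23⟩
    · exact ⟨mul_mem hy1 (mul_mem hy2 hy3), g123⟩
  -- `T` has two distinct nontrivial elements
  have hT2 : ∃ a b : T, a ≠ 1 ∧ b ≠ 1 ∧ a ≠ b := by
    by_contra hcon
    push Not at hcon
    apply qa_no_triple S hT hB 1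
      (fun a b ha _ hb _ => Or.inl (by rw [hcon a b ha hb]; exact hT b)) y1 y2 y3
    intro w hw
    have h1 := htrip w hw
    exact ⟨hM5an w h1.1 h1.2, hM5an w h1.1 h1.2⟩
  obtain ⟨a, b, ha1, hb1, hab⟩ := hT2
  -- `S` is anisotropic on `E`
  have han : ∀ x : E, x ≠ 1 → S x ≠ 1 := by
    intro x hx hSx
    exact hab (hZ0 ⟨x, hx, hSx⟩ a b ha1 hb1)
  -- every nontrivial value is taken on `M5 ∖ 1`
  have hval : ∀ u : T, u ≠ 1 → ∃ y ∈ μ5.range, y ≠ 1 ∧ S y = u := by
    intro u hu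
    by_contra hcon
    push Not at hcon
    apply qa_no_triple S hT hB u (fun a b => qa_pu hT hcT u hu a b) y1 y2 y3
    intro w hw
    have h1 := htrip w hw
    exact ⟨hM5an w h1.1 h1.2, hcon w h1.1 h1.2⟩
  have hfin := Fintype.ofFinite E
  -- `γ₅` has no nontrivial fixed point
  have hfix5 : ∀ f : E, γ₅ f = f → f = 1 := by
    intro f hf
    by_contra hf1
    have hSf : S f ≠ 1 := han f hf1
    obtain ⟨W, hWmem, hWcard⟩ := qa_ker S hT hcT hB f μ5.range
    have hWle : W ≤ μ5.range := fun y hy => ((hWmem y).mp hy).1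
    obtain ⟨A, hA⟩ : ∃ A : Finset E, A = Finset.univ.filter (fun y => y ∈ W ∧ y ≠ 1) := ⟨_, rfl⟩
    have hAmem : ∀ y, y ∈ A ↔ y ∈ W ∧ y ≠ 1 := by
      intro y; rw [hA, Finset.mem_filter]; simp
    have hAγ : ∀ y ∈ A, γ₅ y ∈ A := by
      intro y hy
      rw [hAmem] at hy ⊢
      refine ⟨?_, fun h => hy.2 (hinj5 (by rw [h, map_one]))⟩
      rw [hWmem] at hy ⊢
      refine ⟨hM5γ y hy.1.1, ?_⟩
      have e : f * γ₅ y = γ₅ (f * y) := by rw [map_mul, hf]
      rw [e, hS5, hS5]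
      exact hy.1.2
    have hAfix : ∀ y ∈ A, γ₅ y ≠ y := by
      intro y hy h
      rw [hAmem] at hy
      exact hy.2 (hM5fix y (hWle hy.1) h)
    have hdvd : 5 ∣ A.card := qa_dvd_card γ₅ 5 h5 A hAγ hAfix
    have hcardW : Nat.card W = A.card + 1 := qa_card_eq_succ W A hAmem
    obtain ⟨k, hk⟩ := qa_card_pow_two hE W
    have hWle16 : Nat.card W ≤ 16 := by
      rw [← hM5]; exact Subgroup.card_le_of_le hWle
    have hW16 : Nat.card W = 16 := by
      rw [hM5] at hWcard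
      rw [hk] at hcardW hWcard hWle16 ⊢
      have hk4 : k ≤ 4 := by
        by_contra h
        push Not at h
        have h1 : 2 ^ 5 ≤ 2 ^ k := Nat.pow_le_pow_right (by norm_num) h
        omega
      interval_cases k
      · norm_num at hWcard
      · norm_num at hWcard
      · norm_num at hcardW
        omega
      · norm_num at hcardW
        omega
      · norm_num
    have hWeq : W = μ5.range := Subgroup.eq_of_le_of_card_ge hWle (by rw [hW16, hM5])
    obtain ⟨y, hyM, hy1', hSy⟩ := hval (S f) hSf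
    have hyW : y ∈ W := by rw [hWeq]; exact hyM
    have h1 := ((hWmem y).mp hyW).2
    rw [hSy, mul_assoc, hT, mul_one] at h1
    have h2 : f * y = 1 := by
      by_contra h
      exact han _ h h1
    have h3 : y = f := by
      have h4 := (qa_mul_eq_iff hE _ _ _).mp h2
      rw [h4, mul_one]
    rw [h3] at hyM
    exact hf1 (hM5fix f hyM hf)
  -- `|E| = 16`
  have hμ5inj : Function.Injective μ5 := by
    rw [injective_iff_map_eq_one]
    intro x hx
    rw [hμ5] at hx
    apply hfix5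
    have h1 := (qa_mul_eq_iff hE _ _ _).mp hx
    rw [h1, mul_one]
  have hE16 : Nat.card E = 16 := by
    rw [← hM5]
    exact Nat.card_congr (MonoidHom.ofInjective hμ5inj).toEquiv
  -- the fixed points of `γ₃`
  have hker3 : Nat.card μ3.ker ≤ 4 := by
    have h2 : Nat.card μ3.ker * μ3.ker.index = Nat.card E := Subgroup.card_mul_index μ3.ker
    have h3' : μ3.ker.index = Nat.card μ3.range := Subgroup.index_ker μ3
    rw [h3', hE16] at h2
    nlinarith
  have hker3mem : ∀ x, x ∈ μ3.ker ↔ γ₃ x = x := by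
    intro x
    rw [MonoidHom.mem_ker, hμ3]
    constructor
    · intro h
      have h1 := (qa_mul_eq_iff hE _ _ _).mp h
      rw [h1, mul_one]
    · intro h; rw [h]; exact hE x
  obtain ⟨Fix, hFix⟩ : ∃ Fix : Finset E, Fix = Finset.univ.filter (fun y => γ₃ y = y ∧ y ≠ 1) :=
    ⟨_, rfl⟩
  have hFixmem : ∀ y, y ∈ Fix ↔ y ∈ μ3.ker ∧ y ≠ 1 := by
    intro y; rw [hFix, Finset.mem_filter, hker3mem]; simp
  have hFixcard : Nat.card μ3.ker = Fix.card + 1 := qa_card_eq_succ μ3.ker Fix hFixmem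
  -- the fibres
  obtain ⟨Ne, hNe⟩ : ∃ Ne : Finset E, Ne = Finset.univ.filter (fun y => y ≠ 1) := ⟨_, rfl⟩
  have hNecard : Ne.card = 15 := by
    have h1 := qa_card_eq_succ (⊤ : Subgroup E) Ne (by
      intro y; rw [hNe, Finset.mem_filter]; simp)
    rw [Subgroup.card_top, hE16] at h1
    omega
  have hfib : ∀ u : T, u ≠ 1 → ∃ Au : Finset E, (∀ y, y ∈ Au ↔ y ≠ 1 ∧ S y = u) ∧
      5 ≤ Au.card ∧ 5 ∣ Au.card ∧
      (Au.card = 5 → 2 ≤ (Au.filter (fun y => γ₃ y = y)).card) := by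
    intro u hu
    have hmem : ∀ y, y ∈ Finset.univ.filter (fun y : E => y ≠ 1 ∧ S y = u) ↔ y ≠ 1 ∧ S y = u := by
      intro y; rw [Finset.mem_filter]; simp
    have hd5 : 5 ∣ (Finset.univ.filter (fun y : E => y ≠ 1 ∧ S y = u)).card := by
      apply qa_dvd_card γ₅ 5 h5
      · intro y hy
        rw [hmem] at hy ⊢
        exact ⟨fun h => hy.1 (hinj5 (by rw [h, map_one])), by rw [hS5]; exact hy.2⟩
      · intro y hy h
        rw [hmem] at hy
        exact hy.1 (hfix5 y h)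
    obtain ⟨y, -, hy1', hSy⟩ := hval u hu
    have hpos : 0 < (Finset.univ.filter (fun y : E => y ≠ 1 ∧ S y = u)).card :=
      Finset.card_pos.mpr ⟨y, (hmem y).mpr ⟨hy1', hSy⟩⟩
    refine ⟨_, hmem, Nat.le_of_dvd hpos hd5, hd5, ?_⟩
    intro hc5
    have hmod := qa_card_modEq γ₃ 3 h3 (Finset.univ.filter (fun y : E => y ≠ 1 ∧ S y = u)) (by
      intro y hy
      rw [hmem] at hy ⊢
      exact ⟨fun h => hy.1 (hinj3 (by rw [h, map_one])), by rw [hS3]; exact hy.2⟩)
    rw [hc5] at hmod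
    have hle := Finset.card_filter_le (Finset.univ.filter (fun y : E => y ≠ 1 ∧ S y = u))
      (fun y => γ₃ y = y)
    rw [hc5] at hle
    unfold Nat.ModEq at hmod
    omega
  have hab1 : a * b ≠ 1 := by
    intro h
    apply hab
    have h1 : a * (a * b) = b := by rw [← mul_assoc, hT, one_mul]
    rw [← h1, h, mul_one]
  have haba : a * b ≠ a := fun h => hb1 (mul_left_cancel (a := a) (by rw [h, mul_one]))
  have habb : a * b ≠ b := fun h => ha1 (mul_right_cancel (b := b) (by rw [h, one_mul]))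
  obtain ⟨Aa, hAa, hAa5, hAad, hAaf⟩ := hfib a ha1
  obtain ⟨Ab, hAb, hAb5, hAbd, hAbf⟩ := hfib b hb1
  obtain ⟨Ac, hAc, hAc5, hAcd, hAcf⟩ := hfib (a * b) hab1
  have hdisj : ∀ (u v : T) (Au Av : Finset E), u ≠ v → (∀ y, y ∈ Au ↔ y ≠ 1 ∧ S y = u) →
      (∀ y, y ∈ Av ↔ y ≠ 1 ∧ S y = v) → Disjoint Au Av := by
    intro u v Au Av huv hAu hAv
    rw [Finset.disjoint_left]
    intro y hy hy'
    rw [hAu] at hy
    rw [hAv] at hy'
    exact huv (hy.2.symm.trans hy'.2)
  have hsubNe : ∀ (u : T) (Au : Finset E), (∀ y, y ∈ Au ↔ y ≠ 1 ∧ S y = u) → Au ⊆ Ne := by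
    intro u Au hAu y hy
    rw [hNe, Finset.mem_filter]
    exact ⟨Finset.mem_univ _, ((hAu y).mp hy).1⟩
  have hsum := qa_three_disjoint Aa Ab Ac Ne (hsubNe a Aa hAa) (hsubNe b Ab hAb)
    (hsubNe _ Ac hAc) (hdisj a b Aa Ab hab hAa hAb) (hdisj a (a * b) Aa Ac (fun h => haba h.symm) hAa hAc)
    (hdisj b (a * b) Ab Ac (fun h => habb h.symm) hAb hAc)
  rw [hNecard] at hsum
  have hca : Aa.card = 5 := by
    obtain ⟨k1, hk1⟩ := hAad; obtain ⟨k2, hk2⟩ := hAbd; obtain ⟨k3, hk3⟩ := hAcd; omega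
  have hcb : Ab.card = 5 := by
    obtain ⟨k1, hk1⟩ := hAad; obtain ⟨k2, hk2⟩ := hAbd; obtain ⟨k3, hk3⟩ := hAcd; omega
  have hcc : Ac.card = 5 := by
    obtain ⟨k1, hk1⟩ := hAad; obtain ⟨k2, hk2⟩ := hAbd; obtain ⟨k3, hk3⟩ := hAcd; omega
  have hfa := hAaf hca
  have hfb := hAbf hcb
  have hfc := hAcf hcc
  have hsubFix : ∀ (u : T) (Au : Finset E), (∀ y, y ∈ Au ↔ y ≠ 1 ∧ S y = u) →
      Au.filter (fun y => γ₃ y = y) ⊆ Fix := by
    intro u Au hAu y hy
    rw [Finset.mem_filter] at hy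
    rw [hFix, Finset.mem_filter]
    exact ⟨Finset.mem_univ _, hy.2, ((hAu y).mp hy.1).1⟩
  have hdisj' : ∀ (Au Av : Finset E), Disjoint Au Av →
      Disjoint (Au.filter (fun y => γ₃ y = y)) (Av.filter (fun y => γ₃ y = y)) := by
    intro Au Av h
    exact Finset.disjoint_of_subset_left (Finset.filter_subset _ _)
      (Finset.disjoint_of_subset_right (Finset.filter_subset _ _) h)
  have hsum2 := qa_three_disjoint _ _ _ Fix (hsubFix a Aa hAa) (hsubFix b Ab hAb)
    (hsubFix _ Ac hAc) (hdisj' _ _ (hdisj a b Aa Ab hab hAa hAb))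
    (hdisj' _ _ (hdisj a (a * b) Aa Ac (fun h => haba h.symm) hAa hAc))
    (hdisj' _ _ (hdisj b (a * b) Ab Ac (fun h => habb h.symm) hAb hAc))
  omega

end quad

end Cfsg.Agent.Lib.helper40
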