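import Mathlib
import Cfsg.Agent.Lib.helper37.S3390Defs

/-! S3390 split (helper37), piece A2: `card_centralizer_of_card_two`. -/

set_option autoImplicit false

namespace Cfsg.Agent.Lib.helper40.S3390A2

open Cfsg.Agent.Lib.helper37.S3390

variable {G : Type*} [Group G] [Finite G] {Ω : Type*} [MulAction G Ω]

/-- PIECE A2: if `T = S ∩ G_α` has order 2 (and `S ≰ G_α`), its involution has centralizer of
order 4 in `S`. -/
theorem card_centralizer_of_card_two
    (h3 : ∀ g : G, ∀ a b c : Ω, a ≠ b → a ≠ c → b ≠ c → g • a = a → g • b = b → g • c = c → g = 1)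
    (S : Subgroup G) (hS : IsPGroup 2 S) (α : Ω) (h4 : ¬ S ≤ MulAction.stabilizer G α)
    (hT2 : Nat.card ↥(S ⊓ MulAction.stabilizer G α) = 2) :
    ∃ u : ↥S, orderOf u = 2 ∧ Nat.card ↥(Subgroup.centralizer ({u} : Set ↥S)) = 4 := by
  classical
  have : Fact (Nat.Prime 2) := ⟨Nat.prime_two⟩
  have h1 : S ⊓ MulAction.stabilizer G α ≠ ⊥ := by
    intro h
    rw [h] at hT2
    simp at hT2
  obtain ⟨n, hnS, hnα, hnT, hfixT, hTn⟩ := exists_swap h3 S hS α h1 h4
  obtain ⟨t₀, ht₀1, ht₀u⟩ :=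
    (Nat.card_eq_two_iff' (1 : ↥(S ⊓ MulAction.stabilizer G α))).mp hT2
  have htS : (t₀ : G) ∈ S := t₀.2.1
  have htα : (t₀ : G) • α = α := t₀.2.2
  have ht1 : (t₀ : G) ≠ 1 := fun h => ht₀1 (Subtype.ext h)
  have hT : ∀ x ∈ S ⊓ MulAction.stabilizer G α, x = 1 ∨ x = (t₀ : G) := by
    intro x hx
    by_cases hx1 : x = 1
    · exact Or.inl hx1
    · right
      have := ht₀u ⟨x, hx⟩ (fun h => hx1 (congrArg Subtype.val h))
      exact congrArg Subtype.val this
  have htt : (t₀ : G) * (t₀ : G) = 1 := by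
    rcases hT _ (mul_mem t₀.2 t₀.2) with h | h
    · exact h
    · exfalso
      apply ht1
      have : (t₀ : G) * (t₀ : G) = (t₀ : G) * 1 := by rw [mul_one]; exact h
      exact mul_left_cancel this
  have hnt : n * (t₀ : G) = (t₀ : G) * n := by
    rcases hT _ (hnT _ t₀.2) with h | h
    · exfalso
      apply ht1
      have e : (t₀ : G) = n⁻¹ * (n * (t₀ : G) * n⁻¹) * n := by group
      rw [e, h]; group
    · calc n * (t₀ : G) = (n * (t₀ : G) * n⁻¹) * n := by group
        _ = (t₀ : G) * n := by rw [h]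
  refine ⟨⟨(t₀ : G), htS⟩, ?_, ?_⟩
  · apply orderOf_eq_prime
    · apply Subtype.ext
      simp [pow_two, htt]
    · intro h
      exact ht1 (congrArg Subtype.val h)
  · have memC : ∀ m : ↥S, m ∈ Subgroup.centralizer ({(⟨(t₀ : G), htS⟩ : ↥S)} : Set ↥S) ↔
        (m : G) * (t₀ : G) = (t₀ : G) * (m : G) := by
      intro m
      rw [Subgroup.mem_centralizer_iff]
      constructor
      · intro h
        have h5 := h ⟨(t₀ : G), htS⟩ (Set.mem_singleton _)
        have h6 := congrArg Subtype.val h5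
        simpa using h6.symm
      · intro h x hx
        rw [Set.mem_singleton_iff] at hx
        rw [hx]
        apply Subtype.ext
        simpa using h.symm
    -- elements of the centralizer send `α` into `{α, n • α}`
    have F1 : ∀ m : ↥S, m ∈ Subgroup.centralizer ({(⟨(t₀ : G), htS⟩ : ↥S)} : Set ↥S) →
        (m : G) • α = α ∨ (m : G) • α = n • α := by
      intro m hm
      apply hfixT
      intro t ht
      rcases hT t ht with h | h
      · rw [h, one_smul]
      · rw [h, ← mul_smul, ← (memC m).mp hm, mul_smul, htα]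
    have hTC : (S ⊓ MulAction.stabilizer G α).subgroupOf S ≤
        Subgroup.centralizer ({(⟨(t₀ : G), htS⟩ : ↥S)} : Set ↥S) := by
      intro x hx
      rw [memC]
      rcases hT _ (Subgroup.mem_subgroupOf.mp hx) with h | h
      · rw [h, one_mul, mul_one]
      · rw [h]
    have hnC : (⟨n, hnS⟩ : ↥S) ∈ Subgroup.centralizer ({(⟨(t₀ : G), htS⟩ : ↥S)} : Set ↥S) :=
      (memC _).mpr hnt
    have hcardD : Nat.card ↥(((S ⊓ MulAction.stabilizer G α).subgroupOf S).subgroupOf
        (Subgroup.centralizer ({(⟨(t₀ : G), htS⟩ : ↥S)} : Set ↥S))) = 2 := by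
      rw [Nat.card_congr (Subgroup.subgroupOfEquivOfLe hTC).toEquiv,
        Nat.card_congr (Subgroup.subgroupOfEquivOfLe
          (inf_le_left : S ⊓ MulAction.stabilizer G α ≤ S)).toEquiv, hT2]
    have hmemD : ∀ b : ↥(Subgroup.centralizer ({(⟨(t₀ : G), htS⟩ : ↥S)} : Set ↥S)),
        b ∈ ((S ⊓ MulAction.stabilizer G α).subgroupOf S).subgroupOf
          (Subgroup.centralizer ({(⟨(t₀ : G), htS⟩ : ↥S)} : Set ↥S)) ↔
        (((b : ↥S) : G)) • α = α := by
      intro b
      rw [Subgroup.mem_subgroupOf, Subgroup.mem_subgroupOf]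
      constructor
      · intro h; exact h.2
      · intro h; exact ⟨(b : ↥S).2, h⟩
    have hidxD : (((S ⊓ MulAction.stabilizer G α).subgroupOf S).subgroupOf
        (Subgroup.centralizer ({(⟨(t₀ : G), htS⟩ : ↥S)} : Set ↥S))).index = 2 := by
      rw [Subgroup.index_eq_two_iff]
      refine ⟨⟨⟨n, hnS⟩, hnC⟩, fun b => ?_⟩
      rw [hmemD, hmemD]
      have hbn : (((b * ⟨⟨n, hnS⟩, hnC⟩ :
          ↥(Subgroup.centralizer ({(⟨(t₀ : G), htS⟩ : ↥S)} : Set ↥S))) : ↥S) : G) =
          ((b : ↥S) : G) * n := rfl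
      rw [hbn]
      rcases F1 (b : ↥S) b.2 with hb | hb
      · refine Or.inr ⟨hb, ?_⟩
        intro h5
        rw [mul_smul, hTn _ ⟨(b : ↥S).2, hb⟩] at h5
        exact hnα h5
      · refine Or.inl ⟨?_, ?_⟩
        · rcases F1 ((b * ⟨⟨n, hnS⟩, hnC⟩ :
            ↥(Subgroup.centralizer ({(⟨(t₀ : G), htS⟩ : ↥S)} : Set ↥S))) : ↥S)
            (b * ⟨⟨n, hnS⟩, hnC⟩).2 with h6 | h6
          · rw [hbn] at h6; exact h6
          · exfalso
            rw [hbn, ← hb, mul_smul] at h6
            exact hnα (MulAction.injective ((b : ↥S) : G) h6)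
        · intro h8
          rw [hb] at h8
          exact hnα h8
    have := Subgroup.card_mul_index (((S ⊓ MulAction.stabilizer G α).subgroupOf S).subgroupOf
        (Subgroup.centralizer ({(⟨(t₀ : G), htS⟩ : ↥S)} : Set ↥S)))
    rw [hcardD, hidxD] at this
    exact this.symm

end Cfsg.Agent.Lib.helper40.S3390A2
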