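import Mathlib
import Cfsg.Agent.Lib.helper37.S3390Defs

/-! S3390 split (helper37), piece B: `card_two_of_relIndex_ne`. -/

set_option autoImplicit false

namespace Cfsg.Agent.Lib.helper40.S3390B

open Cfsg.Agent.Lib.helper37.S3390

variable {G : Type*} [Group G] [Finite G] {Ω : Type*} [MulAction G Ω]

/-- PIECE B: if `1 < T < S` and `|S : T| ≠ 2` then `|T| = 2` and `S` is not cyclic. -/
theorem card_two_of_relIndex_ne
    (h3 : ∀ g : G, ∀ a b c : Ω, a ≠ b → a ≠ c → b ≠ c → g • a = a → g • b = b → g • c = c → g = 1)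
    (S : Subgroup G) (hS : IsPGroup 2 S) (α : Ω)
    (h1 : S ⊓ MulAction.stabilizer G α ≠ ⊥) (h4 : ¬ S ≤ MulAction.stabilizer G α)
    (hidx : (S ⊓ MulAction.stabilizer G α).relIndex S ≠ 2) :
    Nat.card ↥(S ⊓ MulAction.stabilizer G α) = 2 ∧ ¬ IsCyclic ↥S := by
  classical
  obtain ⟨n, hnS, hnα, hnT, hfixT, hTn⟩ := exists_swap h3 S hS α h1 h4
  have : Fact (Nat.Prime 2) := ⟨Nat.prime_two⟩
  have hnil : Group.IsNilpotent ↥S := hS.isNilpotent
  -- F1 : elements of the normalizer of `T` in `S` send `α` into `{α, n • α}`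
  have F1 : ∀ m : ↥S, m ∈ Subgroup.normalizer
      (((S ⊓ MulAction.stabilizer G α).subgroupOf S : Subgroup ↥S) : Set ↥S) →
      (m : G) • α = α ∨ (m : G) • α = n • α := by
    intro m hm
    apply hfixT
    intro t ht
    have hm' : m⁻¹ ∈ Subgroup.normalizer
      (((S ⊓ MulAction.stabilizer G α).subgroupOf S : Subgroup ↥S) : Set ↥S) := inv_mem hm
    have h := (Subgroup.mem_normalizer_iff.mp hm' ⟨t, ht.1⟩).mp (Subgroup.mem_subgroupOf.mpr ht)
    have h' := Subgroup.mem_subgroupOf.mp h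
    have h'' : ((m : G)⁻¹ * t * (m : G)) • α = α := by
      have := h'.2
      simpa using this
    have e : t • ((m : G) • α) = (m : G) • (((m : G)⁻¹ * t * (m : G)) • α) := by
      simp [mul_smul]
    rw [e, h'']
  -- F3 : `n` normalizes `T`
  have F3 : (⟨n, hnS⟩ : ↥S) ∈ Subgroup.normalizer
      (((S ⊓ MulAction.stabilizer G α).subgroupOf S : Subgroup ↥S) : Set ↥S) := by
    apply Subgroup.mem_normalizer_fintype
    intro t ht
    have ht' := Subgroup.mem_subgroupOf.mp ht
    apply Subgroup.mem_subgroupOf.mpr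
    have := hnT _ ht'
    simpa using this
  -- the normalizer is proper
  have hNtop : Subgroup.normalizer
      (((S ⊓ MulAction.stabilizer G α).subgroupOf S : Subgroup ↥S) : Set ↥S) ≠ ⊤ := by
    intro htop
    apply hidx
    have hall : ∀ s : ↥S, (s : G) • α = α ∨ (s : G) • α = n • α := by
      intro s
      apply F1
      rw [htop]; trivial
    show ((S ⊓ MulAction.stabilizer G α).subgroupOf S).index = 2
    rw [Subgroup.index_eq_two_iff]
    refine ⟨⟨n, hnS⟩, fun b => ?_⟩
    rcases hall b with hb | hb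
    · -- b ∈ T
      refine Or.inr ⟨Subgroup.mem_subgroupOf.mpr ⟨b.2, hb⟩, ?_⟩
      intro hbn
      have := (Subgroup.mem_subgroupOf.mp hbn).2
      have h5 : ((b : G) * n) • α = α := by simpa using this
      rw [mul_smul, hTn _ ⟨b.2, hb⟩] at h5
      exact hnα h5
    · refine Or.inl ⟨?_, ?_⟩
      · apply Subgroup.mem_subgroupOf.mpr
        refine ⟨(b * ⟨n, hnS⟩ : ↥S).2, ?_⟩
        rcases hall (b * ⟨n, hnS⟩) with h6 | h6
        · exact h6
        · exfalso
          have h7 : ((b : G) * n) • α = (b : G) • α := by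
            rw [hb]; simpa using h6
          rw [mul_smul] at h7
          exact hnα (MulAction.injective (b : G) h7)
      · intro hbT
        have h8 : (b : G) • α = α := (Subgroup.mem_subgroupOf.mp hbT).2
        rw [hb] at h8
        exact hnα h8
  have hlt : Subgroup.normalizer
      (((S ⊓ MulAction.stabilizer G α).subgroupOf S : Subgroup ↥S) : Set ↥S) < ⊤ :=
    lt_top_iff_ne_top.mpr hNtop
  refine ⟨?_, ?_⟩
  · have hnc := Group.normalizerCondition_of_isNilpotent (G := ↥S) _ hlt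
    obtain ⟨m, hmN, hmT⟩ := SetLike.exists_of_lt hnc
    -- `m • α` is a third point
    have hmα : (m : G) • α ≠ α := by
      intro h
      apply hmT
      apply Subgroup.le_normalizer
      exact Subgroup.mem_subgroupOf.mpr ⟨m.2, h⟩
    have hmn : (m : G) • α ≠ n • α := by
      intro h
      apply hmT
      have h9 : (⟨n, hnS⟩ : ↥S)⁻¹ * m ∈ (S ⊓ MulAction.stabilizer G α).subgroupOf S := by
        apply Subgroup.mem_subgroupOf.mpr
        refine ⟨((⟨n, hnS⟩ : ↥S)⁻¹ * m).2, ?_⟩
        show ((((⟨n, hnS⟩ : ↥S)⁻¹ * m : ↥S) : G)) • α = α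
        simp only [Subgroup.coe_mul, Subgroup.coe_inv, mul_smul]
        rw [h, inv_smul_smul]
      have h10 := mul_mem F3 (Subgroup.le_normalizer h9)
      simpa using h10
    -- a conjugate `m t m⁻¹` (`t ∈ T`) fixing `α` is trivial
    have key1 : ∀ t ∈ S ⊓ MulAction.stabilizer G α,
        ((m : G) * t * (m : G)⁻¹) • α = α → t = 1 := by
      intro t ht h'
      have htα : t • α = α := ht.2
      have hin : (m : G) * t * (m : G)⁻¹ ∈ S ⊓ MulAction.stabilizer G α :=
        ⟨S.mul_mem (S.mul_mem m.2 ht.1) (S.inv_mem m.2), h'⟩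
      have hfm : ((m : G) * t * (m : G)⁻¹) • ((m : G) • α) = (m : G) • α := by
        rw [mul_smul, inv_smul_smul, mul_smul, htα]
      have h11 : (m : G) * t * (m : G)⁻¹ = 1 :=
        h3 _ α (n • α) ((m : G) • α) (Ne.symm hnα) (Ne.symm hmα) (Ne.symm hmn)
          h' (hTn _ hin) hfm
      have h12 : t = (m : G)⁻¹ * ((m : G) * t * (m : G)⁻¹) * (m : G) := by group
      rw [h12, h11]; group
    -- a conjugate `m t m⁻¹` (`t ∈ T`) sends `α` into `{α, n • α}`
    have key2 : ∀ t ∈ S ⊓ MulAction.stabilizer G α, t ≠ 1 →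
        ((m : G) * t * (m : G)⁻¹) • α = n • α := by
      intro t ht ht1
      have hmem : m * ⟨t, ht.1⟩ * m⁻¹ ∈ Subgroup.normalizer
          (((S ⊓ MulAction.stabilizer G α).subgroupOf S : Subgroup ↥S) : Set ↥S) :=
        (Subgroup.mem_normalizer_iff.mp hmN ⟨t, ht.1⟩).mp
          (Subgroup.le_normalizer (Subgroup.mem_subgroupOf.mpr ht))
      rcases F1 _ hmem with h | h
      · exfalso
        apply ht1
        apply key1 t ht
        simpa using h
      · simpa using h
    -- two nontrivial elements of `T` are equal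
    have key3 : ∀ t₁ ∈ S ⊓ MulAction.stabilizer G α, ∀ t₂ ∈ S ⊓ MulAction.stabilizer G α,
        t₁ ≠ 1 → t₂ ≠ 1 → t₁ = t₂ := by
      intro t₁ ht₁ t₂ ht₂ h₁ h₂
      have ha := key2 t₁ ht₁ h₁
      have hb := key2 t₂ ht₂ h₂
      have hc : ((m : G) * (t₂⁻¹ * t₁) * (m : G)⁻¹) • α = α := by
        have e : (m : G) * (t₂⁻¹ * t₁) * (m : G)⁻¹ =
            ((m : G) * t₂ * (m : G)⁻¹)⁻¹ * ((m : G) * t₁ * (m : G)⁻¹) := by group
        rw [e, mul_smul, ha, ← hb, inv_smul_smul]
      have := key1 (t₂⁻¹ * t₁) (mul_mem (inv_mem ht₂) ht₁) hc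
      have e2 : t₁ = t₂ * (t₂⁻¹ * t₁) := by group
      rw [e2, this, mul_one]
    obtain ⟨t₀, ht₀1⟩ := (Subgroup.ne_bot_iff_exists_ne_one).mp h1
    rw [Nat.card_eq_two_iff]
    refine ⟨1, t₀, fun h => ht₀1 h.symm, ?_⟩
    rw [Set.eq_univ_iff_forall]
    intro z
    by_cases hz : z = 1
    · left; exact hz
    · right
      have hz' : (z : G) ≠ 1 := fun h => hz (Subtype.ext h)
      have ht₀' : (t₀ : G) ≠ 1 := fun h => ht₀1 (Subtype.ext h)
      exact Subtype.ext (key3 _ z.2 _ t₀.2 hz' ht₀')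
  · intro hcyc
    apply hNtop
    rw [eq_top_iff]
    intro m _
    rw [Subgroup.mem_normalizer_iff]
    intro h
    have hc : m * h = h * m := (isMulCommutative_iff.mp (IsCyclic.isMulCommutative (α := ↥S))) m h
    have : m * h * m⁻¹ = h := by rw [hc, mul_inv_cancel_right]
    rw [this]

end Cfsg.Agent.Lib.helper40.S3390B
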