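import Mathlib
import Cfsg.Agent.Lib.helper37.S3390Defs
import Cfsg.Agent.Lib.helper25.Fus2

/-! S3390 split (helper37), piece E: `exists_index_two`. -/

set_option autoImplicit false

namespace Cfsg.Agent.Lib.helper40.S3390E

open Cfsg.Agent.Lib.helper37.S3390

variable {G : Type*} [Group G] [Finite G] {Ω : Type*} [MulAction G Ω]

/-- PIECE E: transfer gives a normal subgroup of index 2 meeting `S` in `T`. -/
theorem exists_index_two (S : Sylow 2 G) (α : Ω) (n : G) (c : Cfg G Ω (S : Subgroup G) α n) :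
    ∃ N : Subgroup G, N.Normal ∧ N.index = 2 ∧
      N ⊓ (S : Subgroup G) = (S : Subgroup G) ⊓ MulAction.stabilizer G α := by
  classical
  have : Fact (Nat.Prime 2) := ⟨Nat.prime_two⟩
  -- a non-identity element of `S` with a fixed point lies in `T`
  have FP : ∀ y : G, y ∈ (S : Subgroup G) → ∀ ω : Ω, y • ω = ω →
      y ∈ (S : Subgroup G) ⊓ MulAction.stabilizer G α := by
    intro y hyS ω hω
    by_cases hy1 : y = 1
    · rw [hy1]; exact one_mem _
    have hne : (S : Subgroup G) ⊓ MulAction.stabilizer G ω ≠ ⊥ := by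
      intro hbot
      have hmem : y ∈ (S : Subgroup G) ⊓ MulAction.stabilizer G ω := ⟨hyS, hω⟩
      rw [hbot] at hmem
      exact hy1 (Subgroup.mem_bot.mp hmem)
    have hω' : ω = α ∨ ω = n • α := by
      by_contra hcon
      exact hne (c.hreg ω (fun h => hcon (Or.inl h)) (fun h => hcon (Or.inr h)))
    rcases hω' with h | h
    · subst h
      exact ⟨hyS, hω⟩
    · subst h
      have h1 : (n⁻¹ * y * n) • α = α := by
        rw [mul_smul, mul_smul, hω, inv_smul_smul]
      have h2 : n⁻¹ * y * n ∈ (S : Subgroup G) ⊓ MulAction.stabilizer G α :=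
        ⟨Subgroup.mul_mem _ (Subgroup.mul_mem _ (Subgroup.inv_mem _ c.hnS) hyS) c.hnS, h1⟩
      have h3 := c.hnT _ h2
      have e : n * (n⁻¹ * y * n) * n⁻¹ = y := by group
      rw [e] at h3
      exact h3
  have hfus : ∀ a ∈ (S : Subgroup G), ∀ g : G, g * a * g⁻¹ ∈ (S : Subgroup G) →
      a * (g * a * g⁻¹)⁻¹ ∈ (S : Subgroup G) ⊓ MulAction.stabilizer G α := by
    intro a haS g hbS
    by_cases haT : a ∈ (S : Subgroup G) ⊓ MulAction.stabilizer G α
    · have haα : a • α = α := haT.2
      have hb : (g * a * g⁻¹) • (g • α) = g • α := by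
        rw [mul_smul, inv_smul_smul, mul_smul, haα]
      exact Subgroup.mul_mem _ haT (Subgroup.inv_mem _ (FP _ hbS _ hb))
    · have hbT : g * a * g⁻¹ ∉ (S : Subgroup G) ⊓ MulAction.stabilizer G α := by
        intro hbT
        apply haT
        have hbα : (g * a * g⁻¹) • α = α := hbT.2
        have ha : a • (g⁻¹ • α) = g⁻¹ • α := by
          have e : a = g⁻¹ * (g * a * g⁻¹) * g := by group
          rw [e, mul_smul, smul_inv_smul, mul_smul, hbα]
        exact FP _ haS _ ha
      have hidx : (((S : Subgroup G) ⊓ MulAction.stabilizer G α).subgroupOf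
          (S : Subgroup G)).index = 2 := c.hidx
      have h := Subgroup.mul_mem_iff_of_index_two hidx
        (a := (⟨a, haS⟩ : ↥(S : Subgroup G))) (b := (⟨g * a * g⁻¹, hbS⟩ : ↥(S : Subgroup G))⁻¹)
      have h' : (⟨a, haS⟩ : ↥(S : Subgroup G)) * (⟨g * a * g⁻¹, hbS⟩ : ↥(S : Subgroup G))⁻¹ ∈
          ((S : Subgroup G) ⊓ MulAction.stabilizer G α).subgroupOf (S : Subgroup G) := by
        rw [h]
        constructor
        · intro h5
          exact absurd (Subgroup.mem_subgroupOf.mp h5) haT
        · intro h5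
          rw [inv_mem_iff] at h5
          exact absurd (Subgroup.mem_subgroupOf.mp h5) hbT
      exact Subgroup.mem_subgroupOf.mp h'
  obtain ⟨K, hK, hKS, hKi⟩ := Cfsg.Agent.Lib.helper25.exists_normal_of_fusion S
    ((S : Subgroup G) ⊓ MulAction.stabilizer G α) inf_le_left hfus
  exact ⟨K, hK, hKi.trans c.hidx, hKS⟩

end Cfsg.Agent.Lib.helper40.S3390E
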