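import Mathlib
import Cfsg.Agent.Lib.helper89.S60Defs

/-!
# S6000, leaf EX3: the ring identities for `V(a, b) = 1 + w (a + b + w a b)`
-/

set_option autoImplicit false

namespace Cfsg.Agent.Lib.helper89.S60

open Matrix

section ex3alg

variable {F : Type*} [Field F]

/-- `V(a, b) = 1 + w (a + b + w a b)`. -/
def h40_exV (w : F) (a b : Matrix (Fin 4) (Fin 4) F) : Matrix (Fin 4) (Fin 4) F :=
  1 + w • (a + b + w • (a * b))

/-- `V'(a, b) = 1 - w (a + b + w a b)`. -/
def h40_exV' (w : F) (a b : Matrix (Fin 4) (Fin 4) F) : Matrix (Fin 4) (Fin 4) F :=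
  1 - w • (a + b + w • (a * b))

variable (w : F) (hw : w * w = -1) (a b : Matrix (Fin 4) (Fin 4) F)
  (haa : a * a = 1) (hbb : b * b = 1) (hab : a * b = -(b * a))

include hw haa hbb hab

theorem h40_exV_mul' : h40_exV w a b * h40_exV' w a b = 1 + 1 + 1 + 1 := by
  have haa' : ∀ x : Matrix (Fin 4) (Fin 4) F, a * (a * x) = x := fun x => by
    rw [← mul_assoc, haa, one_mul]
  have hbb' : ∀ x : Matrix (Fin 4) (Fin 4) F, b * (b * x) = x := fun x => by
    rw [← mul_assoc, hbb, one_mul]
  have hba : b * a = -(a * b) := by rw [hab, neg_neg]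
  have hba' : ∀ x : Matrix (Fin 4) (Fin 4) F, b * (a * x) = -(a * (b * x)) := fun x => by
    rw [← mul_assoc, hba, neg_mul, mul_assoc]
  simp only [h40_exV, h40_exV', mul_add, add_mul, mul_sub, sub_mul, smul_add, smul_sub,
    smul_mul_assoc, mul_smul_comm, smul_smul, mul_one, one_mul, mul_assoc, haa, hbb, haa', hbb',
    hba, hba', neg_mul, mul_neg, neg_neg, smul_neg, neg_smul, hw, one_smul]
  abel

theorem h40_exV'_mul : h40_exV' w a b * h40_exV w a b = 1 + 1 + 1 + 1 := by
  have haa' : ∀ x : Matrix (Fin 4) (Fin 4) F, a * (a * x) = x := fun x => by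
    rw [← mul_assoc, haa, one_mul]
  have hbb' : ∀ x : Matrix (Fin 4) (Fin 4) F, b * (b * x) = x := fun x => by
    rw [← mul_assoc, hbb, one_mul]
  have hba : b * a = -(a * b) := by rw [hab, neg_neg]
  have hba' : ∀ x : Matrix (Fin 4) (Fin 4) F, b * (a * x) = -(a * (b * x)) := fun x => by
    rw [← mul_assoc, hba, neg_mul, mul_assoc]
  simp only [h40_exV, h40_exV', mul_add, add_mul, mul_sub, sub_mul, smul_add, smul_sub,
    smul_mul_assoc, mul_smul_comm, smul_smul, mul_one, one_mul, mul_assoc, haa, hbb, haa', hbb',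
    hba, hba', neg_mul, mul_neg, neg_neg, smul_neg, neg_smul, hw, one_smul]
  abel

theorem h40_exV_sq : h40_exV w a b * h40_exV w a b = -(h40_exV' w a b + h40_exV' w a b) := by
  have haa' : ∀ x : Matrix (Fin 4) (Fin 4) F, a * (a * x) = x := fun x => by
    rw [← mul_assoc, haa, one_mul]
  have hbb' : ∀ x : Matrix (Fin 4) (Fin 4) F, b * (b * x) = x := fun x => by
    rw [← mul_assoc, hbb, one_mul]
  have hba : b * a = -(a * b) := by rw [hab, neg_neg]
  have hba' : ∀ x : Matrix (Fin 4) (Fin 4) F, b * (a * x) = -(a * (b * x)) := fun x => by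
    rw [← mul_assoc, hba, neg_mul, mul_assoc]
  simp only [h40_exV, h40_exV', mul_add, add_mul, mul_sub, sub_mul, smul_add, smul_sub,
    smul_mul_assoc, mul_smul_comm, smul_smul, mul_one, one_mul, mul_assoc, haa, hbb, haa', hbb',
    hba, hba', neg_mul, mul_neg, neg_neg, smul_neg, neg_smul, hw, one_smul]
  abel

omit hw haa hbb hab in
/-- `s` commuting with `a` and `b` commutes with `V`. -/
theorem h40_exV_cc (s : Matrix (Fin 4) (Fin 4) F) (hsa : a * s = s * a) (hsb : b * s = s * b) :
    h40_exV w a b * s = s * h40_exV w a b := by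
  have hsa' : ∀ x : Matrix (Fin 4) (Fin 4) F, a * (s * x) = s * (a * x) := fun x => by
    rw [← mul_assoc, hsa, mul_assoc]
  have hsb' : ∀ x : Matrix (Fin 4) (Fin 4) F, b * (s * x) = s * (b * x) := fun x => by
    rw [← mul_assoc, hsb, mul_assoc]
  simp only [h40_exV, mul_add, add_mul, smul_add, smul_mul_assoc, mul_smul_comm, smul_smul,
    mul_one, one_mul, mul_assoc, hsa, hsb, hsa', hsb']

/-- `s` commuting with `a` and anticommuting with `b`. -/
theorem h40_exV_ca (s : Matrix (Fin 4) (Fin 4) F) (hsa : a * s = s * a) (hsb : b * s = -(s * b)) :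
    h40_exV w a b * s = (s * (a * b)) * h40_exV w a b := by
  have haa' : ∀ x : Matrix (Fin 4) (Fin 4) F, a * (a * x) = x := fun x => by
    rw [← mul_assoc, haa, one_mul]
  have hbb' : ∀ x : Matrix (Fin 4) (Fin 4) F, b * (b * x) = x := fun x => by
    rw [← mul_assoc, hbb, one_mul]
  have hba : b * a = -(a * b) := by rw [hab, neg_neg]
  have hba' : ∀ x : Matrix (Fin 4) (Fin 4) F, b * (a * x) = -(a * (b * x)) := fun x => by
    rw [← mul_assoc, hba, neg_mul, mul_assoc]
  have hsa' : ∀ x : Matrix (Fin 4) (Fin 4) F, a * (s * x) = s * (a * x) := fun x => by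
    rw [← mul_assoc, hsa, mul_assoc]
  have hsb' : ∀ x : Matrix (Fin 4) (Fin 4) F, b * (s * x) = -(s * (b * x)) := fun x => by
    rw [← mul_assoc, hsb, neg_mul, mul_assoc]
  simp only [h40_exV, mul_add, add_mul, smul_add, smul_mul_assoc, mul_smul_comm, smul_smul,
    mul_one, one_mul, mul_assoc, haa, hbb, haa', hbb', hba, hba', hsa, hsb, hsa', hsb',
    neg_mul, mul_neg, neg_neg, smul_neg, neg_smul, hw, one_smul]
  abel

/-- `s` anticommuting with `a` and commuting with `b`. -/
theorem h40_exV_ac (s : Matrix (Fin 4) (Fin 4) F) (hsa : a * s = -(s * a)) (hsb : b * s = s * b) :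
    h40_exV w a b * s = (-(w • (s * a))) * h40_exV w a b := by
  have haa' : ∀ x : Matrix (Fin 4) (Fin 4) F, a * (a * x) = x := fun x => by
    rw [← mul_assoc, haa, one_mul]
  have hbb' : ∀ x : Matrix (Fin 4) (Fin 4) F, b * (b * x) = x := fun x => by
    rw [← mul_assoc, hbb, one_mul]
  have hba : b * a = -(a * b) := by rw [hab, neg_neg]
  have hba' : ∀ x : Matrix (Fin 4) (Fin 4) F, b * (a * x) = -(a * (b * x)) := fun x => by
    rw [← mul_assoc, hba, neg_mul, mul_assoc]
  have hsa' : ∀ x : Matrix (Fin 4) (Fin 4) F, a * (s * x) = -(s * (a * x)) := fun x => by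
    rw [← mul_assoc, hsa, neg_mul, mul_assoc]
  have hsb' : ∀ x : Matrix (Fin 4) (Fin 4) F, b * (s * x) = s * (b * x) := fun x => by
    rw [← mul_assoc, hsb, mul_assoc]
  simp only [h40_exV, mul_add, add_mul, smul_add, smul_mul_assoc, mul_smul_comm, smul_smul,
    mul_one, one_mul, mul_assoc, haa, hbb, haa', hbb', hba, hba', hsa, hsb, hsa', hsb',
    neg_mul, mul_neg, neg_neg, smul_neg, neg_smul, hw, one_smul, neg_add_rev]
  abel

/-- `s` anticommuting with `a` and with `b`. -/
theorem h40_exV_aa (s : Matrix (Fin 4) (Fin 4) F) (hsa : a * s = -(s * a)) (hsb : b * s = -(s * b)) :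
    h40_exV w a b * s = (-(w • (s * b))) * h40_exV w a b := by
  have haa' : ∀ x : Matrix (Fin 4) (Fin 4) F, a * (a * x) = x := fun x => by
    rw [← mul_assoc, haa, one_mul]
  have hbb' : ∀ x : Matrix (Fin 4) (Fin 4) F, b * (b * x) = x := fun x => by
    rw [← mul_assoc, hbb, one_mul]
  have hba : b * a = -(a * b) := by rw [hab, neg_neg]
  have hba' : ∀ x : Matrix (Fin 4) (Fin 4) F, b * (a * x) = -(a * (b * x)) := fun x => by
    rw [← mul_assoc, hba, neg_mul, mul_assoc]
  have hsa' : ∀ x : Matrix (Fin 4) (Fin 4) F, a * (s * x) = -(s * (a * x)) := fun x => by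
    rw [← mul_assoc, hsa, neg_mul, mul_assoc]
  have hsb' : ∀ x : Matrix (Fin 4) (Fin 4) F, b * (s * x) = -(s * (b * x)) := fun x => by
    rw [← mul_assoc, hsb, neg_mul, mul_assoc]
  simp only [h40_exV, mul_add, add_mul, smul_add, smul_mul_assoc, mul_smul_comm, smul_smul,
    mul_one, one_mul, mul_assoc, haa, hbb, haa', hbb', hba, hba', hsa, hsb, hsa', hsb',
    neg_mul, mul_neg, neg_neg, smul_neg, neg_smul, hw, one_smul, neg_add_rev]
  abel

end ex3alg

end Cfsg.Agent.Lib.helper89.S60
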