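import Mathlib
import Cfsg.Agent.Lib.helper89.S60Defs
import Cfsg.Agent.Lib.helper40.S60EX3alg

/-!
# S6000, leaf EX3 (`s60_exists_three`), racer copy
-/

set_option autoImplicit false

namespace Cfsg.Agent.Lib.helper89.S60

open Matrix Cfsg Cfsg.Geo

section ex3

variable {F : Type*} [Field F]

/-- `g * g = 1`, `g * x = -(x * g)` gives `trace x = 0`. -/
theorem h40_tr0 (h2 : (2 : F) ≠ 0) (g x : Matrix (Fin 4) (Fin 4) F) (hgg : g * g = 1)
    (hgx : g * x = -(x * g)) : Matrix.trace x = 0 := by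
  have h1 : Matrix.trace x = Matrix.trace (g * (g * x)) := by rw [← mul_assoc, hgg, one_mul]
  rw [hgx, mul_neg, Matrix.trace_neg, Matrix.trace_mul_comm, mul_assoc, hgg, mul_one] at h1
  have h3 : (2 : F) * Matrix.trace x = 0 := by linear_combination h1
  exact (mul_eq_zero.mp h3).resolve_left h2

/-- `trace (V(a, b) * y) = trace y` for `y` commuting with `a` and `b`. -/
theorem h40_exV_trace (h2 : (2 : F) ≠ 0) (w : F) (a b : Matrix (Fin 4) (Fin 4) F)
    (haa : a * a = 1) (hbb : b * b = 1) (hab : a * b = -(b * a))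
    (y : Matrix (Fin 4) (Fin 4) F) (hay : a * y = y * a) (hby : b * y = y * b) :
    Matrix.trace (h40_exV w a b * y) = Matrix.trace y := by
  have hba : b * a = -(a * b) := by rw [hab, neg_neg]
  have t1 : Matrix.trace (a * y) = 0 := by
    refine h40_tr0 h2 b (a * y) hbb ?_
    rw [← mul_assoc, hba, neg_mul, mul_assoc, hby, mul_assoc]
  have t2 : Matrix.trace (b * y) = 0 := by
    refine h40_tr0 h2 a (b * y) haa ?_
    rw [← mul_assoc, hab, neg_mul, mul_assoc, hay, mul_assoc]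
  have t3 : Matrix.trace (a * b * y) = 0 := by
    refine h40_tr0 h2 a (a * b * y) haa ?_
    rw [mul_assoc (a * b) y a, ← hay, mul_assoc a b (a * y), ← mul_assoc b a y, hba, neg_mul,
      mul_neg, neg_neg]
  unfold h40_exV
  simp only [add_mul, one_mul, smul_mul_assoc, Matrix.trace_add, Matrix.trace_smul, smul_eq_mul,
    t1, t2, t3]
  ring

/-- The second pair `w t0 t1 t2`, `w t0 t1 t3`. -/
theorem h40_prime_rel (w : F) (hw : w * w = -1) (x0 x1 x2 x3 : Matrix (Fin 4) (Fin 4) F)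
    (s0 : x0 * x0 = 1) (s1 : x1 * x1 = 1) (s2 : x2 * x2 = 1) (s3 : x3 * x3 = 1)
    (a10 : x1 * x0 = -(x0 * x1)) (a20 : x2 * x0 = -(x0 * x2)) (a30 : x3 * x0 = -(x0 * x3))
    (a21 : x2 * x1 = -(x1 * x2)) (a31 : x3 * x1 = -(x1 * x3)) (a32 : x3 * x2 = -(x2 * x3)) :
    (w • (x0 * x1 * x2)) * (w • (x0 * x1 * x2)) = 1 ∧
    (w • (x0 * x1 * x3)) * (w • (x0 * x1 * x3)) = 1 ∧
    (w • (x0 * x1 * x2)) * (w • (x0 * x1 * x3)) = -((w • (x0 * x1 * x3)) * (w • (x0 * x1 * x2))) ∧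
    x0 * (w • (x0 * x1 * x2)) = (w • (x0 * x1 * x2)) * x0 ∧
    x0 * (w • (x0 * x1 * x3)) = (w • (x0 * x1 * x3)) * x0 ∧
    x1 * (w • (x0 * x1 * x2)) = (w • (x0 * x1 * x2)) * x1 ∧
    x1 * (w • (x0 * x1 * x3)) = (w • (x0 * x1 * x3)) * x1 := by
  have s0' : ∀ y : Matrix (Fin 4) (Fin 4) F, x0 * (x0 * y) = y := fun y => by
    rw [← mul_assoc, s0, one_mul]
  have s1' : ∀ y : Matrix (Fin 4) (Fin 4) F, x1 * (x1 * y) = y := fun y => by
    rw [← mul_assoc, s1, one_mul]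
  have s2' : ∀ y : Matrix (Fin 4) (Fin 4) F, x2 * (x2 * y) = y := fun y => by
    rw [← mul_assoc, s2, one_mul]
  have s3' : ∀ y : Matrix (Fin 4) (Fin 4) F, x3 * (x3 * y) = y := fun y => by
    rw [← mul_assoc, s3, one_mul]
  have a10' : ∀ y : Matrix (Fin 4) (Fin 4) F, x1 * (x0 * y) = -(x0 * (x1 * y)) := fun y => by
    rw [← mul_assoc, a10, neg_mul, mul_assoc]
  have a20' : ∀ y : Matrix (Fin 4) (Fin 4) F, x2 * (x0 * y) = -(x0 * (x2 * y)) := fun y => by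
    rw [← mul_assoc, a20, neg_mul, mul_assoc]
  have a30' : ∀ y : Matrix (Fin 4) (Fin 4) F, x3 * (x0 * y) = -(x0 * (x3 * y)) := fun y => by
    rw [← mul_assoc, a30, neg_mul, mul_assoc]
  have a21' : ∀ y : Matrix (Fin 4) (Fin 4) F, x2 * (x1 * y) = -(x1 * (x2 * y)) := fun y => by
    rw [← mul_assoc, a21, neg_mul, mul_assoc]
  have a31' : ∀ y : Matrix (Fin 4) (Fin 4) F, x3 * (x1 * y) = -(x1 * (x3 * y)) := fun y => by
    rw [← mul_assoc, a31, neg_mul, mul_assoc]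
  have a32' : ∀ y : Matrix (Fin 4) (Fin 4) F, x3 * (x2 * y) = -(x2 * (x3 * y)) := fun y => by
    rw [← mul_assoc, a32, neg_mul, mul_assoc]
  refine ⟨?_, ?_, ?_, ?_, ?_, ?_, ?_⟩ <;>
    simp only [smul_mul_assoc, mul_smul_comm, smul_smul, mul_assoc, s0, s1, s2, s3, s0', s1', s2',
      s3', a10, a20, a30, a21, a31, a32, a10', a20', a30', a21', a31', a32', neg_mul, mul_neg,
      neg_neg, smul_neg, neg_smul, hw, one_smul, mul_one]

/-- The unit `U = V(a, b) / 2`: it normalizes `R` and `U ^ 3 = -1`. -/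
theorem h40_exU (h2 : (2 : F) ≠ 0) (R : Subgroup (GL (Fin 4) F)) [Finite R] (w : F)
    (hw : w * w = -1) (zw : GL (Fin 4) F) (hzwR : zw ∈ R)
    (hzw : (zw : Matrix (Fin 4) (Fin 4) F) = w • (1 : Matrix (Fin 4) (Fin 4) F))
    (hcomm : ∀ s ∈ R, ∀ t ∈ R, (s : Matrix (Fin 4) (Fin 4) F) * (t : Matrix (Fin 4) (Fin 4) F) =
        (t : Matrix (Fin 4) (Fin 4) F) * (s : Matrix (Fin 4) (Fin 4) F) ∨
      (s : Matrix (Fin 4) (Fin 4) F) * (t : Matrix (Fin 4) (Fin 4) F) =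
        -((t : Matrix (Fin 4) (Fin 4) F) * (s : Matrix (Fin 4) (Fin 4) F)))
    (a b : GL (Fin 4) F) (ha : a ∈ R) (hb : b ∈ R)
    (haa : (a : Matrix (Fin 4) (Fin 4) F) * (a : Matrix (Fin 4) (Fin 4) F) = 1)
    (hbb : (b : Matrix (Fin 4) (Fin 4) F) * (b : Matrix (Fin 4) (Fin 4) F) = 1)
    (hab : (a : Matrix (Fin 4) (Fin 4) F) * (b : Matrix (Fin 4) (Fin 4) F) =
      -((b : Matrix (Fin 4) (Fin 4) F) * (a : Matrix (Fin 4) (Fin 4) F))) :
    ∃ U : GL (Fin 4) F, U ∈ subgroupNormalizer R ∧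
      (U : Matrix (Fin 4) (Fin 4) F) = (2 : F)⁻¹ •
        h40_exV w (a : Matrix (Fin 4) (Fin 4) F) (b : Matrix (Fin 4) (Fin 4) F) ∧
      (U : Matrix (Fin 4) (Fin 4) F) * (U : Matrix (Fin 4) (Fin 4) F) *
        (U : Matrix (Fin 4) (Fin 4) F) = -1 := by
  generalize hA : (a : Matrix (Fin 4) (Fin 4) F) = A at haa hab
  generalize hB : (b : Matrix (Fin 4) (Fin 4) F) = B at hbb hab
  have hone4 : ((1 : Matrix (Fin 4) (Fin 4) F) + 1 + 1 + 1) =
      (4 : F) • (1 : Matrix (Fin 4) (Fin 4) F) := by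
    rw [show (4 : F) = 1 + 1 + 1 + 1 by norm_num, add_smul, add_smul, add_smul, one_smul]
  have hs4 : (2 : F)⁻¹ * (2 : F)⁻¹ * 4 = 1 := by field_simp; norm_num
  have hVV' := h40_exV_mul' w hw A B haa hbb hab
  have hV'V := h40_exV'_mul w hw A B haa hbb hab
  have hsq := h40_exV_sq w hw A B haa hbb hab
  let U : GL (Fin 4) F := ⟨(2 : F)⁻¹ • h40_exV w A B, (2 : F)⁻¹ • h40_exV' w A B,
    by rw [smul_mul_smul_comm, hVV', hone4, smul_smul, hs4, one_smul],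
    by rw [smul_mul_smul_comm, hV'V, hone4, smul_smul, hs4, one_smul]⟩
  have hUval : (U : Matrix (Fin 4) (Fin 4) F) = (2 : F)⁻¹ • h40_exV w A B := rfl
  refine ⟨U, ?_, hUval, ?_⟩
  · have key : ∀ (s x : GL (Fin 4) F), x ∈ R →
        h40_exV w A B * (s : Matrix (Fin 4) (Fin 4) F) =
          (x : Matrix (Fin 4) (Fin 4) F) * h40_exV w A B →
        U * s * U⁻¹ ∈ R := by
      intro s x hx h
      have h1 : U * s * U⁻¹ = x := by
        rw [mul_inv_eq_iff_eq_mul]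
        apply Units.ext
        show ((2 : F)⁻¹ • h40_exV w A B) * (s : Matrix (Fin 4) (Fin 4) F) =
          (x : Matrix (Fin 4) (Fin 4) F) * ((2 : F)⁻¹ • h40_exV w A B)
        rw [smul_mul_assoc, mul_smul_comm, h]
      rw [h1]
      exact hx
    have hfin : Finite ((R : Set (GL (Fin 4) F))) := ‹Finite R›
    unfold subgroupNormalizer
    apply Subgroup.mem_normalizer_fintype
    intro s hs
    have hsR : s ∈ R := hs
    have hm3 : ((zw * zw * zw : GL (Fin 4) F) : Matrix (Fin 4) (Fin 4) F) =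
        -(w • (1 : Matrix (Fin 4) (Fin 4) F)) := by
      show (zw : Matrix (Fin 4) (Fin 4) F) * (zw : Matrix (Fin 4) (Fin 4) F) *
        (zw : Matrix (Fin 4) (Fin 4) F) = _
      rw [hzw]
      simp only [mul_smul_comm, mul_one, smul_smul, hw, neg_smul, one_smul, smul_neg]
    have h1 := hcomm a ha s hsR
    have h3 := hcomm b hb s hsR
    rw [hA] at h1
    rw [hB] at h3
    rcases h1 with h1 | h1 <;> rcases h3 with h3 | h3
    · exact key s s hsR (h40_exV_cc w A B _ h1 h3)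
    · refine key s (s * (a * b)) (R.mul_mem hsR (R.mul_mem ha hb)) ?_
      rw [h40_exV_ca w hw A B haa hbb hab _ h1 h3]
      congr 1
      show _ = (s : Matrix (Fin 4) (Fin 4) F) * ((a : Matrix (Fin 4) (Fin 4) F) *
        (b : Matrix (Fin 4) (Fin 4) F))
      rw [hA, hB]
    · refine key s (zw * zw * zw * (s * a))
        (R.mul_mem (R.mul_mem (R.mul_mem hzwR hzwR) hzwR) (R.mul_mem hsR ha)) ?_
      rw [h40_exV_ac w hw A B haa hbb hab _ h1 h3]
      congr 1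
      show _ = ((zw * zw * zw : GL (Fin 4) F) : Matrix (Fin 4) (Fin 4) F) *
        ((s : Matrix (Fin 4) (Fin 4) F) * (a : Matrix (Fin 4) (Fin 4) F))
      rw [hm3, hA, neg_mul, smul_mul_assoc, one_mul]
    · refine key s (zw * zw * zw * (s * b))
        (R.mul_mem (R.mul_mem (R.mul_mem hzwR hzwR) hzwR) (R.mul_mem hsR hb)) ?_
      rw [h40_exV_aa w hw A B haa hbb hab _ h1 h3]
      congr 1
      show _ = ((zw * zw * zw : GL (Fin 4) F) : Matrix (Fin 4) (Fin 4) F) *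
        ((s : Matrix (Fin 4) (Fin 4) F) * (b : Matrix (Fin 4) (Fin 4) F))
      rw [hm3, hB, neg_mul, smul_mul_assoc, one_mul]
  · have hs8 : (2 : F)⁻¹ * (2 : F)⁻¹ * (2 : F)⁻¹ * (4 + 4) = 1 := by field_simp; norm_num
    rw [hUval, smul_mul_smul_comm, smul_mul_smul_comm, hsq, neg_mul, add_mul, hV'V, hone4,
      ← add_smul, smul_neg, smul_smul, hs8, one_smul]

end ex3

/-- EX3 (racer copy of `s60_exists_three`). -/
theorem h40_s60_exists_three {F : Type*} [Field F] [Fintype F] (h2 : (2 : F) ≠ 0) (R : Subgroup (GL (Fin 4) F)) (w : F) (hG : Good R w) :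
    ∃ hA hB : GL (Fin 4) F, hA ∈ subgroupNormalizer R ∧ hB ∈ subgroupNormalizer R ∧ hA ^ 3 = 1 ∧ hB ^ 3 = 1 ∧
      Matrix.trace (hA : Matrix (Fin 4) (Fin 4) F) = 1 ∧ Matrix.trace (hB : Matrix (Fin 4) (Fin 4) F) = -2 := by
  obtain ⟨t, htR, htsq, htanti, -⟩ := hG.frame
  obtain ⟨zw, hzwR, hzw⟩ := hG.wmem
  have hfinR : Finite R := Nat.finite_of_card_ne_zero (by rw [hG.card]; norm_num)
  have hw := hG.wsq
  have s0 := htsq 0
  have s1 := htsq 1
  have s2 := htsq 2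
  have s3 := htsq 3
  have a01 := htanti 0 1 (by decide)
  have a10 := htanti 1 0 (by decide)
  have a20 := htanti 2 0 (by decide)
  have a30 := htanti 3 0 (by decide)
  have a21 := htanti 2 1 (by decide)
  have a31 := htanti 3 1 (by decide)
  have a32 := htanti 3 2 (by decide)
  obtain ⟨U1, hU1N, hU1v, hU1c⟩ := h40_exU h2 R w hw zw hzwR hzw hG.comm (t 0) (t 1) (htR 0) (htR 1)
    s0 s1 a01
  obtain ⟨hAA, hBB, hAB, h0A, h0B, h1A, h1B⟩ :=
    h40_prime_rel w hw _ _ _ _ s0 s1 s2 s3 a10 a20 a30 a21 a31 a32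
  have hA' : ((zw * t 0 * t 1 * t 2 : GL (Fin 4) F) : Matrix (Fin 4) (Fin 4) F) =
      w • ((t 0 : Matrix (Fin 4) (Fin 4) F) * (t 1 : Matrix (Fin 4) (Fin 4) F) *
        (t 2 : Matrix (Fin 4) (Fin 4) F)) := by
    show (zw : Matrix (Fin 4) (Fin 4) F) * (t 0 : Matrix (Fin 4) (Fin 4) F) *
      (t 1 : Matrix (Fin 4) (Fin 4) F) * (t 2 : Matrix (Fin 4) (Fin 4) F) = _
    rw [hzw]
    simp only [smul_mul_assoc, one_mul]
  have hB' : ((zw * t 0 * t 1 * t 3 : GL (Fin 4) F) : Matrix (Fin 4) (Fin 4) F) =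
      w • ((t 0 : Matrix (Fin 4) (Fin 4) F) * (t 1 : Matrix (Fin 4) (Fin 4) F) *
        (t 3 : Matrix (Fin 4) (Fin 4) F)) := by
    show (zw : Matrix (Fin 4) (Fin 4) F) * (t 0 : Matrix (Fin 4) (Fin 4) F) *
      (t 1 : Matrix (Fin 4) (Fin 4) F) * (t 3 : Matrix (Fin 4) (Fin 4) F) = _
    rw [hzw]
    simp only [smul_mul_assoc, one_mul]
  obtain ⟨U2, hU2N, hU2v, hU2c⟩ := h40_exU h2 R w hw zw hzwR hzw hG.comm
    (zw * t 0 * t 1 * t 2) (zw * t 0 * t 1 * t 3)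
    (R.mul_mem (R.mul_mem (R.mul_mem hzwR (htR 0)) (htR 1)) (htR 2))
    (R.mul_mem (R.mul_mem (R.mul_mem hzwR (htR 0)) (htR 1)) (htR 3))
    (by rw [hA']; exact hAA) (by rw [hB']; exact hBB) (by rw [hA', hB']; exact hAB)
  rw [hA', hB'] at hU2v
  generalize (t 0 : Matrix (Fin 4) (Fin 4) F) = T0 at *
  generalize (t 1 : Matrix (Fin 4) (Fin 4) F) = T1 at *
  generalize w • (T0 * T1 * (t 2 : Matrix (Fin 4) (Fin 4) F)) = A' at *
  generalize w • (T0 * T1 * (t 3 : Matrix (Fin 4) (Fin 4) F)) = B' at *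
  have hV2T0 : h40_exV w A' B' * T0 = T0 * h40_exV w A' B' :=
    h40_exV_cc w A' B' T0 h0A.symm h0B.symm
  have hV2T1 : h40_exV w A' B' * T1 = T1 * h40_exV w A' B' :=
    h40_exV_cc w A' B' T1 h1A.symm h1B.symm
  have hV1V2 : h40_exV w T0 T1 * h40_exV w A' B' = h40_exV w A' B' * h40_exV w T0 T1 :=
    h40_exV_cc w T0 T1 _ hV2T0.symm hV2T1.symm
  have hcommU : Commute U1 U2 := by
    show U1 * U2 = U2 * U1
    apply Units.ext
    show (U1 : Matrix (Fin 4) (Fin 4) F) * (U2 : Matrix (Fin 4) (Fin 4) F) =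
      (U2 : Matrix (Fin 4) (Fin 4) F) * (U1 : Matrix (Fin 4) (Fin 4) F)
    rw [hU1v, hU2v, smul_mul_smul_comm, smul_mul_smul_comm, hV1V2]
  have e3 : ∀ x : Matrix (Fin 4) (Fin 4) F, x ^ 3 = x * x * x := fun x => by
    rw [pow_succ, pow_two]
  have hz : ((zw * zw : GL (Fin 4) F) : Matrix (Fin 4) (Fin 4) F) = -1 := by
    show (zw : Matrix (Fin 4) (Fin 4) F) * (zw : Matrix (Fin 4) (Fin 4) F) = -1
    rw [hzw]
    simp only [smul_mul_assoc, mul_smul_comm, mul_one, smul_smul, hw, neg_smul, one_smul]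
  have hcard4 : Matrix.trace (1 : Matrix (Fin 4) (Fin 4) F) = 4 := by
    rw [Matrix.trace_one]
    simp
  have trV1 : Matrix.trace (h40_exV w T0 T1) = 4 := by
    have h := h40_exV_trace h2 w T0 T1 s0 s1 a01 1 (by rw [mul_one, one_mul])
      (by rw [mul_one, one_mul])
    rw [mul_one] at h
    rw [h, hcard4]
  have trV2 : Matrix.trace (h40_exV w A' B') = 4 := by
    have h := h40_exV_trace h2 w A' B' hAA hBB hAB 1 (by rw [mul_one, one_mul])
      (by rw [mul_one, one_mul])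
    rw [mul_one] at h
    rw [h, hcard4]
  have trV12 : Matrix.trace (h40_exV w T0 T1 * h40_exV w A' B') = 4 := by
    rw [h40_exV_trace h2 w T0 T1 s0 s1 a01 _ hV2T0.symm hV2T1.symm, trV2]
  have h24 : (2 : F)⁻¹ * 4 = 2 := by field_simp; norm_num
  have h224 : (2 : F)⁻¹ * (2 : F)⁻¹ * 4 = 1 := by field_simp; norm_num
  have hRN : R ≤ subgroupNormalizer R := by
    unfold subgroupNormalizer
    exact Subgroup.le_normalizer
  have hv : ((zw * zw * U1 : GL (Fin 4) F) : Matrix (Fin 4) (Fin 4) F) =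
      -(U1 : Matrix (Fin 4) (Fin 4) F) := by
    show ((zw * zw : GL (Fin 4) F) : Matrix (Fin 4) (Fin 4) F) *
      (U1 : Matrix (Fin 4) (Fin 4) F) = _
    rw [hz, neg_one_mul]
  refine ⟨U1 * U2, zw * zw * U1, Subgroup.mul_mem _ hU1N hU2N,
    Subgroup.mul_mem _ (hRN (R.mul_mem hzwR hzwR)) hU1N, ?_, ?_, ?_, ?_⟩
  · rw [hcommU.mul_pow]
    apply Units.ext
    rw [Units.val_mul, Units.val_pow_eq_pow_val, Units.val_pow_eq_pow_val, e3, e3, hU1c, hU2c]
    simp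
  · apply Units.ext
    rw [Units.val_pow_eq_pow_val, e3, hv]
    simp only [neg_mul, mul_neg, neg_neg]
    rw [hU1c]
    simp
  · show Matrix.trace ((U1 : Matrix (Fin 4) (Fin 4) F) * (U2 : Matrix (Fin 4) (Fin 4) F)) = 1
    rw [hU1v, hU2v, smul_mul_smul_comm, Matrix.trace_smul, trV12, smul_eq_mul, h224]
  · rw [hv, Matrix.trace_neg, hU1v, Matrix.trace_smul, trV1, smul_eq_mul, h24]

end Cfsg.Agent.Lib.helper89.S60
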