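import Mathlib
import Cfsg.Agent.Lib.helper24.S6eDefs

/-!
# S6002 piece B5F: an element of order 5 of `GL_4(q)` has no eigenvalue 1 when `q` has order 4 mod 5

`h40_s6_five_no_fix` has the verbatim skeleton statement of `s6_five_no_fix` (racer copy,
prefixed name).
-/

set_option autoImplicit false

namespace Cfsg.Agent.Lib.helper24

open Matrix Polynomial

/-- B5F (L), racer copy -/
theorem h40_s6_five_no_fix {F : Type*} [Field F] [Fintype F]
    (h4 : orderOf ((Fintype.card F : ℕ) : ZMod 5) = 4) (c : Matrix S6I S6I F) (hc : c ^ 5 = 1) (hc1 : c ≠ 1) :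
    (c - 1).det ≠ 0 := by
  classical
  obtain ⟨p, hchar⟩ := CharP.exists F
  obtain ⟨f, hprime, hcard⟩ := FiniteField.card F p
  have : Fact p.Prime := ⟨hprime⟩
  have : Fact (Nat.Prime 5) := ⟨by norm_num⟩
  have hp5 : p ≠ 5 := by
    rintro rfl
    rw [hcard] at h4
    have h0 : ((5 ^ (f : ℕ) : ℕ) : ZMod 5) = 0 := by
      rw [Nat.cast_pow]
      have h1 : ((5 : ℕ) : ZMod 5) = 0 := ZMod.natCast_self 5
      rw [h1, zero_pow (PNat.ne_zero f)]
    rw [h0] at h4
    have h01 : (0 : ZMod 5) ≠ 1 := zero_ne_one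
    have h2 : orderOf (0 : ZMod 5) = 0 :=
      orderOf_eq_zero_iff'.2 (fun n hn => by
        rw [zero_pow hn.ne']
        exact h01)
    omega
  have hcop : p.Coprime 5 := (Nat.coprime_primes hprime (by norm_num)).2 hp5
  have h5F : (5 : F) ≠ 0 := by
    intro h
    have h1 : ((5 : ℕ) : F) = 0 := by exact_mod_cast h
    rw [CharP.cast_eq_zero_iff F p] at h1
    exact hp5 ((Nat.prime_dvd_prime_iff_eq hprime (by norm_num)).1 h1)
  have htot : Nat.totient 5 = 4 := by
    rw [Nat.totient_prime (by norm_num)]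
  have hirr : Irreducible (cyclotomic 5 F) := by
    apply irreducible_of_dvd_cyclotomic_of_natDegree (K := F) (p := p) (f := f) (n := 5) hcard hcop
      dvd_rfl
    rw [natDegree_cyclotomic, htot, ← orderOf_units, ZMod.coe_unitOfCoprime, ← hcard, h4]
  have hμmonic : (minpoly F c).Monic := minpoly.monic (Matrix.isIntegral c)
  have hμdeg : (minpoly F c).natDegree ≤ 4 := by
    have h1 := Polynomial.natDegree_le_of_dvd (Matrix.minpoly_dvd_charpoly c)
      (Matrix.charpoly_monic c).ne_zero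
    rw [Matrix.charpoly_natDegree_eq_dim] at h1
    simpa using h1
  have hN : aeval c (cyclotomic 5 F * (X - 1)) = 0 := by
    rw [cyclotomic_prime_mul_X_sub_one]
    simp [hc]
  have hμdvd : minpoly F c ∣ cyclotomic 5 F * (X - 1) := minpoly.dvd F c hN
  have hΦμ : cyclotomic 5 F ∣ minpoly F c := by
    by_contra hnd
    have hco : IsCoprime (cyclotomic 5 F) (minpoly F c) := (hirr.coprime_iff_not_dvd).2 hnd
    have h1 : minpoly F c ∣ X - 1 := hco.symm.dvd_of_dvd_mul_left hμdvd
    obtain ⟨r, hr⟩ := h1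
    have h2 : aeval c (X - 1 : F[X]) = 0 := by
      rw [hr, map_mul, minpoly.aeval, zero_mul]
    apply hc1
    simpa [sub_eq_zero] using h2
  have hμeq : minpoly F c = cyclotomic 5 F := by
    apply Polynomial.eq_of_monic_of_dvd_of_natDegree_le (cyclotomic.monic 5 F) hμmonic hΦμ
    rw [natDegree_cyclotomic, htot]
    exact hμdeg
  have hN0 : aeval c (cyclotomic 5 F) = 0 := by
    rw [← hμeq]
    exact minpoly.aeval F c
  have hpoly : (X - 1 : F[X]) * (X ^ 3 + 2 * X ^ 2 + 3 * X + 4) = cyclotomic 5 F - C 5 := by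
    rw [cyclotomic_prime]
    simp only [Finset.sum_range_succ, Finset.sum_range_zero, map_ofNat]
    ring
  have h3 := congrArg (aeval c) hpoly
  rw [map_mul, map_sub (aeval c) (cyclotomic 5 F), hN0, zero_sub] at h3
  have h4' : aeval c (X - 1 : F[X]) = c - 1 := by simp
  have h5 : aeval c (C (5 : F)) = (5 : F) • (1 : Matrix S6I S6I F) := by
    rw [aeval_C, Algebra.algebraMap_eq_smul_one]
  intro hdet
  have h6 := congrArg Matrix.det h3
  rw [Matrix.det_mul, h4', hdet, zero_mul, h5, Matrix.det_neg, Matrix.det_smul, Matrix.det_one]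
    at h6
  have h7 : (5 : F) ^ Fintype.card S6I ≠ 0 := pow_ne_zero _ h5F
  have h8 : ((-1 : F)) ^ Fintype.card S6I ≠ 0 := pow_ne_zero _ (neg_ne_zero.2 one_ne_zero)
  rw [mul_one] at h6
  exact (mul_ne_zero h8 h7) h6.symm

end Cfsg.Agent.Lib.helper24
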