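import Mathlib
import Cfsg.Agent.Lib.helper24.S6eDefs

/-!
# S6002 piece BTF: the trace formula `tr y * tr y⁻¹ = |C_R(y)| / 2`

`h40_s6_trace_formula` has the verbatim skeleton statement of `s6_trace_formula` (racer copy,
prefixed name).
-/

set_option autoImplicit false

namespace Cfsg.Agent.Lib.helper24

open Matrix Cfsg Cfsg.Geo

/-- the trace of `y⁻¹ s y s⁻¹` for `s ∈ R` -/
theorem h40_s6_trace_term {F : Type*} [Field F] (h2 : (2 : F) ≠ 0) (R : Subgroup (GL S6I F))
    (hG : S6Good R) (y : GL S6I F) (hy : y ∈ subgroupNormalizer R) (k : ℕ) (hk : Odd k)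
    (hyk : y ^ k = 1) (s : GL S6I F) (hs : s ∈ R) [Decidable (y * s = s * y)] :
    Matrix.trace (((y⁻¹ * s * y * s⁻¹ : GL S6I F) : GL S6I F) : Matrix S6I S6I F) =
      if y * s = s * y then (4 : F) else 0 := by
  have hcR : y⁻¹ * s * y * s⁻¹ ∈ R := by
    have h1 : y⁻¹ * s * y ∈ R := (Subgroup.mem_set_normalizer_iff''.1 hy s).1 hs
    exact R.mul_mem h1 (R.inv_mem hs)
  by_cases hcomm : y * s = s * y
  · rw [if_pos hcomm]
    have h1 : y⁻¹ * s * y * s⁻¹ = 1 := by
      rw [mul_assoc y⁻¹ s y, ← hcomm]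
      group
    rw [h1]
    simp [Matrix.trace_one]
  · rw [if_neg hcomm]
    apply hG.tr0 _ hcR
    · intro h1
      apply hcomm
      have h3 : y⁻¹ * s * y * s⁻¹ = 1 := Units.ext h1
      have h4 : y⁻¹ * s * y = s := mul_inv_eq_one.1 h3
      calc y * s = y * (y⁻¹ * s * y) := by rw [h4]
        _ = s * y := by group
    · intro hneg
      obtain ⟨z, -, hz⟩ := hG.neg
      have hzc : ∀ g : GL S6I F, z * g = g * z := by
        intro g
        apply Units.ext
        rw [Units.val_mul, Units.val_mul, hz]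
        simp
      have hz2 : z * z = 1 := by
        apply Units.ext
        rw [Units.val_mul, hz]
        simp
      have hys : y⁻¹ * s * y = z * s := by
        have h3 : y⁻¹ * s * y * s⁻¹ = z := Units.ext (by rw [hneg, hz])
        rw [← h3]
        group
      have hind : ∀ j : ℕ, y⁻¹ ^ j * s * y ^ j = z ^ j * s := by
        intro j
        induction j with
        | zero => simp
        | succ j ih =>
          have e1 : y⁻¹ ^ (j + 1) * s * y ^ (j + 1) = y⁻¹ * (y⁻¹ ^ j * s * y ^ j) * y := by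
            rw [pow_succ', pow_succ]
            group
          have hcz : Commute (z ^ j) y⁻¹ := Commute.pow_left (hzc y⁻¹) j
          have e2 : y⁻¹ * (z ^ j * s) * y = z ^ j * (y⁻¹ * s * y) := by
            calc y⁻¹ * (z ^ j * s) * y = (y⁻¹ * z ^ j) * s * y := by group
              _ = (z ^ j * y⁻¹) * s * y := by rw [hcz.eq]
              _ = z ^ j * (y⁻¹ * s * y) := by group
          rw [e1, ih, e2, hys, ← mul_assoc, ← pow_succ]
      have hk' := hind k
      rw [inv_pow, hyk, inv_one, one_mul, mul_one] at hk'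
      have hzk : z ^ k = 1 := by
        have h5 : z ^ k * s = 1 * s := by rw [one_mul, ← hk']
        exact mul_right_cancel h5
      obtain ⟨m, rfl⟩ := hk
      have hz1 : z = 1 := by
        rw [pow_succ, pow_mul, pow_two, hz2, one_pow, one_mul] at hzk
        exact hzk
      have h6 : (z : Matrix S6I S6I F) = 1 := by rw [hz1]; rfl
      rw [hz] at h6
      have h7 := congrFun (congrFun h6 (Sum.inl 0)) (Sum.inl 0)
      simp at h7
      apply h2
      linear_combination (-1 : F) * h7

/-- BTF (L), racer copy -/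
theorem h40_s6_trace_formula {F : Type*} [Field F] [Fintype F] (h2 : (2 : F) ≠ 0) (R : Subgroup (GL S6I F)) (hG : S6Good R)
    (y : GL S6I F) (hy : y ∈ subgroupNormalizer R) (k : ℕ) (hk : Odd k) (hyk : y ^ k = 1) :
    Matrix.trace (y : Matrix S6I S6I F) * Matrix.trace ((y⁻¹ : GL S6I F) : Matrix S6I S6I F) =
      ((Nat.card {s : GL S6I F // s ∈ R ∧ y * s = s * y} : ℕ) : F) / 2 := by
  classical
  have : Finite (GL S6I F) := inferInstance
  let _ : Fintype R := Fintype.ofFinite R
  have havg := hG.avg (y : Matrix S6I S6I F)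
  rw [finsum_eq_sum_of_fintype] at havg
  have h1 : ∑ s : R, Matrix.trace (((y⁻¹ : GL S6I F) : Matrix S6I S6I F) *
      (((s : GL S6I F) : Matrix S6I S6I F) * (y : Matrix S6I S6I F) *
        (((s : GL S6I F)⁻¹ : GL S6I F) : Matrix S6I S6I F))) =
      8 * Matrix.trace (y : Matrix S6I S6I F) *
        Matrix.trace ((y⁻¹ : GL S6I F) : Matrix S6I S6I F) := by
    rw [← Matrix.trace_sum, ← Finset.mul_sum, havg, Matrix.mul_smul, Matrix.mul_one,
      Matrix.trace_smul, smul_eq_mul]
  have hterm : ∀ s : R, Matrix.trace (((y⁻¹ : GL S6I F) : Matrix S6I S6I F) *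
      (((s : GL S6I F) : Matrix S6I S6I F) * (y : Matrix S6I S6I F) *
        (((s : GL S6I F)⁻¹ : GL S6I F) : Matrix S6I S6I F))) =
      if y * (s : GL S6I F) = (s : GL S6I F) * y then (4 : F) else 0 := by
    intro s
    rw [← h40_s6_trace_term h2 R hG y hy k hk hyk (s : GL S6I F) s.2]
    congr 1
    simp only [Units.val_mul, Matrix.mul_assoc]
  rw [Finset.sum_congr rfl (fun s _ => hterm s)] at h1
  rw [Finset.sum_ite, Finset.sum_const, Finset.sum_const_zero, add_zero, nsmul_eq_mul] at h1
  have hcard : Nat.card {s : GL S6I F // s ∈ R ∧ y * s = s * y} =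
      (Finset.univ.filter (fun s : R => y * (s : GL S6I F) = (s : GL S6I F) * y)).card := by
    rw [← Fintype.card_subtype, ← Nat.card_eq_fintype_card]
    exact Nat.card_congr (Equiv.subtypeSubtypeEquivSubtypeInter (fun s : GL S6I F => s ∈ R)
      (fun s : GL S6I F => y * s = s * y)).symm
  rw [hcard]
  have h8 : (8 : F) ≠ 0 := by
    have : (8 : F) = 2 * 2 * 2 := by norm_num
    rw [this]
    exact mul_ne_zero (mul_ne_zero h2 h2) h2
  have h4 : (4 : F) ≠ 0 := by
    have : (4 : F) = 2 * 2 := by norm_num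
    rw [this]
    exact mul_ne_zero h2 h2
  field_simp
  apply mul_left_cancel₀ h4
  linear_combination (-1 : F) * h1
end Cfsg.Agent.Lib.helper24
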