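import Mathlib
import Cfsg.Agent.Lib.helper49.SPEDefs

/-!
# S2333 piece ESTRUCT: the structure of a quadratic form all of whose singular vectors are radical

`h40_ell_struct` has the verbatim skeleton statement of `ell_struct` (racer copy, prefixed name).
-/

set_option autoImplicit false

namespace Cfsg.Agent.Lib.helper49.SPE

open Matrix

/-- squares are surjective in a finite field of characteristic 2 -/
theorem h40_exists_sqrt {F : Type*} [Field F] [Finite F] (h2 : (2 : F) = 0) (d : F) :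
    ∃ s : F, s ^ 2 = d := by
  have hinj : Function.Injective (fun x : F => x ^ 2) := by
    intro x y hxy
    have hxy' : x ^ 2 = y ^ 2 := hxy
    have h1 : (x - y) ^ 2 = 0 := by
      have h3 : (x - y) ^ 2 = x ^ 2 - y ^ 2 - 2 * (x * y - y ^ 2) := by ring
      rw [h3, h2, zero_mul, sub_zero]
      exact sub_eq_zero.2 hxy'
    exact sub_eq_zero.1 ((pow_eq_zero_iff two_ne_zero).1 h1)
  exact (Finite.injective_iff_surjective.1 hinj) d

theorem h40_qadd {F : Type*} [Field F] {n : ℕ} (M : Matrix (Fin n) (Fin n) F)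
    (u v : Fin n → F) :
    (u + v) ⬝ᵥ (M *ᵥ (u + v)) =
      u ⬝ᵥ (M *ᵥ u) + v ⬝ᵥ (M *ᵥ v) + u ⬝ᵥ ((M + Mᵀ) *ᵥ v) := by
  rw [Matrix.mulVec_add, add_dotProduct, dotProduct_add, dotProduct_add, Matrix.add_mulVec,
    dotProduct_add]
  have h1 : v ⬝ᵥ (M *ᵥ u) = u ⬝ᵥ (Mᵀ *ᵥ v) := by
    rw [Matrix.mulVec_transpose, dotProduct_comm u, ← Matrix.dotProduct_mulVec]
  rw [h1]
  ring

theorem h40_ell_core {F : Type*} [Field F] [Finite F] {n : ℕ} (h2 : (2 : F) = 0)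
    (M : Matrix (Fin n) (Fin n) F)
    (hE : ∀ u : Fin n → F, u ⬝ᵥ (M *ᵥ u) = 0 → ∀ v, u ⬝ᵥ ((M + Mᵀ) *ᵥ v) = 0)
    (u₀ v₀ : Fin n → F) (h0 : u₀ ⬝ᵥ ((M + Mᵀ) *ᵥ v₀) ≠ 0) :
    ∃ (a b c : F) (l m : Fin n → F), b ≠ 0 ∧ (∀ s t : F, bq a b c s t = 0 → s = 0 ∧ t = 0) ∧
      Indep l m ∧ ∀ x : Fin n → F, x ⬝ᵥ (M *ᵥ x) = bq a b c (l ⬝ᵥ x) (m ⬝ᵥ x) := by
  classical
  obtain ⟨Q, hQdef⟩ : ∃ Q : (Fin n → F) → F, ∀ x, Q x = x ⬝ᵥ (M *ᵥ x) := ⟨_, fun _ => rfl⟩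
  obtain ⟨B, hBdef⟩ : ∃ B : (Fin n → F) → (Fin n → F) → F,
      ∀ u v, B u v = u ⬝ᵥ ((M + Mᵀ) *ᵥ v) := ⟨_, fun _ _ => rfl⟩
  have hE' : ∀ u, Q u = 0 → ∀ v, B u v = 0 := by
    intro u hu v
    rw [hBdef]
    exact hE u (by rw [← hQdef]; exact hu) v
  have hb0 : B u₀ v₀ ≠ 0 := by
    rw [hBdef]
    exact h0
  have hBadd : ∀ u u' v, B (u + u') v = B u v + B u' v := by
    intro u u' v
    rw [hBdef, hBdef, hBdef, add_dotProduct]
  have hBsub : ∀ u u' v, B (u - u') v = B u v - B u' v := by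
    intro u u' v
    rw [hBdef, hBdef, hBdef, sub_dotProduct]
  have hBsmul : ∀ (c : F) u v, B (c • u) v = c * B u v := by
    intro c u v
    rw [hBdef, hBdef, smul_dotProduct, smul_eq_mul]
  have hST : (M + Mᵀ)ᵀ = M + Mᵀ := by
    rw [Matrix.transpose_add, Matrix.transpose_transpose, add_comm]
  have hBsymm : ∀ u v, B u v = B v u := by
    intro u v
    rw [hBdef, hBdef, Matrix.dotProduct_mulVec, ← Matrix.mulVec_transpose, dotProduct_comm, hST]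
  have hQadd : ∀ u v, Q (u + v) = Q u + Q v + B u v := by
    intro u v
    rw [hQdef, hQdef, hQdef, hBdef, h40_qadd]
  have hQsmul : ∀ (c : F) u, Q (c • u) = c ^ 2 * Q u := by
    intro c u
    rw [hQdef, hQdef, Matrix.mulVec_smul, smul_dotProduct, dotProduct_smul, smul_eq_mul,
      smul_eq_mul]
    ring
  have hBself : ∀ u, B u u = 0 := by
    intro u
    rw [hBdef, Matrix.add_mulVec, dotProduct_add]
    have h1 : u ⬝ᵥ (Mᵀ *ᵥ u) = u ⬝ᵥ (M *ᵥ u) := by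
      rw [Matrix.mulVec_transpose, dotProduct_comm u, ← Matrix.dotProduct_mulVec]
    rw [h1, ← two_mul, h2, zero_mul]
  have hN : ∀ s t : F, Q (s • u₀ + t • v₀) = bq (Q u₀) (B u₀ v₀) (Q v₀) s t := by
    intro s t
    rw [hQadd, hQsmul, hQsmul, hBsmul, hBsymm u₀ (t • v₀), hBsmul, hBsymm v₀ u₀]
    unfold bq
    ring
  have haniso : ∀ s t : F, bq (Q u₀) (B u₀ v₀) (Q v₀) s t = 0 → s = 0 ∧ t = 0 := by
    intro s t hst
    rw [← hN] at hst
    have h1 := hE' _ hst v₀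
    have h3 := hE' _ hst u₀
    rw [hBadd, hBsmul, hBsmul, hBself, mul_zero, add_zero] at h1
    rw [hBadd, hBsmul, hBsmul, hBself, mul_zero, zero_add, hBsymm v₀ u₀] at h3
    exact ⟨(mul_eq_zero.1 h1).resolve_right hb0, (mul_eq_zero.1 h3).resolve_right hb0⟩
  obtain ⟨l, hldef⟩ : ∃ l : Fin n → F, l = (B u₀ v₀)⁻¹ • ((M + Mᵀ) *ᵥ v₀) := ⟨_, rfl⟩
  obtain ⟨m, hmdef⟩ : ∃ m : Fin n → F, m = (B u₀ v₀)⁻¹ • ((M + Mᵀ) *ᵥ u₀) := ⟨_, rfl⟩
  have hl : ∀ x, l ⬝ᵥ x = (B u₀ v₀)⁻¹ * B x v₀ := by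
    intro x
    rw [hldef, smul_dotProduct, smul_eq_mul, dotProduct_comm, ← hBdef]
  have hm : ∀ x, m ⬝ᵥ x = (B u₀ v₀)⁻¹ * B x u₀ := by
    intro x
    rw [hmdef, smul_dotProduct, smul_eq_mul, dotProduct_comm, ← hBdef]
  have hbb : (B u₀ v₀)⁻¹ * B u₀ v₀ = 1 := inv_mul_cancel₀ hb0
  refine ⟨Q u₀, B u₀ v₀, Q v₀, l, m, hb0, haniso, ?_, ?_⟩
  · intro s t hst
    have h1 : (s • l + t • m) ⬝ᵥ u₀ = 0 := by
      rw [hst, zero_dotProduct]
    have h3 : (s • l + t • m) ⬝ᵥ v₀ = 0 := by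
      rw [hst, zero_dotProduct]
    rw [add_dotProduct, smul_dotProduct, smul_dotProduct, hl, hm, hBself, mul_zero, smul_zero,
      add_zero, smul_eq_mul, hbb, mul_one] at h1
    rw [add_dotProduct, smul_dotProduct, smul_dotProduct, hl, hm, hBself, mul_zero, smul_zero,
      zero_add, smul_eq_mul, hBsymm v₀ u₀, hbb, mul_one] at h3
    exact ⟨h1, h3⟩
  · intro x
    rw [hl, hm, ← hQdef]
    obtain ⟨lam, hlam⟩ : ∃ lam : F, lam = (B u₀ v₀)⁻¹ * B x v₀ := ⟨_, rfl⟩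
    obtain ⟨mu, hmu⟩ : ∃ mu : F, mu = (B u₀ v₀)⁻¹ * B x u₀ := ⟨_, rfl⟩
    rw [← hlam, ← hmu]
    obtain ⟨z, hz⟩ : ∃ z : Fin n → F, z = x - (lam • u₀ + mu • v₀) := ⟨_, rfl⟩
    have hx : x = z + (lam • u₀ + mu • v₀) := by
      rw [hz, sub_add_cancel]
    have hzu : B z u₀ = 0 := by
      rw [hz, hBsub, hBadd, hBsmul, hBsmul, hBself, mul_zero, zero_add, hBsymm v₀ u₀, hmu,
        mul_comm ((B u₀ v₀)⁻¹) (B x u₀), mul_assoc, hbb, mul_one, sub_self]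
    have hzv : B z v₀ = 0 := by
      rw [hz, hBsub, hBadd, hBsmul, hBsmul, hBself, mul_zero, add_zero, hlam,
        mul_comm ((B u₀ v₀)⁻¹) (B x v₀), mul_assoc, hbb, mul_one, sub_self]
    have hBz : B z (lam • u₀ + mu • v₀) = 0 := by
      rw [hBsymm, hBadd, hBsmul, hBsmul, hBsymm u₀ z, hBsymm v₀ z, hzu, hzv, mul_zero, mul_zero,
        add_zero]
    have hQx : Q x = Q z + bq (Q u₀) (B u₀ v₀) (Q v₀) lam mu := by
      conv_lhs => rw [hx]
      rw [hQadd, hN, hBz, add_zero]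
    have hz0 : Q z = 0 := by
      by_contra hd
      have ha0 : Q u₀ ≠ 0 := by
        intro ha0
        have h5 := haniso 1 0 (by unfold bq; rw [ha0]; ring)
        exact one_ne_zero h5.1
      obtain ⟨s, hs⟩ := h40_exists_sqrt h2 (Q z / Q u₀)
      have hw : Q (s • u₀ + z) = 0 := by
        rw [hQadd, hQsmul, hBsmul, hBsymm u₀ z, hzu, mul_zero, add_zero, hs,
          div_mul_cancel₀ _ ha0, ← two_mul, h2, zero_mul]
      have h5 := hE' _ hw v₀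
      rw [hBadd, hBsmul, hzv, add_zero] at h5
      have hs0 : s = 0 := (mul_eq_zero.1 h5).resolve_right hb0
      rw [hs0] at hs
      have h6 : Q z / Q u₀ = 0 := by
        rw [← hs]
        ring
      rcases div_eq_zero_iff.1 h6 with h | h
      · exact hd h
      · exact ha0 h
    rw [hQx, hz0, zero_add]

/-- ESTRUCT (L), racer copy -/
theorem h40_ell_struct {F : Type*} [Field F] [Fintype F] {n : ℕ} (h2 : (2 : F) = 0)
    (Q : (Fin n → F) → F) (hQ : IsQF Q) (hE : ∀ u, Q u = 0 → ∀ v, polar Q u v = 0)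
    (u₀ v₀ : Fin n → F) (h0 : polar Q u₀ v₀ ≠ 0) :
    ∃ (a b c : F) (l m : Fin n → F), b ≠ 0 ∧ (∀ s t : F, bq a b c s t = 0 → s = 0 ∧ t = 0) ∧
      Indep l m ∧ ∀ x, Q x = bq a b c (l ⬝ᵥ x) (m ⬝ᵥ x) := by
  obtain ⟨M, hM⟩ := hQ
  have hQM : ∀ x, Q x = x ⬝ᵥ (M *ᵥ x) := by
    intro x
    rw [hM]
    simp only [dotProduct, Matrix.mulVec, Finset.mul_sum]
    apply Finset.sum_congr rfl
    intro i _
    apply Finset.sum_congr rfl
    intro j _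
    ring
  have hpol : ∀ u v, polar Q u v = u ⬝ᵥ ((M + Mᵀ) *ᵥ v) := by
    intro u v
    unfold polar
    rw [hQM, hQM, hQM, h40_qadd]
    ring
  obtain ⟨a, b, c, l, m, hb, han, hind, hx⟩ := h40_ell_core h2 M
    (fun u hu v => by
      rw [← hpol]
      exact hE u (by rw [hQM]; exact hu) v) u₀ v₀
    (by
      rw [← hpol]
      exact h0)
  exact ⟨a, b, c, l, m, hb, han, hind, fun x => by rw [hQM]; exact hx x⟩

end Cfsg.Agent.Lib.helper49.SPE
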