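import Mathlib
import Cfsg.Agent.Lib.helper44.SUODefs
import Cfsg.Agent.Lib.helper29.SUWFSIG
import Cfsg.Agent.Lib.helper61.SUWFSKEW

/-!
# S2334 piece OHEIS: Heisenberg data for a non-zero skew-Hermitian `Y`

`h40_heis_data` has the verbatim skeleton statement of `heis_data` (racer copy, prefixed name).
Route: `Y i0 l0 ≠ 0`; `tx i = κ_i • e_{l0}` with `κ_i` running over the `q` skew scalars
(`σ κ = -κ`), `tz j = σ (η κ_j / Y i0 l0) • e_{i0}` with `η + σ η = 1`; then
`tr (Y * cmat (tx i) (tz j)) = κ_i κ_j`.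
-/

set_option autoImplicit false

namespace Cfsg.Agent.Lib.helper44.SUW

open Matrix

theorem h40_trace_cmat_single {K : Type*} [Field K] (σ : K →+* K) {m : ℕ}
    (Y : Matrix (Fin m) (Fin m) K) (i0 l0 : Fin m) (s c : K) :
    Matrix.trace (Y * cmat σ (Pi.single l0 s) (Pi.single i0 c)) =
      Y i0 l0 * (s * σ c) - Y l0 i0 * (c * σ s) := by
  classical
  have h1 : Matrix.trace (Y * cmat σ (Pi.single l0 s) (Pi.single i0 c)) =
      ∑ a, ((∑ b, Y a b * ((Pi.single l0 s : Fin m → K) b * σ ((Pi.single i0 c : Fin m → K) a)))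
        - ∑ b, Y a b * ((Pi.single i0 c : Fin m → K) b * σ ((Pi.single l0 s : Fin m → K) a))) := by
    simp only [Matrix.trace, Matrix.diag_apply, Matrix.mul_apply, cmat, Matrix.sub_apply,
      Matrix.vecMulVec_apply, mul_sub, Finset.sum_sub_distrib]
  rw [h1, Finset.sum_sub_distrib]
  congr 1
  · rw [Finset.sum_eq_single i0]
    · rw [Finset.sum_eq_single l0]
      · simp
      · intro b _ hb
        simp [hb]
      · intro h
        exact absurd (Finset.mem_univ _) h
    · intro a _ ha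
      apply Finset.sum_eq_zero
      intro b _
      simp [Pi.single_apply, ha]
    · intro h
      exact absurd (Finset.mem_univ _) h
  · rw [Finset.sum_eq_single l0]
    · rw [Finset.sum_eq_single i0]
      · simp
      · intro b _ hb
        simp [hb]
      · intro h
        exact absurd (Finset.mem_univ _) h
    · intro a _ ha
      apply Finset.sum_eq_zero
      intro b _
      simp [Pi.single_apply, ha]
    · intro h
      exact absurd (Finset.mem_univ _) h

theorem h40_cmat_single_zero {K : Type*} [Field K] (σ : K →+* K) {m : ℕ} (l0 : Fin m) (s s' : K)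
    (h : s * σ s' = s' * σ s) : cmat σ (Pi.single l0 s) (Pi.single l0 s') = 0 := by
  classical
  ext a b
  simp only [cmat, Matrix.sub_apply, Matrix.vecMulVec_apply, Matrix.zero_apply, Pi.single_apply]
  by_cases ha : a = l0 <;> by_cases hb : b = l0 <;> simp [ha, hb, h]

/-- OHEIS (L), racer copy -/
theorem h40_heis_data {K : Type*} [Field K] [Fintype K] {q m : ℕ} (hK : Fintype.card K = q ^ 2)
    (σ : K →+* K) (hσ : ∀ x, σ x = x ^ q) (ψ : AddChar K ℂ) (hψ : ψ 1 ≠ 1)
    (Y : Matrix (Fin m) (Fin m) K) (hY : Y ∈ skewH σ m) (hY0 : Y ≠ 0) :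
    ∃ (r : ℕ) (tx : Fin r → Fin m → K) (tz : Fin q → Fin m → K),
      (∀ i i', cmat σ (tx i) (tx i') = 0) ∧
      ∀ j j', j ≠ j' → ∃ i, ψ (Matrix.trace (Y * cmat σ (tx i) (tz j))) ≠
        ψ (Matrix.trace (Y * cmat σ (tx i) (tz j'))) := by
  classical
  obtain ⟨hσσ, hσid⟩ := sigma_facts hK σ hσ
  obtain ⟨η, hη⟩ : ∃ η : K, η + σ η = 1 := by
    have hex : ∃ θ : K, σ θ ≠ θ := by
      by_contra hcon
      apply hσid
      ext θ
      by_contra h2
      exact hcon ⟨θ, h2⟩
    obtain ⟨θ, hθ⟩ := hex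
    have hd : θ - σ θ ≠ 0 := sub_ne_zero.2 (Ne.symm hθ)
    have hd' : σ θ - θ ≠ 0 := sub_ne_zero.2 hθ
    refine ⟨θ / (θ - σ θ), ?_⟩
    rw [map_div₀, map_sub, hσσ]
    field_simp
    ring
  have hcard := card_skew hK σ hσ
  let en : Fin q ≃ {c : K // σ c = -c} := (Finite.equivFinOfCardEq hcard).symm
  obtain ⟨i0, l0, hy0⟩ : ∃ i0 l0, Y i0 l0 ≠ 0 := by
    by_contra hcon
    apply hY0
    ext i j
    by_contra h2
    exact hcon ⟨i, j, h2⟩
  have hYl : Y l0 i0 = -σ (Y i0 l0) := by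
    have h1 := hY i0 l0
    rw [h1, neg_neg]
  have hsy : σ (Y i0 l0) ≠ 0 := (map_ne_zero σ).2 hy0
  have hση : σ η = 1 - η := by
    rw [← hη]
    ring
  have htr : ∀ i j, Matrix.trace (Y * cmat σ (Pi.single l0 (en i).1)
      (Pi.single i0 (σ (η * (en j).1 * (Y i0 l0)⁻¹)))) = (en i).1 * (en j).1 := by
    intro i j
    rw [h40_trace_cmat_single, hσσ, hYl, map_mul, map_mul, map_inv₀, (en i).2, (en j).2, hση]
    field_simp
    ring
  refine ⟨q, fun i => Pi.single l0 (en i).1,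
    fun j => Pi.single i0 (σ (η * (en j).1 * (Y i0 l0)⁻¹)), ?_, ?_⟩
  · intro i i'
    apply h40_cmat_single_zero
    rw [(en i).2, (en i').2]
    ring
  · intro j j' hjj
    have hδ : (en j).1 - (en j').1 ≠ 0 := by
      intro h0
      apply hjj
      apply en.injective
      exact Subtype.ext (sub_eq_zero.1 h0)
    have hδs : σ ((en j).1 - (en j').1)⁻¹ = -((en j).1 - (en j').1)⁻¹ := by
      rw [map_inv₀, map_sub, (en j).2, (en j').2]
      rw [show -(en j).1 - -(en j').1 = -((en j).1 - (en j').1) by ring, inv_neg]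
    refine ⟨en.symm ⟨((en j).1 - (en j').1)⁻¹, hδs⟩, ?_⟩
    show ψ (Matrix.trace (Y * cmat σ (Pi.single l0 (en (en.symm ⟨((en j).1 - (en j').1)⁻¹, hδs⟩)).1)
      (Pi.single i0 (σ (η * (en j).1 * (Y i0 l0)⁻¹))))) ≠
      ψ (Matrix.trace (Y * cmat σ (Pi.single l0 (en (en.symm ⟨((en j).1 - (en j').1)⁻¹, hδs⟩)).1)
      (Pi.single i0 (σ (η * (en j').1 * (Y i0 l0)⁻¹)))))
    rw [htr, htr, Equiv.apply_symm_apply]
    have h1 : ((en j).1 - (en j').1)⁻¹ * (en j).1 = ((en j).1 - (en j').1)⁻¹ * (en j').1 + 1 := by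
      field_simp
      ring
    rw [h1, AddChar.map_add_eq_mul]
    intro h2
    apply hψ
    have h3 : ψ (((en j).1 - (en j').1)⁻¹ * (en j').1) ≠ 0 := (AddChar.val_isUnit ψ _).ne_zero
    exact mul_left_cancel₀ h3 (by rw [h2, mul_one])

end Cfsg.Agent.Lib.helper44.SUW
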