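import Mathlib
import Cfsg.Agent.Lib.helper44.SUODefs

/-!
# S2334 piece OQIND: the joint eigenspaces `eigS ρ u e y` are independent

`eig_indep` has the verbatim skeleton statement.
-/

set_option autoImplicit false

namespace Cfsg.Agent.Lib.helper44.SUW

/-- OQIND (L) -/
theorem eig_indep {G : Type*} [Group G] {A : Type*} [AddCommGroup A] [Fintype A]
    (e : A → A → ℂ) (he0 : ∀ y, e y 0 = 1) (he_add : ∀ y a b, e y (a + b) = e y a * e y b)
    (he_row : ∀ y y', y ≠ y' → ∑ a, e y a * (e y' a)⁻¹ = 0)
    (u : A → G) (hu : ∀ a b, u (a + b) = u a * u b)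
    {k : ℕ} (ρ : Representation ℂ G (Fin k → ℂ)) :
    ∑ y : A, Module.finrank ℂ (eigS ρ u e y) ≤ k := by
  classical
  have hne : ∀ y a, e y a ≠ 0 := by
    intro y a h0
    have h1 := he_add y a (-a)
    rw [add_neg_cancel, he0, h0, zero_mul] at h1
    exact one_ne_zero h1
  let f : (∀ y : A, eigS ρ u e y) →ₗ[ℂ] (Fin k → ℂ) :=
    ∑ y : A, (eigS ρ u e y).subtype.comp (LinearMap.proj y)
  have hf : ∀ w, f w = ∑ y : A, (w y : Fin k → ℂ) := by
    intro w
    simp [f, LinearMap.sum_apply]
  have hinj : Function.Injective f := by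
    rw [← LinearMap.ker_eq_bot, LinearMap.ker_eq_bot']
    intro w hw
    rw [hf] at hw
    funext y0
    have h1 : ∀ a : A, ∑ y : A, e y a • (w y : Fin k → ℂ) = 0 := by
      intro a
      have h2 := congrArg (ρ (u a)) hw
      rw [map_sum, map_zero] at h2
      rw [← h2]
      apply Finset.sum_congr rfl
      intro y _
      exact ((w y).2 a).symm
    have h3 : ∑ a : A, (e y0 a)⁻¹ • ∑ y : A, e y a • (w y : Fin k → ℂ) = 0 := by
      apply Finset.sum_eq_zero
      intro a _
      rw [h1 a, smul_zero]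
    have h4 : ∑ a : A, (e y0 a)⁻¹ • ∑ y : A, e y a • (w y : Fin k → ℂ)
        = ∑ y : A, (∑ a : A, e y a * (e y0 a)⁻¹) • (w y : Fin k → ℂ) := by
      simp_rw [Finset.smul_sum, smul_smul]
      rw [Finset.sum_comm]
      apply Finset.sum_congr rfl
      intro y _
      rw [Finset.sum_smul]
      apply Finset.sum_congr rfl
      intro a _
      rw [mul_comm]
    rw [h4] at h3
    rw [Finset.sum_eq_single y0] at h3
    · have h5 : ∑ a : A, e y0 a * (e y0 a)⁻¹ = (Fintype.card A : ℂ) := by
        rw [Finset.sum_congr rfl (fun a _ => mul_inv_cancel₀ (hne y0 a))]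
        simp
      rw [h5] at h3
      have h6 : (Fintype.card A : ℂ) ≠ 0 := by
        exact_mod_cast Fintype.card_ne_zero
      have h7 := (smul_eq_zero.1 h3).resolve_left h6
      exact Subtype.ext h7
    · intro y _ hy
      rw [he_row y y0 hy, zero_smul]
    · intro h
      exact absurd (Finset.mem_univ _) h
  have h8 := LinearMap.finrank_le_finrank_of_injective hinj
  rw [Module.finrank_pi_fintype] at h8
  simpa using h8

end Cfsg.Agent.Lib.helper44.SUW
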