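import Mathlib
import Cfsg.Prelude.Def_Classical
import Cfsg.Prelude.Def_GeometricClasses

/-!
# S5977 / S5978 block [A], piece JBASIS: an isometry with `x * x = -1` has an orthogonal basis
`e_1, .., e_m, x e_1, .., x e_m`

`h40_sfk_j_basis` has the verbatim skeleton statement of `sfk_j_basis` (racer copy, prefixed
name).
-/

set_option autoImplicit false

namespace Cfsg.Agent.Lib.helper59.Sfk

open Matrix Cfsg.Geo

/-- the inductive core: an `X`-invariant nondegenerate subspace is spanned by an orthogonal
family `e_i, X e_i` -/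
theorem h40_j_core {F : Type*} [Field F] {V : Type*} [AddCommGroup V] [Module F V]
    [FiniteDimensional F V] (h2 : (2 : F) ≠ 0) (Q : V → F) (B : LinearMap.BilinForm F V)
    (hBQ : ∀ u v, B u v = Q (u + v) - Q u - Q v) (hBself : ∀ v, B v v = 2 * Q v)
    (hBsymm : ∀ u v, B u v = B v u)
    (X : V →ₗ[F] V) (hQX : ∀ v, Q (X v) = Q v) (hXX : ∀ v, X (X v) = -v) :
    ∀ (k : ℕ) (W : Submodule F V), Module.finrank F W = k →
      (∀ w ∈ W, X w ∈ W) → (∀ w ∈ W, w ≠ 0 → ∃ y ∈ W, B y w ≠ 0) →
      ∃ (m : ℕ) (e : Fin m → V), (∀ i, e i ∈ W) ∧ (∀ i j, i ≠ j → B (e i) (e j) = 0) ∧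
        (∀ i j, B (e i) (X (e j)) = 0) ∧ (∀ i, Q (e i) ≠ 0) ∧
        ∀ w ∈ W, w ∈ Submodule.span F (Set.range e ∪ Set.range (fun i => X (e i))) := by
  have hBX : ∀ u v, B (X u) (X v) = B u v := by
    intro u v
    rw [hBQ, hBQ, ← map_add, hQX, hQX, hQX]
  have hBskew : ∀ u v, B (X u) v = -B u (X v) := by
    intro u v
    have h1 := hBX (X u) v
    rw [hXX, map_neg, LinearMap.neg_apply] at h1
    rw [← h1]
  have hBeX : ∀ e, B e (X e) = 0 := by
    intro e
    have h1 := hBskew e e
    rw [hBsymm (X e) e] at h1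
    have h3 : 2 * B e (X e) = 0 := by linear_combination h1
    exact (mul_eq_zero.1 h3).resolve_left h2
  intro k
  induction k using Nat.strong_induction_on with
  | _ k ih =>
    intro W hW hinv hnd
    by_cases hW0 : W = ⊥
    · refine ⟨0, Fin.elim0, fun i => i.elim0, fun i => i.elim0, fun i => i.elim0,
        fun i => i.elim0, ?_⟩
      intro w hw
      rw [hW0, Submodule.mem_bot] at hw
      rw [hw]
      exact Submodule.zero_mem _
    · obtain ⟨e0, he0W, he0⟩ : ∃ e0 ∈ W, Q e0 ≠ 0 := by
        by_contra hcon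
        have hcon' : ∀ e0 ∈ W, Q e0 = 0 := by
          intro e0 he0W
          by_contra h
          exact hcon ⟨e0, he0W, h⟩
        obtain ⟨w, hwW, hw0⟩ := (Submodule.ne_bot_iff W).1 hW0
        obtain ⟨y, hyW, hy⟩ := hnd w hwW hw0
        apply hy
        rw [hBQ, hcon' _ (W.add_mem hyW hwW), hcon' y hyW, hcon' w hwW]
        simp
      have hf0W : X e0 ∈ W := hinv e0 he0W
      have hQf0 : Q (X e0) ≠ 0 := by
        rw [hQX]
        exact he0
      have hBe0 : B e0 e0 ≠ 0 := by
        rw [hBself]
        exact mul_ne_zero h2 he0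
      have hBf0 : B (X e0) (X e0) ≠ 0 := by
        rw [hBself]
        exact mul_ne_zero h2 hQf0
      have hef : B e0 (X e0) = 0 := hBeX e0
      have hfe : B (X e0) e0 = 0 := by
        rw [hBsymm]
        exact hef
      obtain ⟨W', hmemW'⟩ : ∃ W' : Submodule F V,
          ∀ v, v ∈ W' ↔ v ∈ W ∧ B v e0 = 0 ∧ B v (X e0) = 0 :=
        ⟨W ⊓ LinearMap.ker (B.flip e0) ⊓ LinearMap.ker (B.flip (X e0)), fun v => by
          simp only [Submodule.mem_inf, LinearMap.mem_ker, and_assoc]
          exact Iff.rfl⟩
      have hW'le : W' ≤ W := fun v hv => ((hmemW' v).1 hv).1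
      have hW'lt : W' < W := by
        refine lt_of_le_of_ne hW'le ?_
        intro heq
        have h1 : e0 ∈ W' := by
          rw [heq]
          exact he0W
        exact hBe0 ((hmemW' e0).1 h1).2.1
      have hk' : Module.finrank F W' < k := by
        rw [← hW]
        exact Submodule.finrank_lt_finrank_of_lt hW'lt
      have hinv' : ∀ w ∈ W', X w ∈ W' := by
        intro w hw
        obtain ⟨hwW, hwe, hwf⟩ := (hmemW' w).1 hw
        refine (hmemW' _).2 ⟨hinv w hwW, ?_, ?_⟩
        · rw [hBskew, hwf, neg_zero]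
        · rw [hBX, hwe]
      have hproj : ∀ y ∈ W,
          y - (B y e0 / B e0 e0) • e0 - (B y (X e0) / B (X e0) (X e0)) • X e0 ∈ W' := by
        intro y hyW
        refine (hmemW' _).2 ⟨?_, ?_, ?_⟩
        · exact W.sub_mem (W.sub_mem hyW (W.smul_mem _ he0W)) (W.smul_mem _ hf0W)
        · simp only [map_sub, map_smul, LinearMap.sub_apply, LinearMap.smul_apply, smul_eq_mul]
          rw [hfe]
          field_simp
          ring
        · simp only [map_sub, map_smul, LinearMap.sub_apply, LinearMap.smul_apply, smul_eq_mul]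
          rw [hef]
          field_simp
          ring
      have hnd' : ∀ w ∈ W', w ≠ 0 → ∃ y ∈ W', B y w ≠ 0 := by
        intro w hw hw0
        obtain ⟨hwW, hwe, hwf⟩ := (hmemW' w).1 hw
        obtain ⟨y, hyW, hy⟩ := hnd w hwW hw0
        refine ⟨_, hproj y hyW, ?_⟩
        simp only [map_sub, map_smul, LinearMap.sub_apply, LinearMap.smul_apply, smul_eq_mul]
        rw [hBsymm e0 w, hBsymm (X e0) w, hwe, hwf]
        simpa using hy
      obtain ⟨m', e', he'W, ho1, ho2, hne, hspan⟩ := ih _ hk' W' rfl hinv' hnd'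
      have he'e0 : ∀ i, B (e' i) e0 = 0 := fun i => ((hmemW' _).1 (he'W i)).2.1
      have he'f0 : ∀ i, B (e' i) (X e0) = 0 := fun i => ((hmemW' _).1 (he'W i)).2.2
      refine ⟨m' + 1, Fin.cons e0 e', ?_, ?_, ?_, ?_, ?_⟩
      · intro i
        refine Fin.cases ?_ (fun i' => ?_) i
        · simpa using he0W
        · simpa using hW'le (he'W i')
      · intro i j
        refine Fin.cases ?_ (fun i' => ?_) i
        · refine Fin.cases ?_ (fun j' => ?_) j
          · intro h
            exact absurd rfl h
          · intro _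
            simp only [Fin.cons_zero, Fin.cons_succ]
            rw [hBsymm]
            exact he'e0 j'
        · refine Fin.cases ?_ (fun j' => ?_) j
          · intro _
            simp only [Fin.cons_zero, Fin.cons_succ]
            exact he'e0 i'
          · intro h
            simp only [Fin.cons_succ]
            exact ho1 i' j' (fun h' => h (by rw [h']))
      · intro i j
        refine Fin.cases ?_ (fun i' => ?_) i
        · refine Fin.cases ?_ (fun j' => ?_) j
          · simp only [Fin.cons_zero]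
            exact hef
          · simp only [Fin.cons_zero, Fin.cons_succ]
            rw [hBsymm, hBskew, he'f0, neg_zero]
        · refine Fin.cases ?_ (fun j' => ?_) j
          · simp only [Fin.cons_zero, Fin.cons_succ]
            exact he'f0 i'
          · simp only [Fin.cons_succ]
            exact ho2 i' j'
      · intro i
        refine Fin.cases ?_ (fun i' => ?_) i
        · simpa using he0
        · simpa using hne i'
      · intro w hwW
        have hsub : Submodule.span F (Set.range e' ∪ Set.range (fun i => X (e' i))) ≤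
            Submodule.span F (Set.range (Fin.cons e0 e' : Fin (m' + 1) → V) ∪
              Set.range (fun i => X ((Fin.cons e0 e' : Fin (m' + 1) → V) i))) := by
          apply Submodule.span_mono
          rintro v (⟨i, rfl⟩ | ⟨i, rfl⟩)
          · exact Or.inl ⟨i.succ, by simp⟩
          · exact Or.inr ⟨i.succ, by simp⟩
        have h0 : e0 ∈ Submodule.span F (Set.range (Fin.cons e0 e' : Fin (m' + 1) → V) ∪
              Set.range (fun i => X ((Fin.cons e0 e' : Fin (m' + 1) → V) i))) :=
          Submodule.subset_span (Or.inl ⟨0, by simp⟩)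
        have h1 : X e0 ∈ Submodule.span F (Set.range (Fin.cons e0 e' : Fin (m' + 1) → V) ∪
              Set.range (fun i => X ((Fin.cons e0 e' : Fin (m' + 1) → V) i))) :=
          Submodule.subset_span (Or.inr ⟨0, by simp⟩)
        have h3 := hsub (hspan _ (hproj w hwW))
        have h4 : w = (w - (B w e0 / B e0 e0) • e0 - (B w (X e0) / B (X e0) (X e0)) • X e0) +
            (B w e0 / B e0 e0) • e0 + (B w (X e0) / B (X e0) (X e0)) • X e0 := by
          abel
        rw [h4]
        exact Submodule.add_mem _ (Submodule.add_mem _ h3 (Submodule.smul_mem _ _ h0))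
          (Submodule.smul_mem _ _ h1)

/-- JBASIS (L+), racer copy -/
theorem h40_sfk_j_basis {F : Type*} [Field F] {ι : Type} [Fintype ι] [DecidableEq ι]
    (h2 : (2 : F) ≠ 0) (Q : QuadraticForm F (ι → F))
    (hQ : (QuadraticMap.polarBilin Q).Nondegenerate)
    (x : GL ι F) (hx : x ∈ Cfsg.isometryGroup F (⇑Q))
    (hxx : (x : Matrix ι ι F) * (x : Matrix ι ι F) = -1) :
    ∃ (m : ℕ) (e : Fin m → (ι → F)),
      LinearIndependent F (Sum.elim e (fun i => (x : Matrix ι ι F) *ᵥ e i)) ∧
      Fintype.card ι = 2 * m ∧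
      (∀ i j, i ≠ j → QuadraticMap.polar (⇑Q) (e i) (e j) = 0) ∧
      (∀ i j, QuadraticMap.polar (⇑Q) (e i) ((x : Matrix ι ι F) *ᵥ e j) = 0) ∧
      ∀ i, Q (e i) ≠ 0 := by
  classical
  obtain ⟨X, hX⟩ : ∃ X : (ι → F) →ₗ[F] (ι → F), ∀ v, X v = (x : Matrix ι ι F) *ᵥ v :=
    ⟨Matrix.toLin' (x : Matrix ι ι F), fun v => Matrix.toLin'_apply _ v⟩
  obtain ⟨B, hB⟩ : ∃ B : LinearMap.BilinForm F (ι → F),
      ∀ u v, B u v = QuadraticMap.polar (⇑Q) u v := ⟨QuadraticMap.polarBilin Q, fun u v => rfl⟩
  have hQX : ∀ v, Q (X v) = Q v := fun v => by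
    rw [hX]
    exact hx v v
  have hXX : ∀ v, X (X v) = -v := by
    intro v
    rw [hX, hX, Matrix.mulVec_mulVec, hxx, Matrix.neg_mulVec, Matrix.one_mulVec]
  have hBsymm : ∀ u v, B u v = B v u := by
    intro u v
    rw [hB, hB, QuadraticMap.polar_comm]
  have hBself : ∀ v, B v v = 2 * Q v := by
    intro v
    rw [hB, QuadraticMap.polar_self]
    simp
  have hnd : ∀ w ∈ (⊤ : Submodule F (ι → F)), w ≠ 0 → ∃ y ∈ (⊤ : Submodule F (ι → F)),
      B y w ≠ 0 := by
    intro w _ hw0
    by_contra hcon
    apply hw0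
    apply hQ.2 w
    intro y
    by_contra h
    exact hcon ⟨y, Submodule.mem_top, by rw [hB]; exact h⟩
  obtain ⟨m, e, -, ho1, ho2, hne, hspan⟩ := h40_j_core h2 (⇑Q) B (fun u v => by rw [hB]; rfl)
    hBself hBsymm X hQX hXX _ ⊤ rfl (fun w _ => Submodule.mem_top) hnd
  have hfam : (Sum.elim e (fun i => (x : Matrix ι ι F) *ᵥ e i)) =
      Sum.elim e (fun i => X (e i)) := by
    funext s
    cases s with
    | inl i => rfl
    | inr i => simp [hX]
  have hBX : ∀ u v, B (X u) (X v) = B u v := by
    intro u v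
    rw [hB, hB]
    unfold QuadraticMap.polar
    rw [← map_add, hQX, hQX, hQX]
  have hli : LinearIndependent F (Sum.elim e (fun i => X (e i))) := by
    apply LinearMap.BilinForm.linearIndependent_of_iIsOrtho (B := B)
    · rw [LinearMap.BilinForm.iIsOrtho_def]
      rintro (i | i) (j | j) hij
      · exact ho1 i j (fun h => hij (by rw [h]))
      · exact ho2 i j
      · show B (X (e i)) (e j) = 0
        rw [hBsymm]
        exact ho2 j i
      · show B (X (e i)) (X (e j)) = 0
        rw [hBX]
        exact ho1 i j (fun h => hij (by rw [h]))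
    · rintro (i | i)
      · show B (e i) (e i) ≠ 0
        rw [hBself]
        exact mul_ne_zero h2 (hne i)
      · show B (X (e i)) (X (e i)) ≠ 0
        rw [hBX, hBself]
        exact mul_ne_zero h2 (hne i)
  refine ⟨m, e, ?_, ?_, ?_, ?_, hne⟩
  · rw [hfam]
    exact hli
  · have h1 := hli.fintype_card_le_finrank
    rw [Fintype.card_sum, Fintype.card_fin, Module.finrank_fintype_fun_eq_card] at h1
    have h3 : Submodule.span F (Set.range (Sum.elim e (fun i => X (e i)))) = ⊤ := by
      rw [Set.Sum.elim_range]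
      exact top_le_iff.1 (fun w _ => hspan w Submodule.mem_top)
    have h4 := finrank_range_le_card (R := F) (Sum.elim e (fun i => X (e i)))
    rw [Set.finrank, h3, finrank_top, Module.finrank_fintype_fun_eq_card, Fintype.card_sum,
      Fintype.card_fin] at h4
    omega
  · intro i j hij
    rw [← hB]
    exact ho1 i j hij
  · intro i j
    rw [← hB, ← hX]
    exact ho2 i j

end Cfsg.Agent.Lib.helper59.Sfk
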