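import Mathlib
import Cfsg.Agent.Lib.helper24.SfuDefs
import Cfsg.Agent.Lib.helper24.SubfE

/-!
# S5982 piece U2B (core form): involutions, `q` odd, `(n)_2 ≤ (q - 1)_2`

`h40_sfu_suff_two_odd_core` is the skeleton statement `sfu_suff_two_odd` with the conclusion of
piece UPAIR (`sfu_pair_conj`, for this `x`) taken as a hypothesis.
-/

set_option autoImplicit false

namespace Cfsg.Agent.Lib.helper24

open Module Matrix Cfsg.Geo

theorem h40_sfu_suff_two_odd_core {F : Type*} [Field F] [Fintype F] [DecidableEq F] {n : ℕ}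
    (hn : 0 < n) (q₀ : ℕ)
    (hcard : Fintype.card F = q₀ ^ 2) (f : (Fin n → F) → (Fin n → F) → F)
    (h2 : (2 : F) ≠ 0)
    (hv : padicValNat 2 n ≤ padicValNat 2 (Fintype.card F - 1))
    (x : Matrix (Fin n) (Fin n) F) (hdet : x.det = 1) (z : F)
    (hx : x ^ 2 = z • (1 : Matrix (Fin n) (Fin n) F))
    (hpair : ∀ (K : Matrix (Fin n) (Fin n) F) (μ : Fin n → F), K.det ≠ 0 →
      x * K = K * Matrix.diagonal μ → ∀ σ : F, σ ≠ 0 → (∀ j, μ j ≠ 0) →
      (∀ c : F, (Finset.univ.filter (fun j => μ j = σ * c)).card =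
        (Finset.univ.filter (fun j => μ j = σ * (c ^ q₀)⁻¹)).card) → SfuConj f x) :
    SfuConj f x := by
  have hx' : x * x = z • (1 : Matrix (Fin n) (Fin n) F) := by rw [← pow_two]; exact hx
  have hoddq : Odd (Fintype.card F) := qe_two_ne_zero_iff_odd.1 h2
  have hq0odd : Odd q₀ := by
    rw [hcard, sq] at hoddq
    exact (Nat.odd_mul.mp hoddq).1
  have hz0 : z ≠ 0 := by
    rintro rfl
    rw [zero_smul] at hx'
    have h1 : x.det * x.det = 0 := by
      have : Nonempty (Fin n) := ⟨⟨0, hn⟩⟩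
      rw [← Matrix.det_mul, hx', Matrix.det_zero]
    rw [hdet, one_mul] at h1
    exact one_ne_zero h1
  have hsq : IsSquare z := by
    by_contra hns
    obtain ⟨m, hm, hdet'⟩ := qe_det_of_nonsquare x z hns hx'
    rw [hdet] at hdet'
    have hzns : ¬ IsSquare (-z) := neg_nonsquare_of_card_sq _ hcard z hns
    have hm0 : m ≠ 0 := by omega
    have h5 := qe_val_le_of_nonsquare_pow_eq_one hoddq (-z) hzns m hm0 hdet'.symm
    have h6 : padicValNat 2 n = padicValNat 2 m + 1 := by
      rw [hm, padicValNat.mul (by norm_num) hm0, padicValNat_self]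
      ring
    omega
  obtain ⟨lam, hlam⟩ := hsq
  have hlam0 : lam ≠ 0 := by
    rintro rfl
    apply hz0
    rw [hlam, mul_zero]
  obtain ⟨b, δ, hδ, hxb⟩ := subf_basis_eigen h2 hn x lam hlam0 (by rw [← hlam]; exact hx')
  have hδ0 : ∀ j, δ j ≠ 0 := by
    intro j
    rcases hδ j with h | h <;> rw [h] <;> norm_num
  have hδpow : ∀ j, (δ j) ^ q₀ = δ j := by
    intro j
    rcases hδ j with h | h
    · rw [h, one_pow]
    · rw [h, hq0odd.neg_one_pow]
  have hδinv : ∀ j, (δ j)⁻¹ = δ j := by
    intro j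
    rcases hδ j with h | h
    · rw [h, inv_one]
    · rw [h, inv_neg_one]
  have hfrob : ∀ c : F, (c ^ q₀) ^ q₀ = c := by
    intro c
    rw [← pow_mul, ← sq, ← hcard, FiniteField.pow_card]
  -- the matrix of eigenvectors
  have hKdet : (Matrix.of (fun i j => b j i) : Matrix (Fin n) (Fin n) F).det ≠ 0 := by
    have h1 : LinearIndependent F
        (Matrix.of (fun i j => b j i) : Matrix (Fin n) (Fin n) F).col := by
      have : (Matrix.of (fun i j => b j i) : Matrix (Fin n) (Fin n) F).col = fun j => b j := by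
        funext j i; rfl
      rw [this]; exact b.linearIndependent
    have h3 := (Matrix.linearIndependent_cols_iff_isUnit).mp h1
    exact ((Matrix.isUnit_iff_isUnit_det _).mp h3).ne_zero
  have hxK : x * (Matrix.of (fun i j => b j i) : Matrix (Fin n) (Fin n) F) =
      (Matrix.of (fun i j => b j i) : Matrix (Fin n) (Fin n) F) *
        Matrix.diagonal (fun j => lam * δ j) := by
    ext i j
    rw [Matrix.mul_diagonal]
    have h1 : (x * (Matrix.of (fun i j => b j i) : Matrix (Fin n) (Fin n) F)) i j =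
        (x *ᵥ b j) i := by
      rw [Matrix.mul_apply]
      rfl
    rw [h1, hxb j]
    simp only [Matrix.of_apply, Pi.smul_apply, smul_eq_mul]
    ring
  refine hpair _ (fun j => lam * δ j) hKdet hxK lam hlam0 (fun j => mul_ne_zero hlam0 (hδ0 j)) ?_
  intro c
  congr 1
  apply Finset.filter_congr
  intro j _
  constructor
  · intro h
    have h1 : δ j = c := mul_left_cancel₀ hlam0 h
    rw [← h1, hδpow, hδinv]
  · intro h
    have h1 : δ j = (c ^ q₀)⁻¹ := mul_left_cancel₀ hlam0 h
    have h3 : c ^ q₀ = δ j := by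
      rw [← hδinv j, h1, inv_inv]
    have h4 : c = δ j := by
      rw [← hfrob c, h3, hδpow]
    rw [← h4]

end Cfsg.Agent.Lib.helper24
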