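import Mathlib
import Cfsg.Agent.Lib.helper24.SfuDefs

/-!
# S5982 piece UFIX (core form): the fixed space of a similarity of prime order `r ∤ q - 1`

`h40_sfu_fix_dvd_core` is the skeleton statement `sfu_fix_dvd` with the count of norm-one vectors
(piece COUNT) taken as a hypothesis.
-/

set_option autoImplicit false

namespace Cfsg.Agent.Lib.helper24

open Module Matrix Cfsg.Geo

theorem h40_sfu_fix_dvd_core {F : Type*} [Field F] [Fintype F] {n : ℕ} (q₀ : ℕ)
    (hcard : Fintype.card F = q₀ ^ 2) (f : (Fin n → F) → (Fin n → F) → F)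
    (hf : IsUnitaryFormPow q₀ f) (r : ℕ) [Fact r.Prime] (hrF : (r : F) ≠ 0)
    (hnd : ¬ r ∣ Fintype.card F - 1) (g : GL (Fin n) F) (hg : g ∈ similarityGroup f)
    (hgr : (g : Matrix (Fin n) (Fin n) F) ^ r = 1)
    (hcount : ∀ (m : ℕ) (f' : (Fin m → F) → (Fin m → F) → F), IsUnitaryFormPow q₀ f' →
      (Nat.card {v : Fin m → F // f' v v = 1} : ℤ) =
        (q₀ : ℤ) ^ (m - 1) * ((q₀ : ℤ) ^ m - (-1) ^ m)) :
    (-(q₀ : ZMod r)) ^ (n - Module.finrank F
      (LinearMap.ker (Matrix.toLin' (g : Matrix (Fin n) (Fin n) F) - 1))) = 1 := by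
  classical
  have hr : r.Prime := Fact.out
  obtain ⟨T, hT⟩ : ∃ T : (Fin n → F) →ₗ[F] (Fin n → F),
      T = Matrix.toLin' (g : Matrix (Fin n) (Fin n) F) := ⟨_, rfl⟩
  rw [← hT]
  obtain ⟨m, hm⟩ : ∃ m : ℕ, m = n - Module.finrank F (LinearMap.ker (T - 1)) := ⟨_, rfl⟩
  rw [← hm]
  rcases Nat.eq_zero_or_pos m with hm0 | hmpos
  · rw [hm0, pow_zero]
  have hTapp : ∀ v, T v = (g : Matrix (Fin n) (Fin n) F) *ᵥ v := by
    intro v; rw [hT, Matrix.toLin'_apply]
  -- T ^ r = 1
  have hTr : T ^ r = 1 := by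
    have h1 : T = Matrix.toLinAlgEquiv' (g : Matrix (Fin n) (Fin n) F) := by
      rw [hT]; rfl
    rw [h1, ← map_pow, hgr, map_one]
  -- q₀ is not divisible by r
  have hq0 : q₀ ≠ 0 := by
    rintro rfl
    have : 0 < Fintype.card F := Fintype.card_pos
    rw [hcard] at this
    simp at this
  have hrq : ¬ r ∣ q₀ := by
    intro hd
    obtain ⟨p, hp⟩ := CharP.exists F
    obtain ⟨k, hpk, hk⟩ := FiniteField.card F p
    have h1 : r ∣ p ^ (k : ℕ) := by
      rw [← hk, hcard]; exact Dvd.dvd.pow hd (by norm_num)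
    have h2 : r ∣ p := hr.dvd_of_dvd_pow h1
    have h3 : r = p := (Nat.prime_dvd_prime_iff_eq hr hpk).mp h2
    apply hrF
    rw [h3]; exact CharP.cast_eq_zero F p
  have hq0r : (q₀ : ZMod r) ≠ 0 := by
    intro h
    exact hrq ((ZMod.natCast_eq_zero_iff q₀ r).mp h)
  -- n ≥ 1
  have hn : 0 < n := by omega
  -- the multiplier is 1
  obtain ⟨c, hc⟩ := hg
  have hcpow : ∀ (j : ℕ) (u v : Fin n → F), f ((T ^ j) u) ((T ^ j) v) = (c : F) ^ j * f u v := by
    intro j
    induction j with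
    | zero => intro u v; simp
    | succ j ih =>
      intro u v
      rw [pow_succ', Module.End.mul_apply, Module.End.mul_apply, hTapp, hTapp ((T ^ j) v), hc, ih,
        pow_succ]
      ring
  have hc1 : (c : F) = 1 := by
    obtain ⟨⟨x, hx⟩, _⟩ := hf.nondegenerate (Pi.single ⟨0, hn⟩ 1) (by
      intro h
      have := congrFun h ⟨0, hn⟩
      simp at this)
    have h1 := hcpow r x (Pi.single ⟨0, hn⟩ 1)
    rw [hTr] at h1
    simp only [Module.End.one_apply] at h1
    have h2 : (c : F) ^ r = 1 := by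
      have h3 : ((c : F) ^ r - 1) * f x (Pi.single ⟨0, hn⟩ 1) = 0 := by
        rw [sub_mul, one_mul, ← h1, sub_self]
      rcases mul_eq_zero.mp h3 with h4 | h4
      · exact sub_eq_zero.mp h4
      · exact absurd h4 hx
    have h5 : c ^ r = 1 := Units.ext (by rw [Units.val_pow_eq_pow_val, h2]; rfl)
    have h6 : orderOf c ∣ r := orderOf_dvd_of_pow_eq_one h5
    have h7 : orderOf c ∣ Fintype.card F - 1 := by
      rw [← Fintype.card_units]; exact orderOf_dvd_card
    rcases (Nat.dvd_prime hr).mp h6 with h8 | h8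
    · rw [orderOf_eq_one_iff] at h8
      rw [h8]; rfl
    · rw [h8] at h7; exact absurd h7 hnd
  have hiso : ∀ u v, f (T u) (T v) = f u v := by
    intro u v
    rw [hTapp, hTapp v, hc, hc1, one_mul]
  -- algebra of the form
  have hsub : ∀ x y v, f (x - y) v = f x v - f y v := by
    intro x y v
    have h := hf.add_left (x - y) y v
    rw [sub_add_cancel] at h
    rw [h, add_sub_cancel_right]
  -- the subspace U
  obtain ⟨U, hU⟩ : ∃ U : Submodule F (Fin n → F), U = LinearMap.range (T - 1) := ⟨_, rfl⟩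
  have hUmem : ∀ w, T w - w ∈ U := by
    intro w
    rw [hU]
    exact ⟨w, by simp⟩
  have hUT : ∀ u ∈ U, T u ∈ U := by
    intro u hu
    rw [hU] at hu ⊢
    obtain ⟨w, rfl⟩ := hu
    exact ⟨T w, by simp⟩
  -- orthogonality
  have horth : ∀ k u, T k = k → u ∈ U → f u k = 0 ∧ f k u = 0 := by
    intro k u hk hu
    have h1 : f u k = 0 := by
      rw [hU] at hu
      obtain ⟨w, rfl⟩ := hu
      have : (T - 1) w = T w - w := by simp
      rw [this, hsub]
      nth_rewrite 1 [← hk]
      rw [hiso, sub_self]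
    refine ⟨h1, ?_⟩
    rw [hf.herm, h1, zero_pow hq0]
  -- decomposition
  have hpowU : ∀ (j : ℕ) (x : Fin n → F), x - (T ^ j) x ∈ U := by
    intro j
    induction j with
    | zero => intro x; simp
    | succ j ih =>
      intro x
      have h1 : x - (T ^ (j + 1)) x = (x - (T ^ j) x) - (T ((T ^ j) x) - (T ^ j) x) := by
        rw [pow_succ', Module.End.mul_apply]; abel
      rw [h1]
      exact U.sub_mem (ih x) (hUmem _)
  have hdec : ∀ x : Fin n → F, ∃ k u, T k = k ∧ u ∈ U ∧ x = k + u := by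
    intro x
    refine ⟨(r : F)⁻¹ • ∑ j ∈ Finset.range r, (T ^ j) x,
      (r : F)⁻¹ • ∑ j ∈ Finset.range r, (x - (T ^ j) x), ?_, ?_, ?_⟩
    · rw [map_smul, map_sum]
      congr 1
      have h1 : ∀ j, T ((T ^ j) x) = (T ^ (j + 1)) x := by
        intro j; rw [pow_succ', Module.End.mul_apply]
      simp only [h1]
      have h2 := Finset.sum_range_succ (fun j => (T ^ j) x) r
      have h3 := Finset.sum_range_succ' (fun j => (T ^ j) x) r
      rw [h2] at h3
      simp only [hTr, pow_zero, Module.End.one_apply] at h3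
      exact (add_right_cancel h3).symm
    · exact U.smul_mem _ (U.sum_mem (fun j _ => hpowU j x))
    · rw [← smul_add, ← Finset.sum_add_distrib]
      simp only [add_sub_cancel, Finset.sum_const, Finset.card_range]
      rw [← Nat.cast_smul_eq_nsmul F, smul_smul, inv_mul_cancel₀ hrF, one_smul]
  -- nondegeneracy on U
  have hnondegU : ∀ u ∈ U, u ≠ 0 → (∃ u' ∈ U, f u' u ≠ 0) ∧ (∃ u' ∈ U, f u u' ≠ 0) := by
    intro u hu hu0
    obtain ⟨⟨x, hx⟩, _⟩ := hf.nondegenerate u hu0
    obtain ⟨k, u', hk, hu', rfl⟩ := hdec x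
    rw [hf.add_left, (horth k u hk hu).2, zero_add] at hx
    refine ⟨⟨u', hu', hx⟩, ⟨u', hu', ?_⟩⟩
    rw [hf.herm]
    exact pow_ne_zero _ hx
  -- dimension of U
  have hdimU : Module.finrank F U = m := by
    have h1 := LinearMap.finrank_range_add_finrank_ker (T - 1)
    rw [Module.finrank_fin_fun] at h1
    rw [hU, hm]
    omega
  -- coordinates on U
  let b : Basis (Fin m) F U := Module.finBasisOfFinrankEq F U hdimU
  obtain ⟨φ, hφ⟩ : ∃ φ : (Fin m → F) →ₗ[F] (Fin n → F),
      φ = U.subtype.comp (b.equivFun.symm : (Fin m → F) ≃ₗ[F] U).toLinearMap := ⟨_, rfl⟩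
  have hφU : ∀ x, φ x ∈ U := by
    intro x; rw [hφ]; exact (b.equivFun.symm x).2
  have hφsurj : ∀ u ∈ U, ∃ x, φ x = u := by
    intro u hu
    refine ⟨b.equivFun ⟨u, hu⟩, ?_⟩
    rw [hφ]
    simp
  have hφinj : Function.Injective φ := by
    rw [hφ]
    intro x y hxy
    have h1 : (b.equivFun.symm x : Fin n → F) = (b.equivFun.symm y : Fin n → F) := hxy
    exact b.equivFun.symm.injective (Subtype.ext h1)
  -- the induced form
  have hf' : IsUnitaryFormPow q₀ (fun x y : Fin m → F => f (φ x) (φ y)) := by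
    refine ⟨?_, ?_, ?_, ?_⟩
    · intro x y v
      simp only [map_add]
      exact hf.add_left _ _ _
    · intro a x v
      simp only [map_smul]
      exact hf.smul_left _ _ _
    · intro v w
      exact hf.herm _ _
    · intro v hv
      have hv' : φ v ≠ 0 := by
        intro h
        apply hv
        apply hφinj
        rw [h, map_zero]
      obtain ⟨⟨u1, hu1, h1⟩, ⟨u2, hu2, h2⟩⟩ := hnondegU (φ v) (hφU v) hv'
      obtain ⟨x1, rfl⟩ := hφsurj u1 hu1
      obtain ⟨x2, rfl⟩ := hφsurj u2 hu2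
      exact ⟨⟨x1, h1⟩, ⟨x2, h2⟩⟩
  have hcnt := hcount m _ hf'
  -- transfer to the set of norm-one vectors of U
  let S := {u : Fin n → F // u ∈ U ∧ f u u = 1}
  have hequiv : Nat.card {v : Fin m → F // f (φ v) (φ v) = 1} = Fintype.card S := by
    rw [← Nat.card_eq_fintype_card]
    apply Nat.card_congr
    refine Equiv.ofBijective (fun x => ⟨φ x.1, hφU _, x.2⟩) ⟨?_, ?_⟩
    · intro x y hxy
      apply Subtype.ext
      apply hφinj
      exact congrArg Subtype.val hxy
    · rintro ⟨u, hu, huu⟩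
      obtain ⟨x, rfl⟩ := hφsurj u hu
      exact ⟨⟨x, huu⟩, rfl⟩
  -- the free action
  have hdvd : r ∣ Fintype.card S := by
    let σ : Function.End S := fun u => ⟨T u.1, hUT _ u.2.1, by rw [hiso]; exact u.2.2⟩
    have hσ : ∀ (k : ℕ) (u : S), ((σ ^ k) u).1 = (T ^ k) u.1 := by
      intro k
      induction k with
      | zero => intro u; rfl
      | succ k ih =>
        intro u
        rw [pow_succ', pow_succ', Module.End.mul_apply, ← ih u]
        rfl
    have h1 : σ ^ r ^ 1 = 1 := by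
      funext u
      apply Subtype.ext
      rw [pow_one, hσ, hTr]
      rfl
    have h2 := Equiv.Perm.card_fixedPoints_modEq (p := r) (n := 1) (f := σ) h1
    have h3 : Fintype.card (Function.fixedPoints σ) = 0 := by
      rw [Fintype.card_eq_zero_iff]
      refine ⟨fun u => ?_⟩
      have h4 : σ u.1 = u.1 := u.2
      have h5 : T u.1.1 = u.1.1 := congrArg Subtype.val h4
      have h6 := (horth u.1.1 u.1.1 h5 u.1.2.1).1
      rw [u.1.2.2] at h6
      exact one_ne_zero h6
    rw [h3] at h2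
    exact (Nat.modEq_zero_iff_dvd).mp h2
  -- arithmetic
  rw [hequiv] at hcnt
  have h1 : ((Fintype.card S : ℕ) : ZMod r) = 0 := (ZMod.natCast_eq_zero_iff _ _).mpr hdvd
  have h2 : (q₀ : ZMod r) ^ (m - 1) * ((q₀ : ZMod r) ^ m - (-1) ^ m) = 0 := by
    have h3 := congrArg (Int.cast : ℤ → ZMod r) hcnt
    push_cast at h3
    rw [← h3]
    exact h1
  have h4 : (q₀ : ZMod r) ^ m = (-1) ^ m := by
    rcases mul_eq_zero.mp h2 with h5 | h5
    · exact absurd h5 (pow_ne_zero _ hq0r)
    · exact sub_eq_zero.mp h5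
  rw [neg_pow, h4, ← mul_pow]
  norm_num

end Cfsg.Agent.Lib.helper24
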