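/-
Project S5988 (helper99's split), piece SUFF, core form: the statements of the pieces EXT and
KTY are explicit hypotheses (`SreExtStmt`, `SreKTyStmt`), so that this file depends only on
helper24's toolkit.
-/
import Mathlib
import Cfsg.Agent.Lib.helper24.SroReal

set_option autoImplicit false
set_option linter.unusedSectionVars false
set_option linter.unusedVariables false
set_option linter.style.haveILetI false

namespace Cfsg.Agent.Lib.helper40

open Module Cfsg.Agent.Lib.helper24 Cfsg.Agent.Lib.helper45 Cfsg.Agent.Lib.helper49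

universe u

/-- The statement of piece EXT of the S5988 split (`sre_exists_ty`). -/
def SreExtStmt (F : Type u) [Field F] [Fintype F] : Prop :=
  ∀ {V : Type u} [AddCommGroup V] [Module F V] [FiniteDimensional F V]
    (Q : QuadraticForm F V) (ε : ℤ) (hε : ε = 1 ∨ ε = -1) (e f : ℕ)
    (X : Submodule F V) (hX : SpNd (QuadraticMap.polarBilin Q) X) (hXdim : finrank F X = 2 * f)
    (hef : e < f) (he : ε = -1 → 1 ≤ e),
    ∃ W : Submodule F V, W ≤ X ∧ SpNd (QuadraticMap.polarBilin Q) W ∧ finrank F W = 2 * e ∧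
      SrTy Q W ε

/-- The statement of piece KTY of the S5988 split (`sre_K_ty`). -/
def SreKTyStmt (F : Type u) [Field F] [Fintype F] : Prop :=
  ∀ {V : Type u} [AddCommGroup V] [Module F V] [FiniteDimensional F V]
    (Q : QuadraticForm F V) (hnd : ∀ v, (∀ w, QuadraticMap.polar Q v w = 0) → v = 0)
    (T : Module.End F V) (hT : ∀ v, Q (T v) = Q v)
    (p f' : ℕ) [Fact p.Prime] (hF : Fintype.card F = p ^ f') (r : ℕ) [Fact r.Prime]
    (hpr : p.Coprime r) (hr2 : r ≠ 2) (hTr : T ^ r = 1)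
    (i c : ℕ) (hi : i = orderOf ((Fintype.card F : ℕ) : ZMod r))
    (hc : c = if Even i then i else 2 * i)
    (ε : ℤ) (hε : ε = 1 ∨ ε = -1) (n' : ℕ) (hdim : finrank F V = 2 * n') (hty : SrTy Q ⊤ ε),
    ∃ (δ : ℤ) (b k' : ℕ), (δ = 1 ∨ δ = -1) ∧
      finrank F (LinearMap.range (T - 1)) = c * b ∧
      finrank F (LinearMap.ker (T - 1)) = 2 * k' ∧
      SrTy Q (LinearMap.ker (T - 1)) (ε * δ) ∧
      ((δ : ℤ) : ZMod r) * ((Fintype.card F : ℕ) : ZMod r) ^ (c * b / 2) = 1 ∧
      (k' = 0 → ε * δ = 1)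

section generic

variable {F : Type u} [Field F] [Fintype F]

/-- Two signs with the same product modulo an odd prime. -/
theorem sre_pm_mul_eq (r : ℕ) [Fact r.Prime] (hr2 : r ≠ 2) (a b c d : ℤ)
    (ha : a = 1 ∨ a = -1) (hb : b = 1 ∨ b = -1) (hc : c = 1 ∨ c = -1) (hd : d = 1 ∨ d = -1)
    (h : ((a * b : ℤ) : ZMod r) = ((c * d : ℤ) : ZMod r)) : a * b = c * d := by
  apply sr_pm_eq r hr2 (a * b) (c * d) _ _ h
  · rcases ha with rfl | rfl <;> rcases hb with rfl | rfl <;> simp
  · rcases hc with rfl | rfl <;> rcases hd with rfl | rfl <;> simp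

/-- SUFF (core): an invariant nondegenerate subspace of dimension `2m'` and type `η`, as
`M ⊥ W_K` with `M ≤ R` invariant of dimension `c * j` and `W_K ≤ K`. -/
theorem sre_suff_core (hEXT : SreExtStmt F) (hKTY : SreKTyStmt F)
    {V : Type u} [AddCommGroup V] [Module F V] [FiniteDimensional F V]
    (Q : QuadraticForm F V) (hnd : ∀ v, (∀ w, QuadraticMap.polar Q v w = 0) → v = 0)
    (T : Module.End F V) (hT : ∀ v, Q (T v) = Q v)
    (p f' : ℕ) [Fact p.Prime] (hF : Fintype.card F = p ^ f') (r : ℕ) [Fact r.Prime]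
    (hpr : p.Coprime r) (hr2 : r ≠ 2) (hTr : T ^ r = 1)
    (i c : ℕ) (hi : i = orderOf ((Fintype.card F : ℕ) : ZMod r))
    (hc : c = if Even i then i else 2 * i)
    (ε : ℤ) (hε : ε = 1 ∨ ε = -1) (n' : ℕ) (hdim : finrank F V = 2 * n') (hty : SrTy Q ⊤ ε)
    (η : ℤ) (hη : η = 1 ∨ η = -1) (m' j : ℕ)
    (hj : c * j ≤ finrank F (LinearMap.range (T - 1))) (hjm : c * j ≤ 2 * m')
    (ha : 2 * m' - c * j ≤ finrank F (LinearMap.ker (T - 1)))
    (h0 : 2 * m' = c * j → ((η : ℤ) : ZMod r) * ((Fintype.card F : ℕ) : ZMod r) ^ m' = 1)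
    (hK : 2 * m' - c * j = finrank F (LinearMap.ker (T - 1)) →
      ((η * ε : ℤ) : ZMod r) * ((Fintype.card F : ℕ) : ZMod r) ^
        (n' + m' - finrank F (LinearMap.ker (T - 1))) = 1) :
    ∃ W : Submodule F V, finrank F W = 2 * m' ∧ SpNd (QuadraticMap.polarBilin Q) W ∧
      (∀ w ∈ W, T w ∈ W) ∧ SrTy Q W η := by
  have hr : r.Prime := Fact.out
  have hq0 := el_card_ne_zero p f' hF r hpr
  have hrF := el_natCast_ne_zero (F := F) p f' hF r hpr
  have hcev : Even c := sr_c_even p f' hF r hpr hr2 i c hi hc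
  obtain ⟨M, hMR, hMnd, hMinv, hMdim⟩ :=
    sr_inv_nd Q hnd T hT p f' hF r hpr hr2 hTr i c hi hc j hj
  have hKR := sr_KR_bot T r hTr hrF
  have hMfix : LinearMap.ker (T - 1) ⊓ M = ⊥ := by
    rw [eq_bot_iff, ← hKR]
    exact inf_le_inf_left _ hMR
  obtain ⟨c', hc'⟩ := hcev
  have hcj : c * j = 2 * (c' * j) := by
    rw [hc']
    ring
  have hMdim2 : finrank F M = 2 * (c' * j) := by
    rw [hMdim, hcj]
  obtain ⟨δ, hδ, hMty, hδq⟩ := sr_ty_free Q T hT p f' hF r hpr hr2 hTr M hMnd hMinv hMfix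
    (c' * j) hMdim2
  by_cases ha0 : 2 * m' = c * j
  · -- `W = M`
    have hm' : m' = c' * j := by omega
    have hηq := h0 ha0
    rw [hm'] at hηq
    have hδη : δ = η := by
      apply sr_pm_eq r hr2 δ η hδ hη
      have hunit : ((Fintype.card F : ℕ) : ZMod r) ^ (c' * j) ≠ 0 := pow_ne_zero _ hq0
      apply mul_right_cancel₀ hunit
      rw [hδq, hηq]
    refine ⟨M, by rw [hMdim, ← ha0], hMnd, hMinv, ?_⟩
    rw [← hδη]
    exact hMty
  · have hlt : c * j < 2 * m' := lt_of_le_of_ne hjm (Ne.symm ha0)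
    obtain ⟨δR, b, k', hδR, hRdim, hKdim, hKty, hδRq, -⟩ :=
      hKTY Q hnd T hT p f' hF r hpr hr2 hTr i c hi hc ε hε n' hdim hty
    have hcb : c * b = 2 * (c' * b) := by
      rw [hc']
      ring
    have hKnd := sr_K_nd Q hnd T hT r hTr hrF
    have hηδ : η * δ = 1 ∨ η * δ = -1 := by
      rcases hδ with rfl | rfl <;> rcases hη with rfl | rfl <;> simp
    have hWK : ∃ WK : Submodule F V, WK ≤ LinearMap.ker (T - 1) ∧
        SpNd (QuadraticMap.polarBilin Q) WK ∧ finrank F WK = 2 * (m' - c' * j) ∧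
        SrTy Q WK (η * δ) := by
      by_cases haK : 2 * m' - c * j = finrank F (LinearMap.ker (T - 1))
      · refine ⟨LinearMap.ker (T - 1), le_refl _, hKnd, by omega, ?_⟩
        have hsum := LinearMap.finrank_range_add_finrank_ker (T - 1)
        rw [hdim, hRdim] at hsum
        have hexp : n' + m' - finrank F (LinearMap.ker (T - 1)) = c' * j + c' * b := by omega
        have h1 := hK haK
        rw [hexp, pow_add] at h1
        have hcb2 : c * b / 2 = c' * b := by omega
        rw [hcb2] at hδRq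
        have hprod : ((η * ε : ℤ) : ZMod r) = ((δ * δR : ℤ) : ZMod r) := by
          have hunit : ((Fintype.card F : ℕ) : ZMod r) ^ (c' * j) *
              ((Fintype.card F : ℕ) : ZMod r) ^ (c' * b) ≠ 0 :=
            mul_ne_zero (pow_ne_zero _ hq0) (pow_ne_zero _ hq0)
          apply mul_right_cancel₀ hunit
          rw [h1]
          have h3 : ((δ * δR : ℤ) : ZMod r) * (((Fintype.card F : ℕ) : ZMod r) ^ (c' * j) *
              ((Fintype.card F : ℕ) : ZMod r) ^ (c' * b)) =
              (((δ : ℤ) : ZMod r) * ((Fintype.card F : ℕ) : ZMod r) ^ (c' * j)) *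
              (((δR : ℤ) : ZMod r) * ((Fintype.card F : ℕ) : ZMod r) ^ (c' * b)) := by
            push_cast
            ring
          rw [h3, hδq, hδRq, mul_one]
        have h4 := sre_pm_mul_eq r hr2 η ε δ δR hη hε hδ hδR hprod
        have h5 : η * δ = ε * δR := by
          rcases hδ with rfl | rfl <;> rcases hη with rfl | rfl <;>
            rcases hε with rfl | rfl <;> rcases hδR with rfl | rfl <;> simp at h4 ⊢
        rw [h5]
        exact hKty
      · have hlt2 : 2 * m' - c * j < finrank F (LinearMap.ker (T - 1)) := lt_of_le_of_ne ha haK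
        exact hEXT Q (η * δ) hηδ (m' - c' * j) k' (LinearMap.ker (T - 1)) hKnd hKdim (by omega)
          (fun _ => by omega)
    obtain ⟨WK, hWKK, hWKnd, hWKdim, hWKty⟩ := hWK
    have hδ2 : δ * (η * δ) = η := by
      rcases hδ with rfl | rfl <;> ring
    have horth' : ∀ u ∈ M, ∀ v ∈ WK, QuadraticMap.polar Q u v = 0 := by
      intro u hu v hv
      rw [QuadraticMap.polar_comm]
      exact sr_KR_orth Q T hT v (hWKK hv) u (hMR hu)
    have horth : ∀ u ∈ M, ∀ v ∈ WK, QuadraticMap.polarBilin Q u v = 0 := by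
      intro u hu v hv
      rw [QuadraticMap.polarBilin_apply_apply]
      exact horth' u hu v hv
    have hdis : M ⊓ WK = ⊥ := by
      rw [eq_bot_iff, ← hKR, inf_comm]
      exact inf_le_inf hWKK hMR
    obtain ⟨hWnd, hWdim⟩ := so_sum (QuadraticMap.polarBilin Q) (sr_sym Q) M WK hMnd hWKnd horth
    refine ⟨M ⊔ WK, ?_, hWnd, ?_, ?_⟩
    · rw [hWdim, hMdim, hWKdim]
      omega
    · intro w hw
      obtain ⟨u, hu, v, hv, rfl⟩ := Submodule.mem_sup.mp hw
      rw [map_add]
      apply Submodule.add_mem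
      · exact Submodule.mem_sup_left (hMinv u hu)
      · have hv' := hWKK hv
        rw [LinearMap.mem_ker, LinearMap.sub_apply, Module.End.one_apply, sub_eq_zero] at hv'
        rw [hv']
        exact Submodule.mem_sup_right hv
    · have := sr_ty_sum Q M WK horth' hdis δ (η * δ) hMty hWKty
        (by rw [hMdim2]; exact even_two_mul _) (by rw [hWKdim]; exact even_two_mul _)
      rwa [hδ2] at this

end generic

end Cfsg.Agent.Lib.helper40
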