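/-
Project S5988 (helper99's split), piece SUFF: verbatim statement, from the core
(`SreSUFFcore`) and the landed pieces EXT (helper25) and KTY (helper46).
-/
import Mathlib
import Cfsg.Agent.Lib.helper40.SreSUFFcore
import Cfsg.Agent.Lib.helper25.SreEXT
import Cfsg.Agent.Lib.helper46.SreKTY

set_option autoImplicit false
set_option linter.unusedSectionVars false
set_option linter.unusedVariables false

namespace Cfsg.Agent.Lib.helper40

open Module Cfsg.Agent.Lib.helper24 Cfsg.Agent.Lib.helper45 Cfsg.Agent.Lib.helper49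

universe u

section generic

variable {F : Type u} [Field F] [Fintype F]

/-- The statement of piece EXT holds (helper25). -/
theorem sreExtStmt_holds : SreExtStmt F :=
  fun Q ε hε e f X hX hXdim hef he =>
    Cfsg.Agent.Lib.helper25.sre_exists_ty Q ε hε e f X hX hXdim hef he

/-- The statement of piece KTY holds (helper46). -/
theorem sreKTyStmt_holds : SreKTyStmt F :=
  fun Q hnd T hT p f' _ hF r _ hpr hr2 hTr i c hi hc ε hε n' hdim hty =>
    Cfsg.Agent.Lib.helper46.sre_K_ty Q hnd T hT p f' hF r hpr hr2 hTr i c hi hc ε hε n' hdim hty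

/-- SUFF: an invariant nondegenerate subspace of dimension `2m'` and type `η`, as
`M ⊥ W_K` with `M ≤ R` invariant of dimension `c * j` and `W_K ≤ K`. -/
theorem sre_suff {V : Type u} [AddCommGroup V] [Module F V] [FiniteDimensional F V]
    (Q : QuadraticForm F V) (hnd : ∀ v, (∀ w, QuadraticMap.polar Q v w = 0) → v = 0)
    (T : Module.End F V) (hT : ∀ v, Q (T v) = Q v)
    (p f' : ℕ) [Fact p.Prime] (hF : Fintype.card F = p ^ f') (r : ℕ) [Fact r.Prime]
    (hpr : p.Coprime r) (hr2 : r ≠ 2) (hTr : T ^ r = 1)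
    (i c : ℕ) (hi : i = orderOf ((Fintype.card F : ℕ) : ZMod r))
    (hc : c = if Even i then i else 2 * i)
    (ε : ℤ) (hε : ε = 1 ∨ ε = -1) (n' : ℕ) (hdim : finrank F V = 2 * n') (hty : SrTy Q ⊤ ε)
    (η : ℤ) (hη : η = 1 ∨ η = -1) (m' j : ℕ)
    (hj : c * j ≤ finrank F (LinearMap.range (T - 1))) (hjm : c * j ≤ 2 * m')
    (ha : 2 * m' - c * j ≤ finrank F (LinearMap.ker (T - 1)))
    (h0 : 2 * m' = c * j → ((η : ℤ) : ZMod r) * ((Fintype.card F : ℕ) : ZMod r) ^ m' = 1)
    (hK : 2 * m' - c * j = finrank F (LinearMap.ker (T - 1)) →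
      ((η * ε : ℤ) : ZMod r) * ((Fintype.card F : ℕ) : ZMod r) ^
        (n' + m' - finrank F (LinearMap.ker (T - 1))) = 1) :
    ∃ W : Submodule F V, finrank F W = 2 * m' ∧ SpNd (QuadraticMap.polarBilin Q) W ∧
      (∀ w ∈ W, T w ∈ W) ∧ SrTy Q W η :=
  sre_suff_core sreExtStmt_holds sreKTyStmt_holds Q hnd T hT p f' hF r hpr hr2 hTr i c hi hc
    ε hε n' hdim hty η hη m' j hj hjm ha h0 hK

end generic

end Cfsg.Agent.Lib.helper40
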