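/-
Project S5988 (helper99's split), piece CNTB: verbatim statement, from the core
(`SreCNTBcore`) and the landed pieces EXT (helper25) and KTY (helper46).
-/
import Mathlib
import Cfsg.Agent.Lib.helper40.SreCNTBcore
import Cfsg.Agent.Lib.helper40.SreSUFF

set_option autoImplicit false
set_option linter.unusedSectionVars false
set_option linter.unusedVariables false

namespace Cfsg.Agent.Lib.helper40

open Module Cfsg.Agent.Lib.helper24 Cfsg.Agent.Lib.helper45 Cfsg.Agent.Lib.helper49

universe u

section generic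

variable {F : Type u} [Field F] [Fintype F]

/-- CNTB: if `dim V ≡ m (mod c)`, `m < c`, and the type `ε` of `V` satisfies
`-ε * q ^ ((dim V - m) / 2) ≡ 1 (mod r)`, then `r` does not divide the number of elliptic
`m`-subspaces of `V`. -/
theorem sre_count_b (p f' : ℕ) [Fact p.Prime] (hF : Fintype.card F = p ^ f')
    (r : ℕ) [Fact r.Prime] (hpr : p.Coprime r) (hr2 : r ≠ 2) (i c : ℕ)
    (hi : i = orderOf ((Fintype.card F : ℕ) : ZMod r)) (hc : c = if Even i then i else 2 * i)
    (m : ℕ) (hme : Even m) (hm2 : 2 ≤ m) (hmc : m < c) :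
    ∀ (n : ℕ) (V : Type u) [AddCommGroup V] [Module F V] [FiniteDimensional F V]
      (Q : QuadraticForm F V), (∀ v, (∀ w, QuadraticMap.polar Q v w = 0) → v = 0) →
      finrank F V = n → n % c = m → ∀ ε : ℤ, (ε = 1 ∨ ε = -1) → SrTy Q ⊤ ε →
      ((-ε : ℤ) : ZMod r) * ((Fintype.card F : ℕ) : ZMod r) ^ ((n - m) / 2) = 1 →
      ¬ r ∣ Nat.card {W : Submodule F V // finrank F W = m ∧
        SpNd (QuadraticMap.polarBilin Q) W ∧ SrTy Q W (-1)} :=
  sre_count_b_core sreExtStmt_holds sreKTyStmt_holds p f' hF r hpr hr2 i c hi hc m hme hm2 hmc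

end generic

end Cfsg.Agent.Lib.helper40
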