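import Mathlib
import Cfsg.Agent.Lib.helper24.PFrattini
import Cfsg.Agent.Lib.helper40.TransferMin

/-!
# A criterion for `C_p ≀ C_p` to be a quotient of a `p`-group

`exists_surj_sylow`: a finite `p`-group `P` with a subgroup `M` of index `p`, `u ∈ M`, `z ∉ M`
such that the "norm" `∏_{i<p} z⁻ⁱ u zⁱ` is not a `p`-th power modulo `M'` maps onto a Sylow
`p`-subgroup of `Sym(p²)`.
-/

set_option autoImplicit false

namespace Cfsg.Agent.Lib.helper40

section shift

variable {p : ℕ} [Fact p.Prime]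

/-- forward shift on functions `ZMod p → ZMod p` -/
def shf (a : ZMod p → ZMod p) : ZMod p → ZMod p := fun i => a (i + 1)

theorem shf_iterate (n : ℕ) (a : ZMod p → ZMod p) (i : ZMod p) :
    (shf^[n] a) i = a (i + n) := by
  induction n generalizing a with
  | zero => simp
  | succ n ih =>
    rw [Function.iterate_succ_apply, ih]
    show a (i + n + 1) = a (i + ((n + 1 : ℕ) : ZMod p))
    push_cast
    rw [add_assoc]

theorem const_of_shf_eq (a : ZMod p → ZMod p) (h : shf a = a) (i : ZMod p) : a i = a 0 := by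
  have hp := (Fact.out : p.Prime)
  have : NeZero p := ⟨hp.ne_zero⟩
  have h1 : ∀ n : ℕ, a (n : ZMod p) = a 0 := by
    intro n
    induction n with
    | zero => simp
    | succ n ih =>
      have h2 := congrFun h (n : ZMod p)
      rw [← ih, ← h2]
      show a ((n + 1 : ℕ) : ZMod p) = a ((n : ZMod p) + 1)
      push_cast
      rfl
  have h3 := h1 i.val
  rwa [ZMod.natCast_zmod_val] at h3

/-- a nontrivial shift-invariant additive subgroup of `𝔽_p^p` contains a nonzero constant -/
theorem exists_const_mem (K : AddSubgroup (ZMod p → ZMod p)) (hK : ∀ a ∈ K, shf a ∈ K)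
    (hne : K ≠ ⊥) : ∃ c : ZMod p, c ≠ 0 ∧ (fun _ => c) ∈ K := by
  classical
  have hp := (Fact.out : p.Prime)
  let s : ↥K → ↥K := fun a => ⟨shf a.1, hK a.1 a.2⟩
  have hsinj : Function.Injective s := by
    intro a b hab
    apply Subtype.ext
    funext i
    have h1 := congrFun (congrArg Subtype.val hab) (i - 1)
    simpa [s, shf] using h1
  have hsbij : Function.Bijective s := Finite.injective_iff_bijective.1 hsinj
  let σ : Equiv.Perm ↥K := Equiv.ofBijective s hsbij
  have hσ1 : ∀ (a : ↥K) (i : ZMod p), (σ a).1 i = a.1 (i + 1) := fun a i => rfl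
  have hσpow : ∀ (n : ℕ) (a : ↥K) (i : ZMod p), ((σ ^ n) a).1 i = a.1 (i + n) := by
    intro n
    induction n with
    | zero => intro a i; simp
    | succ n ih =>
      intro a i
      rw [pow_succ, Equiv.Perm.mul_apply, ih, hσ1]
      push_cast
      rw [add_assoc]
  have hσp : σ ^ p = 1 := by
    apply Equiv.ext
    intro a
    apply Subtype.ext
    funext i
    rw [hσpow]
    simp
  have hpg : IsPGroup p (Subgroup.zpowers σ) := by
    rintro ⟨g, hg⟩
    refine ⟨1, ?_⟩
    obtain ⟨k, rfl⟩ := Subgroup.mem_zpowers_iff.1 hg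
    apply Subtype.ext
    show (σ ^ k) ^ p ^ 1 = 1
    rw [pow_one, ← zpow_natCast, ← zpow_mul, mul_comm, zpow_mul, zpow_natCast, hσp, one_zpow]
  have hcard : p ∣ Nat.card ↥K := by
    have h1 : Nat.card ↥K ∣ Nat.card (ZMod p → ZMod p) := AddSubgroup.card_addSubgroup_dvd_card K
    have h2 : Nat.card (ZMod p → ZMod p) = p ^ p := by
      have : NeZero p := ⟨hp.ne_zero⟩
      rw [Nat.card_eq_fintype_card, Fintype.card_fun, ZMod.card]
    rw [h2] at h1
    obtain ⟨j, -, hj⟩ := (Nat.dvd_prime_pow hp).1 h1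
    rcases j with _ | j
    · exfalso
      rw [pow_zero] at hj
      exact hne (AddSubgroup.eq_bot_of_card_eq K hj)
    · rw [hj, pow_succ]
      exact dvd_mul_left _ _
  have hσ0 : σ 0 = 0 := by
    apply Subtype.ext
    funext i
    rfl
  have h0 : (0 : ↥K) ∈ MulAction.fixedPoints (Subgroup.zpowers σ) ↥K := by
    rintro ⟨g, hg⟩
    obtain ⟨k, rfl⟩ := Subgroup.mem_zpowers_iff.1 hg
    show (σ ^ k) 0 = 0
    exact Equiv.Perm.zpow_apply_eq_self_of_apply_eq_self hσ0 k
  obtain ⟨b, hb, hb0⟩ := hpg.exists_fixed_point_of_prime_dvd_card_of_fixed_point ↥K hcard h0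
  have hsb : shf b.1 = b.1 := by
    have h1 := hb ⟨σ, Subgroup.mem_zpowers σ⟩
    exact congrArg Subtype.val h1
  refine ⟨b.1 0, ?_, ?_⟩
  · intro h
    apply hb0
    apply Subtype.ext
    funext i
    show (0 : ZMod p) = b.1 i
    rw [const_of_shf_eq b.1 hsb i, h]
  · have e : (fun _ => b.1 0) = b.1 := by
      funext i
      exact (const_of_shf_eq b.1 hsb i).symm
    rw [e]
    exact b.2

/-- **shift lemma**: a shift-invariant additive subgroup of `𝔽_p^p` containing a vector with
nonzero coordinate sum is everything. -/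
theorem shift_top (W : AddSubgroup (ZMod p → ZMod p)) (hW : ∀ a ∈ W, shf a ∈ W)
    (v : ZMod p → ZMod p) (hv : v ∈ W) (hsum : ∑ i, v i ≠ 0) : W = ⊤ := by
  classical
  have hp := (Fact.out : p.Prime)
  have : NeZero p := ⟨hp.ne_zero⟩
  have hWn : ∀ (n : ℕ), (fun j => v (j + (n : ZMod p))) ∈ W := by
    intro n
    have h1 : shf^[n] v ∈ W := by
      induction n with
      | zero => exact hv
      | succ n ih =>
        rw [Function.iterate_succ_apply']
        exact hW _ ih
    have e : shf^[n] v = fun j => v (j + (n : ZMod p)) := funext (shf_iterate n v)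
    rwa [e] at h1
  let T : (ZMod p → ZMod p) →+ (ZMod p → ZMod p) :=
    { toFun := fun c j => ∑ i, c i * v (j + i)
      map_zero' := by funext j; simp
      map_add' := by
        intro c d
        funext j
        simp [add_mul, Finset.sum_add_distrib] }
  have hT : ∀ c j, T c j = ∑ i, c i * v (j + i) := fun c j => rfl
  have hTW : ∀ c, T c ∈ W := by
    intro c
    have e : T c = ∑ i : ZMod p, (c i).val • (fun j => v (j + ((i.val : ℕ) : ZMod p))) := by
      funext j
      rw [hT, Finset.sum_apply]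
      refine Finset.sum_congr rfl (fun i _ => ?_)
      rw [Pi.smul_apply, nsmul_eq_mul, ZMod.natCast_zmod_val, ZMod.natCast_zmod_val]
    rw [e]
    exact W.sum_mem (fun i _ => W.nsmul_mem (hWn _) _)
  have hker : T.ker = ⊥ := by
    by_contra hne
    obtain ⟨c, hc0, hc⟩ := exists_const_mem T.ker (by
      intro a ha
      rw [AddMonoidHom.mem_ker] at ha ⊢
      funext j
      have h1 : T (shf a) j = T a (j - 1) := by
        rw [hT, hT]
        refine Fintype.sum_equiv (Equiv.addRight 1) _ _ (fun i => ?_)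
        show a (i + 1) * v (j + i) = a (i + 1) * v (j - 1 + (i + 1))
        congr 2
        ring
      rw [h1, ha]
      rfl) hne
    have h1 : T (fun _ => c) 0 = 0 := by
      rw [AddMonoidHom.mem_ker.1 hc]
      rfl
    have h2 : T (fun _ => c) 0 = c * ∑ i, v i := by
      rw [hT, Finset.mul_sum]
      refine Finset.sum_congr rfl (fun i _ => ?_)
      rw [zero_add]
    rw [h2] at h1
    rcases mul_eq_zero.1 h1 with h | h
    · exact hc0 h
    · exact hsum h
  have hinj : Function.Injective T := (AddMonoidHom.ker_eq_bot_iff T).1 hker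
  apply AddSubgroup.eq_top_of_le_card
  exact Nat.card_le_card_of_injective (fun c => (⟨T c, hTW c⟩ : ↥W))
    (fun c d h => hinj (congrArg Subtype.val h))

end shift

section wreath

variable {P : Type*} [Group P] [Finite P] {p : ℕ} [Fact p.Prime]

omit [Fact p.Prime] in
theorem padicValNat_sq_factorial [hp : Fact p.Prime] : padicValNat p (p ^ 2).factorial = p + 1 := by
  have h1 := padicValNat_factorial_mul (p := p) p
  have h2 := padicValNat_factorial_mul (p := p) 1
  rw [mul_one] at h2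
  rw [pow_two, h1, h2]
  simp [add_comm]

/-- the wreath quotient from a homomorphism `M → C_p` not killing the norm of `u` -/
theorem exists_surj_of_hom (hP : IsPGroup p P) (M : Subgroup P) [hMn : M.Normal]
    (hidx : M.index = p) (ψ : M →* Multiplicative (ZMod p)) (u z : P) (hu : u ∈ M)
    (hψ : ∀ h : ((List.range p).map (fun i => (z ^ i)⁻¹ * u * z ^ i)).prod ∈ M, ψ ⟨_, h⟩ ≠ 1) :
    ∃ (Q : Sylow p (Equiv.Perm (Fin (p ^ 2))))
      (f : P →* ↥(Q : Subgroup (Equiv.Perm (Fin (p ^ 2))))), Function.Surjective f := by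
  classical
  have hp := (Fact.out : p.Prime)
  have : NeZero p := ⟨hp.ne_zero⟩
  have hcm : ∀ (k : ℕ) (m : P), m ∈ M → (z ^ k)⁻¹ * m * z ^ k ∈ M :=
    fun k m hm => hMn.conj_mem' m hm (z ^ k)
  have hzp : z ^ p ∈ M := by
    rw [← hidx]
    exact M.pow_index_mem z
  have hψc : ∀ (b : P) (hb : b ∈ M) (m : P) (hm : m ∈ M) (h : b⁻¹ * m * b ∈ M),
      ψ ⟨_, h⟩ = ψ ⟨m, hm⟩ := by
    intro b hb m hm h
    have e : (⟨b⁻¹ * m * b, h⟩ : M) = (⟨b, hb⟩ : M)⁻¹ * ⟨m, hm⟩ * ⟨b, hb⟩ := rfl
    rw [e, map_mul, map_mul, map_inv, mul_comm, mul_inv_cancel_left]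
  -- coordinates
  let c : ℕ → M → ZMod p := fun k m =>
    Multiplicative.toAdd (ψ ⟨(z ^ k)⁻¹ * m.1 * z ^ k, hcm k m.1 m.2⟩)
  have hcdef : ∀ k (m : M), c k m =
      Multiplicative.toAdd (ψ ⟨(z ^ k)⁻¹ * m.1 * z ^ k, hcm k m.1 m.2⟩) := fun k m => rfl
  have hcmul : ∀ k (m m' : M), c k (m * m') = c k m + c k m' := by
    intro k m m'
    have e : (⟨(z ^ k)⁻¹ * (m * m').1 * z ^ k, hcm k _ (m * m').2⟩ : M) =
        ⟨(z ^ k)⁻¹ * m.1 * z ^ k, hcm k m.1 m.2⟩ *
          ⟨(z ^ k)⁻¹ * m'.1 * z ^ k, hcm k m'.1 m'.2⟩ := by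
      apply Subtype.ext
      show (z ^ k)⁻¹ * (m.1 * m'.1) * z ^ k = (z ^ k)⁻¹ * m.1 * z ^ k * ((z ^ k)⁻¹ * m'.1 * z ^ k)
      group
    rw [hcdef, e, map_mul]
    rfl
  have hcper : ∀ k (m : M), c (k + p) m = c k m := by
    intro k m
    have e : (z ^ (k + p))⁻¹ * m.1 * z ^ (k + p) =
        (z ^ p)⁻¹ * ((z ^ k)⁻¹ * m.1 * z ^ k) * z ^ p := by
      rw [pow_add]
      group
    have hmem : (z ^ p)⁻¹ * ((z ^ k)⁻¹ * m.1 * z ^ k) * z ^ p ∈ M := by
      rw [← e]
      exact hcm (k + p) m.1 m.2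
    have h1 := hψc (z ^ p) hzp _ (hcm k m.1 m.2) hmem
    rw [hcdef, hcdef, ← h1]
    congr 2
    exact Subtype.ext e
  have hcmod : ∀ k (m : M), c k m = c (k % p) m := by
    intro k m
    induction k using Nat.strong_induction_on with
    | _ k ih =>
      by_cases hk : k < p
      · rw [Nat.mod_eq_of_lt hk]
      · push Not at hk
        obtain ⟨j, rfl⟩ := Nat.exists_eq_add_of_le hk
        rw [add_comm p j, hcper, Nat.add_mod_right]
        exact ih j (by have := hp.pos; omega)
  have hcshift : ∀ k (m : M), c k ⟨z⁻¹ * m.1 * z, hMn.conj_mem' m.1 m.2 z⟩ = c (k + 1) m := by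
    intro k m
    rw [hcdef, hcdef]
    congr 2
    apply Subtype.ext
    show (z ^ k)⁻¹ * (z⁻¹ * m.1 * z) * z ^ k = (z ^ (k + 1))⁻¹ * m.1 * z ^ (k + 1)
    rw [pow_succ]
    group
  -- the coordinate map
  let Ψ : M → (ZMod p → ZMod p) := fun m i => c i.val m
  have hΨmul : ∀ m m', Ψ (m * m') = Ψ m + Ψ m' := fun m m' => funext fun i => hcmul _ m m'
  let ΨH : M →* Multiplicative (ZMod p → ZMod p) :=
    MonoidHom.mk' (fun m => Multiplicative.ofAdd (Ψ m)) (by
      intro a b
      show Multiplicative.ofAdd (Ψ (a * b)) = Multiplicative.ofAdd (Ψ a + Ψ b)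
      rw [hΨmul])
  have hΨH : ∀ m, ΨH m = Multiplicative.ofAdd (Ψ m) := fun m => rfl
  let W : AddSubgroup (ZMod p → ZMod p) :=
    { carrier := {v | Multiplicative.ofAdd v ∈ ΨH.range}
      add_mem' := fun {a b} ha hb => ΨH.range.mul_mem ha hb
      zero_mem' := ΨH.range.one_mem
      neg_mem' := fun {a} ha => ΨH.range.inv_mem ha }
  have hWmem : ∀ v, v ∈ W ↔ ∃ m, Ψ m = v := by
    intro v
    constructor
    · rintro ⟨m, hm⟩
      exact ⟨m, hm⟩
    · rintro ⟨m, hm⟩
      exact ⟨m, by rw [hΨH, hm]⟩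
  have hWshift : ∀ a ∈ W, shf a ∈ W := by
    intro a ha
    obtain ⟨m, rfl⟩ := (hWmem a).1 ha
    refine (hWmem _).2 ⟨⟨z⁻¹ * m.1 * z, hMn.conj_mem' m.1 m.2 z⟩, ?_⟩
    funext i
    show c i.val _ = c (i + 1).val m
    rw [hcshift, hcmod (i.val + 1), ZMod.val_add, ZMod.val_one]
  -- the coordinate sum of `u`
  have hui : ∀ i : ℕ, (z ^ i)⁻¹ * u * z ^ i ∈ M := fun i => hcm i u hu
  obtain ⟨hL, eL⟩ := hom_list_prod M ψ (fun i => (z ^ i)⁻¹ * u * z ^ i) hui p
  have hsum : ∑ i, Ψ ⟨u, hu⟩ i ≠ 0 := by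
    have h1 : ∑ i : ZMod p, Ψ ⟨u, hu⟩ i = ∑ i ∈ Finset.range p, c i ⟨u, hu⟩ := by
      refine Finset.sum_nbij' (fun i => i.val) (fun k => (k : ZMod p)) ?_ ?_ ?_ ?_ ?_
      · intro i _
        exact Finset.mem_range.2 (ZMod.val_lt i)
      · intro k _
        exact Finset.mem_univ _
      · intro i _
        exact ZMod.natCast_zmod_val i
      · intro k hk
        exact ZMod.val_natCast_of_lt (Finset.mem_range.1 hk)
      · intro i _
        rfl
    rw [h1]
    intro h0
    apply hψ hL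
    rw [eL]
    apply Multiplicative.toAdd.injective
    rw [toAdd_prod]
    exact h0
  have hWtop : W = ⊤ := shift_top W hWshift (Ψ ⟨u, hu⟩) ((hWmem _).2 ⟨_, rfl⟩) hsum
  have hΨsurj : Function.Surjective ΨH := by
    intro v
    have h1 : Multiplicative.toAdd v ∈ W := by
      rw [hWtop]
      exact AddSubgroup.mem_top _
    obtain ⟨m, hm⟩ := (hWmem _).1 h1
    exact ⟨m, by rw [hΨH, hm]; rfl⟩
  have hcardΨ : ΨH.ker.index = p ^ p := by
    rw [Subgroup.index_ker, MonoidHom.range_eq_top.2 hΨsurj, Subgroup.card_top,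
      Nat.card_eq_fintype_card, Fintype.card_multiplicative, Fintype.card_fun, ZMod.card]
  -- ψ is onto
  have hψidx : ψ.ker.index = p := by
    rw [Subgroup.index_ker]
    have h1 : Nat.card ψ.range ∣ p := by
      have h2 := Subgroup.card_subgroup_dvd_card ψ.range
      rwa [Nat.card_eq_fintype_card (α := Multiplicative (ZMod p)), Fintype.card_multiplicative,
        ZMod.card] at h2
    rcases (Nat.dvd_prime hp).1 h1 with h | h
    · exfalso
      have h3 := Subgroup.eq_bot_of_card_eq _ h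
      apply hψ hL
      have h4 : ψ ⟨_, hL⟩ ∈ ψ.range := ⟨_, rfl⟩
      rw [h3] at h4
      exact Subgroup.mem_bot.1 h4
    · exact h
  let KP : Subgroup P := ψ.ker.map M.subtype
  have hKPidx : KP.index = p ^ 2 := by
    show (ψ.ker.map M.subtype).index = p ^ 2
    rw [Subgroup.index_map_subtype, hψidx, hidx, pow_two]
  let ρ : P →* Equiv.Perm (P ⧸ KP) := MulAction.toPermHom P (P ⧸ KP)
  have hcardq : Nat.card (P ⧸ KP) = p ^ 2 := by
    rw [← Subgroup.index_eq_card]
    exact hKPidx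
  let e : (P ⧸ KP) ≃ Fin (p ^ 2) := (Finite.equivFin _).trans (finCongr hcardq)
  let ρ' : P →* Equiv.Perm (Fin (p ^ 2)) := e.permCongrHom.toMonoidHom.comp ρ
  have hker : ρ'.ker ≤ ΨH.ker.map M.subtype := by
    intro g hg
    have h1 : ρ g = 1 := by
      have h2 : e.permCongrHom (ρ g) = 1 := MonoidHom.mem_ker.1 hg
      exact e.permCongrHom.injective (by rw [h2, map_one])
    have h3 : g ∈ KP.normalCore := by
      rw [Subgroup.normalCore_eq_ker]
      exact MonoidHom.mem_ker.2 h1
    have h4 : ∀ b : P, b * g * b⁻¹ ∈ KP := h3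
    have hgK : g ∈ KP := by
      have := h4 1
      simpa using this
    obtain ⟨g', -, rfl⟩ := hgK
    refine ⟨g', ?_, rfl⟩
    show g' ∈ ΨH.ker
    rw [MonoidHom.mem_ker, hΨH]
    show Multiplicative.ofAdd (Ψ g') = Multiplicative.ofAdd 0
    congr 1
    funext i
    show c i.val g' = 0
    have h5 := h4 (z ^ i.val)⁻¹
    rw [inv_inv] at h5
    obtain ⟨y, hy, hy'⟩ := h5
    rw [hcdef]
    have e1 : (⟨(z ^ i.val)⁻¹ * g'.1 * z ^ i.val, hcm _ g'.1 g'.2⟩ : M) = y :=
      Subtype.ext hy'.symm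
    rw [e1, MonoidHom.mem_ker.1 hy]
    rfl
  have hdvd : p ^ (p + 1) ∣ Nat.card ρ'.range := by
    rw [← Subgroup.index_ker]
    have h1 := Subgroup.index_dvd_of_le hker
    rwa [Subgroup.index_map_subtype, hcardΨ, hidx, ← pow_succ] at h1
  have hpg : IsPGroup p ρ'.range :=
    IsPGroup.of_surjective hP ρ'.rangeRestrict ρ'.rangeRestrict_surjective
  obtain ⟨j, hj⟩ := IsPGroup.iff_card.1 hpg
  have hcardS : Nat.card (Equiv.Perm (Fin (p ^ 2))) = (p ^ 2).factorial := by
    rw [Nat.card_perm, Nat.card_eq_fintype_card, Fintype.card_fin]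
  have hj1 : p + 1 ≤ j := by
    rw [hj] at hdvd
    exact (Nat.pow_dvd_pow_iff_le_right hp.one_lt).1 hdvd
  have hj2 : j ≤ p + 1 := by
    have h1 := Subgroup.card_subgroup_dvd_card ρ'.range
    rw [hj, hcardS] at h1
    rw [← padicValNat_sq_factorial (p := p)]
    exact (padicValNat_dvd_iff_le (Nat.factorial_ne_zero _)).1 h1
  have hcard : Nat.card ρ'.range = p ^ (Nat.card (Equiv.Perm (Fin (p ^ 2)))).factorization p := by
    rw [hj, hcardS, Nat.factorization_def _ hp, padicValNat_sq_factorial]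
    congr 1
    omega
  exact ⟨Sylow.ofCard ρ'.range hcard, ρ'.rangeRestrict, ρ'.rangeRestrict_surjective⟩

/-- a finite `p`-group element that is not a `p`-th power modulo the derived subgroup is
detected by a homomorphism onto `C_p` -/
theorem exists_hom_of_not_pow_comm {M : Type*} [Group M] [Finite M] (x : M)
    (hx : ∀ m : M, x * (m ^ p)⁻¹ ∉ commutator M) :
    ∃ ψ : M →* Multiplicative (ZMod p), ψ x ≠ 1 := by
  classical
  have hp := (Fact.out : p.Prime)
  have : NeZero p := ⟨hp.ne_zero⟩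
  let R : Subgroup (Abelianization M) := (powMonoidHom p : Abelianization M →* Abelianization M).range
  let π : M →* (Abelianization M ⧸ R) := (QuotientGroup.mk' R).comp Abelianization.of
  have hπx : π x ≠ 1 := by
    intro h
    have h1 : Abelianization.of x ∈ R := (QuotientGroup.eq_one_iff _).1 h
    obtain ⟨e, he⟩ := h1
    obtain ⟨m, rfl⟩ := QuotientGroup.mk_surjective e
    apply hx m
    have h2 : Abelianization.of (x * (m ^ p)⁻¹) = 1 := by
      rw [map_mul, map_inv, map_pow, ← he]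
      show (Abelianization.of m) ^ p * ((Abelianization.of m) ^ p)⁻¹ = 1
      rw [mul_inv_cancel]
    exact (QuotientGroup.eq_one_iff _).1 h2
  have hexp : ∀ a : Abelianization M ⧸ R, a ^ p = 1 := by
    intro a
    obtain ⟨e, rfl⟩ := QuotientGroup.mk_surjective a
    rw [← QuotientGroup.mk_pow, QuotientGroup.eq_one_iff]
    exact ⟨e, rfl⟩
  have hfr : frattini (Abelianization M ⧸ R) = ⊥ :=
    Cfsg.Agent.Lib.helper24.frattini_eq_bot_of_elemAb hp hexp
  have hnot : π x ∉ frattini (Abelianization M ⧸ R) := by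
    rw [hfr, Subgroup.mem_bot]
    exact hπx
  obtain ⟨K, hK, hxK⟩ : ∃ K : Subgroup (Abelianization M ⧸ R), IsCoatom K ∧ π x ∉ K := by
    by_contra hcon
    push Not at hcon
    apply hnot
    unfold frattini Order.radical
    rw [Subgroup.mem_iInf]
    intro K
    rw [Subgroup.mem_iInf]
    intro hK
    exact hcon K hK
  have hE'p : IsPGroup p (Abelianization M ⧸ R) := fun g => ⟨1, by rw [pow_one]; exact hexp g⟩
  obtain ⟨hKn, hKi⟩ := Cfsg.Agent.Lib.helper24.pgroup_coatom_normal_index hE'p hK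
  have hcard : Nat.card ((Abelianization M ⧸ R) ⧸ K) = p := by
    rw [← Subgroup.index_eq_card]
    exact hKi
  have hcard2 : Nat.card (Multiplicative (ZMod p)) = p := by
    rw [Nat.card_eq_fintype_card, Fintype.card_multiplicative, ZMod.card]
  let φ : ((Abelianization M ⧸ R) ⧸ K) ≃* Multiplicative (ZMod p) :=
    mulEquivOfPrimeCardEq (p := p) hcard hcard2
  refine ⟨φ.toMonoidHom.comp ((QuotientGroup.mk' K).comp π), ?_⟩
  intro h
  have h1 : (QuotientGroup.mk' K) (π x) = 1 := φ.injective (by rw [map_one]; exact h)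
  exact hxK ((QuotientGroup.eq_one_iff _).1 h1)

/-- **wreath quotient criterion** -/
theorem exists_surj_sylow (hP : IsPGroup p P) (M : Subgroup P) (hidx : M.index = p) (u z : P)
    (hu : u ∈ M)
    (hprod : ∀ m' ∈ M, ((List.range p).map (fun i => (z ^ i)⁻¹ * u * z ^ i)).prod * (m' ^ p)⁻¹ ∉
      (⁅M, M⁆ : Subgroup P)) :
    ∃ (Q : Sylow p (Equiv.Perm (Fin (p ^ 2))))
      (f : P →* ↥(Q : Subgroup (Equiv.Perm (Fin (p ^ 2))))), Function.Surjective f := by
  have hp := (Fact.out : p.Prime)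
  have hMn : M.Normal := by
    apply Subgroup.normal_of_index_eq_minFac_card
    obtain ⟨n, hn⟩ := IsPGroup.iff_card.1 hP
    have hn0 : n ≠ 0 := by
      rintro rfl
      have h1 : M.index ∣ Nat.card P := M.index_dvd_card
      rw [hn, pow_zero, hidx] at h1
      exact hp.one_lt.ne' (Nat.dvd_one.1 h1)
    rw [hidx, hn, Nat.pow_minFac hn0, hp.minFac_eq]
  have hN : ((List.range p).map (fun i => (z ^ i)⁻¹ * u * z ^ i)).prod ∈ M := by
    apply Subgroup.list_prod_mem
    intro x hx
    obtain ⟨i, -, rfl⟩ := List.mem_map.1 hx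
    exact hMn.conj_mem' u hu (z ^ i)
  obtain ⟨ψ, hψ⟩ := exists_hom_of_not_pow_comm (p := p)
    (⟨_, hN⟩ : M) (by
      intro m hcon
      apply hprod m.1 m.2
      have e : (commutator ↥M).map M.subtype = ⁅M, M⁆ := by
        rw [commutator_def, Subgroup.map_commutator, ← MonoidHom.range_eq_map, M.range_subtype]
      rw [← e]
      exact ⟨_, hcon, rfl⟩)
  exact exists_surj_of_hom hP M hidx ψ u z hu (fun h => hψ)

end wreath

end Cfsg.Agent.Lib.helper40
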