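import Mathlib
import Cfsg.Agent.Lib.helper40.TransferMin
import Cfsg.Agent.Lib.helper40.WreathQuot

/-!
# Yoshida's transfer theorem: the group-theoretic core

* `star_of_no_wreath`: the norm condition `(★)` of `transfer_min` for a `p`-group without a
  quotient `C_p ≀ C_p`.
* `focal_le_of_star`: if `(★)` holds for suitable subgroups `B ∋ u` of a Sylow subgroup `S`
  whose `G`-conjugates inside `S` are controlled by `N ≥ S`, then `S ∩ G' ≤ N'`.
-/

set_option autoImplicit false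

namespace Cfsg.Agent.Lib.helper40

open scoped commutatorElement

section star

variable {Γ : Type*} [Group Γ] {P : Type*} [Group P] [Finite P] {p : ℕ} [Fact p.Prime]

/-- `(★)` from the absence of a wreath quotient -/
theorem star_of_no_wreath (hP : IsPGroup p P)
    (hno : ¬ ∃ (Q : Sylow p (Equiv.Perm (Fin (p ^ 2))))
      (f : P →* ↥(Q : Subgroup (Equiv.Perm (Fin (p ^ 2))))), Function.Surjective f)
    (ι : P →* Γ) (B : Subgroup Γ) (hB : ι.range = B) (u : Γ)
    (M : Subgroup Γ) (hMB : M ≤ B) (hidx : M.relIndex B = p) (hu : u ∈ M) :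
    ∃ z ∈ B, z ∉ M ∧ ∃ m' ∈ M,
      ((List.range p).map (fun i => (z ^ i)⁻¹ * u * z ^ i)).prod * (m' ^ p)⁻¹ ∈ ⁅M, M⁆ := by
  have hp := (Fact.out : p.Prime)
  have hidx0 : (M.comap ι).index = p := by
    rw [Subgroup.index_comap, hB, hidx]
  obtain ⟨u₀, rfl⟩ : ∃ u₀ : P, ι u₀ = u := by
    have h1 : u ∈ ι.range := by rw [hB]; exact hMB hu
    exact h1
  have hu₀ : u₀ ∈ M.comap ι := hu
  obtain ⟨z₀, hz₀⟩ : ∃ z₀ : P, z₀ ∉ M.comap ι := by
    by_contra hcon
    push Not at hcon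
    have h1 : M.comap ι = ⊤ := (Subgroup.eq_top_iff' _).2 hcon
    rw [h1, Subgroup.index_top] at hidx0
    exact hp.one_lt.ne hidx0
  refine ⟨ι z₀, by rw [← hB]; exact ⟨z₀, rfl⟩, hz₀, ?_⟩
  by_contra hcon
  push Not at hcon
  apply hno
  apply exists_surj_sylow hP (M.comap ι) hidx0 u₀ z₀ hu₀
  intro m₀ hm₀ hmem
  apply hcon (ι m₀) hm₀
  have h1 : ι (((List.range p).map (fun i => (z₀ ^ i)⁻¹ * u₀ * z₀ ^ i)).prod * (m₀ ^ p)⁻¹) ∈
      (⁅M.comap ι, M.comap ι⁆).map ι := ⟨_, hmem, rfl⟩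
  rw [Subgroup.map_commutator] at h1
  have h2 : ⁅(M.comap ι).map ι, (M.comap ι).map ι⁆ ≤ ⁅M, M⁆ :=
    Subgroup.commutator_mono (Subgroup.map_comap_le _ _) (Subgroup.map_comap_le _ _)
  have h3 := h2 h1
  rw [map_mul, map_inv, map_pow, map_list_prod, List.map_map] at h3
  have e : (⇑ι ∘ fun i => (z₀ ^ i)⁻¹ * u₀ * z₀ ^ i) = fun i => (ι z₀ ^ i)⁻¹ * ι u₀ * ι z₀ ^ i := by
    funext i
    simp
  rw [e] at h3
  exact h3

end star

section focal

variable {G : Type*} [Group G] [Finite G] {p : ℕ} [Fact p.Prime]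

/-- **Yoshida's transfer argument.** -/
theorem focal_le_of_star (S : Sylow p G) (N : Subgroup G) (hSN : (S : Subgroup G) ≤ N)
    (hB : ∀ u ∈ (S : Subgroup G), u ∈ commutator G → ∃ B : Subgroup G,
      B ≤ (S : Subgroup G) ∧ u ∈ B ∧
      (∀ g : G, (∀ b ∈ B, g⁻¹ * b * g ∈ (S : Subgroup G)) → g ∈ N) ∧
      (∀ M : Subgroup G, M ≤ B → M.relIndex B = p → u ∈ M → ∃ z ∈ B, z ∉ M ∧ ∃ m' ∈ M,
        ((List.range p).map (fun i => (z ^ i)⁻¹ * u * z ^ i)).prod * (m' ^ p)⁻¹ ∈ ⁅M, M⁆)) :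
    (S : Subgroup G) ⊓ commutator G ≤ ⁅N, N⁆ := by
  classical
  have hp := (Fact.out : p.Prime)
  let lam : ↥(S : Subgroup G) →* Abelianization ↥N :=
    Abelianization.of.comp (Subgroup.inclusion hSN)
  have hlam : ∀ (y : G) (hy : y ∈ (S : Subgroup G)), lam ⟨y, hy⟩ = Abelianization.of ⟨y, hSN hy⟩ :=
    fun y hy => rfl
  let Y' : Subgroup ↥(S : Subgroup G) := (commutator G).subgroupOf (S : Subgroup G)
  let Yb : Subgroup (Abelianization ↥N) := Y'.map lam
  let Yp : Subgroup (Abelianization ↥N) := Yb.map (powMonoidHom p)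
  let θ : ↥(S : Subgroup G) →* (Abelianization ↥N ⧸ Yp) := (QuotientGroup.mk' Yp).comp lam
  have hθ : ∀ x, θ x = QuotientGroup.mk' Yp (lam x) := fun x => rfl
  have hYb : ∀ (y : G) (hy : y ∈ (S : Subgroup G)), y ∈ commutator G → lam ⟨y, hy⟩ ∈ Yb :=
    fun y hy hyG => ⟨⟨y, hy⟩, hyG, rfl⟩
  have hpowY : ∀ (y : G) (hy : y ∈ (S : Subgroup G)), y ∈ commutator G → θ ⟨y, hy⟩ ^ p = 1 := by
    intro y hy hyG
    rw [hθ, ← map_pow]
    exact (QuotientGroup.eq_one_iff _).2 ⟨lam ⟨y, hy⟩, hYb y hy hyG, rfl⟩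
  have key : ∀ (n : ℕ) (u : G) (hu : u ∈ (S : Subgroup G)), u ∈ commutator G → orderOf u = n →
      θ ⟨u, hu⟩ = 1 := by
    intro n
    induction n using Nat.strong_induction_on with
    | _ n ih =>
      intro u hu huG hord
      by_contra hne
      obtain ⟨B, hBS, huB, hfixB, hstarB⟩ := hB u hu huG
      have hBp : IsPGroup p B := S.2.to_le hBS
      have hu1 : u ≠ 1 := by
        rintro rfl
        apply hne
        exact map_one θ
      obtain ⟨k, hk⟩ := orderOf_of_mem_pgroup B hBp u huB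
      have hk0 : k ≠ 0 := by
        rintro rfl
        rw [pow_zero, orderOf_eq_one_iff] at hk
        exact hu1 hk
      have hmin : ∀ (g : G) (m : ℕ), p ∣ m →
          ∀ h : g⁻¹ * u ^ m * g ∈ (S : Subgroup G), θ ⟨_, h⟩ = 1 := by
        intro g m hm h
        have hyG : g⁻¹ * u ^ m * g ∈ commutator G := by
          have h1 := (inferInstance : (commutator G).Normal).conj_mem (u ^ m)
            ((commutator G).pow_mem huG m) g⁻¹
          rwa [inv_inv] at h1
        have hord1 : orderOf (g⁻¹ * u ^ m * g) = orderOf (u ^ m) := by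
          have h1 := orderOf_injective (MulAut.conj g⁻¹).toMonoidHom
            (MulAut.conj g⁻¹).injective (u ^ m)
          rw [← h1]
          simp
        have hord2 : orderOf (u ^ m) < orderOf u := by
          rw [orderOf_pow]
          apply Nat.div_lt_self (orderOf_pos u)
          have h1 : p ∣ Nat.gcd (orderOf u) m := by
            apply Nat.dvd_gcd _ hm
            rw [hk]
            exact dvd_pow_self p hk0
          exact lt_of_lt_of_le hp.one_lt (Nat.le_of_dvd (Nat.gcd_pos_of_pos_left _ (orderOf_pos u)) h1)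
        exact ih _ (by rw [hord1, ← hord]; exact hord2) _ h hyG rfl
      have hfix : ∀ g : G, (∀ b ∈ B, g⁻¹ * b * g ∈ (S : Subgroup G)) →
          ∀ h : g⁻¹ * u * g ∈ (S : Subgroup G),
            θ ⟨_, h⟩ = (θ.comp (Subgroup.inclusion hBS)) ⟨u, huB⟩ := by
        intro g hg h
        have hgN : g ∈ N := hfixB g hg
        show θ ⟨_, h⟩ = θ ⟨u, hu⟩
        rw [hθ, hθ, hlam, hlam]
        congr 1
        have e : (⟨g⁻¹ * u * g, hSN h⟩ : ↥N) = (⟨g, hgN⟩ : ↥N)⁻¹ * ⟨u, hSN hu⟩ * ⟨g, hgN⟩ := rfl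
        rw [e, map_mul, map_mul, map_inv, mul_comm, mul_inv_cancel_left]
      have hstab : ∀ (g d : G) (hd : d ∈ B) (h : g⁻¹ * d * g ∈ (S : Subgroup G)),
          θ ⟨_, h⟩ ^ p = (θ.comp (Subgroup.inclusion hBS)) ⟨d, hd⟩ ^ p := by
        intro g d hd h
        have hdS : d ∈ (S : Subgroup G) := hBS hd
        have hyS : d⁻¹ * (g⁻¹ * d * g) ∈ (S : Subgroup G) :=
          (S : Subgroup G).mul_mem ((S : Subgroup G).inv_mem hdS) h
        have hyG : d⁻¹ * (g⁻¹ * d * g) ∈ commutator G := by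
          have h1 : ⁅d⁻¹, g⁻¹⁆ ∈ ⁅(⊤ : Subgroup G), ⊤⁆ :=
            Subgroup.commutator_mem_commutator (Subgroup.mem_top _) (Subgroup.mem_top _)
          have e : ⁅d⁻¹, g⁻¹⁆ = d⁻¹ * (g⁻¹ * d * g) := by
            rw [commutatorElement_def]
            group
          rw [e] at h1
          exact h1
        have e : (⟨g⁻¹ * d * g, h⟩ : ↥(S : Subgroup G)) = ⟨d, hdS⟩ * ⟨_, hyS⟩ :=
          Subtype.ext (by simp)
        show θ ⟨_, h⟩ ^ p = θ ⟨d, hdS⟩ ^ p
        rw [e, map_mul, mul_pow, hpowY _ hyS hyG, mul_one]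
      have hκ : (θ.comp (Subgroup.inclusion hBS)) ⟨u, huB⟩ ^ p = 1 := hpowY u hu huG
      have : Finite B := Finite.of_injective (Subgroup.inclusion hBS)
        (Subgroup.inclusion_injective hBS)
      obtain ⟨f, hf, htr⟩ := transfer_min (p := p) (S : Subgroup G) θ B hBp u huB
        (θ.comp (Subgroup.inclusion hBS)) hmin hfix hstab hκ hstarB
      have htr1 : MonoidHom.transfer θ u = 1 :=
        MonoidHom.mem_ker.1 (Abelianization.commutator_subset_ker (MonoidHom.transfer θ) huG)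
      have hpf : ¬ p ∣ f := by
        rw [hf.dvd_iff (dvd_refl p)]
        exact S.not_dvd_index
      have hθu : θ ⟨u, hu⟩ ^ f = 1 := by
        rw [htr1] at htr
        exact htr.symm
      have h1 := (pow_gcd_eq_one (a := θ ⟨u, hu⟩)).2 ⟨hpowY u hu huG, hθu⟩
      rw [(Nat.Prime.coprime_iff_not_dvd hp).2 hpf, pow_one] at h1
      exact hne h1
  -- the image of `S ∩ G'` is `p`-divisible, hence trivial
  have hle : Yb ≤ Yp := by
    rintro _ ⟨⟨y, hy⟩, hyG, rfl⟩
    have h1 := key _ y hy hyG rfl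
    rw [hθ] at h1
    exact (QuotientGroup.eq_one_iff _).1 h1
  have hYbp : IsPGroup p Yb := (S.2.to_subgroup Y').map lam
  obtain ⟨k, hk⟩ := IsPGroup.iff_card.1 hYbp
  have hdiv : ∀ j : ℕ, ∀ a ∈ Yb, ∃ b ∈ Yb, a = b ^ p ^ j := by
    intro j
    induction j with
    | zero => intro a ha; exact ⟨a, ha, by simp⟩
    | succ j ih =>
      intro a ha
      obtain ⟨b, hb, rfl⟩ := ih a ha
      obtain ⟨c, hc, rfl⟩ := hle hb
      refine ⟨c, hc, ?_⟩
      show (c ^ p) ^ p ^ j = c ^ p ^ (j + 1)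
      rw [← pow_mul, pow_succ']
  have hYbot : ∀ a ∈ Yb, a = 1 := by
    intro a ha
    obtain ⟨b, hb, rfl⟩ := hdiv k a ha
    have h1 : (⟨b, hb⟩ : ↥Yb) ^ Nat.card ↥Yb = 1 := pow_card_eq_one'
    rw [hk] at h1
    exact congrArg Subtype.val h1
  rintro y ⟨hyS, hyG⟩
  have h1 := hYbot _ (hYb y hyS hyG)
  rw [hlam] at h1
  have h2 : (⟨y, hSN hyS⟩ : ↥N) ∈ commutator ↥N := (QuotientGroup.eq_one_iff _).1 h1
  have e : (commutator ↥N).map N.subtype = ⁅N, N⁆ := by
    rw [commutator_def, Subgroup.map_commutator, ← MonoidHom.range_eq_map, N.range_subtype]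
  rw [← e]
  exact ⟨_, h2, rfl⟩

end focal

end Cfsg.Agent.Lib.helper40
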