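import Cfsg.Agent.Lib.helper86.BisetFocal
import Cfsg.Agent.Lib.helper40.YoshidaCore

/-!
# Yoshida's transfer theorem for saturated fusion systems

`fusion_focal_le`: if `S` has no quotient `C_p ≀ C_p`, then the focal subgroup of a saturated
fusion system `F` over `S` lies in every subgroup `D` containing `x⁻¹ α(x)` for all
`α ∈ Aut_F(S)`, `x ∈ S`.  The proof evaluates the transfer of the characteristic biset
(helper86) at an element of minimal order (`transfer_min`).
-/

set_option autoImplicit false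

namespace Cfsg.Agent.Lib.helper40

open Cfsg Cfsg.FusionSystem Cfsg.Agent.Lib.helper86 Cfsg.Agent.Lib.helper88

open scoped commutatorElement

variable {Ω : Type*} [Group Ω] {S : Subgroup Ω}

theorem focalSubgroup_le (F : FusionSystem S) : F.focalSubgroup ≤ S := by
  unfold FusionSystem.focalSubgroup
  rw [Subgroup.closure_le]
  rintro _ ⟨P, φ, x, hφ, rfl⟩
  exact S.mul_mem (S.inv_mem ((F.le_of_mem hφ).1 x.2)) ((F.le_of_mem hφ).2 x)

theorem aut_focal_mem (F : FusionSystem S) (D : Subgroup Ω)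
    (hD : ∀ (α : S →* Ω), α ∈ F.Hom S → ∀ x : S, (x : Ω)⁻¹ * α x ∈ D)
    (Q : Subgroup Ω) (χ : Q →* Ω) (hχ : χ ∈ F.Hom Q) (hQ : Q = S) (q : Q) :
    (q : Ω)⁻¹ * χ q ∈ D := by
  subst hQ
  exact hD χ hχ q

/-- **Yoshida's theorem for saturated fusion systems**, general form. -/
theorem fusion_focal_le {p : ℕ} [Fact p.Prime] [Finite S] (hS : IsPGroup p S)
    (F : FusionSystem S) (hF : F.IsSaturated p)
    (hno : ¬ ∃ (Q : Sylow p (Equiv.Perm (Fin (p ^ 2))))
      (f : ↥S →* ↥(Q : Subgroup (Equiv.Perm (Fin (p ^ 2))))), Function.Surjective f)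
    (D : Subgroup Ω)
    (hD : ∀ (α : S →* Ω), α ∈ F.Hom S → ∀ x : S, (x : Ω)⁻¹ * α x ∈ D) :
    F.focalSubgroup ≤ D := by
  classical
  have hp := (Fact.out : p.Prime)
  let _ : Fintype (Subgroup (S × S)) := Fintype.ofFinite _
  obtain ⟨k, hk1, hst, r, hr, hpr⟩ := exists_char hS F hF
  have hk3 : ∀ (Q : Subgroup Ω) (χ χ' : Q →* Ω), χ ∈ F.Hom Q → χ' ∈ F.Hom Q →
      mark k (tw S Q χ) = mark k (tw S Q χ') := by
    intro Q χ χ' hχ hχ'
    have : Finite Q := finite_of_le (F.le_of_mem hχ).1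
    exact hst Q Q χ χ' hχ hχ' (isConj_refl F (F.le_of_mem hχ).1) Nat.card_pos
  have hfree := real_free_right F k hk1
  have hX : Nat.card (Real k) = Nat.card S * r := by
    rw [← hr, ← card_fix_real k ⊥]
    symm
    exact Nat.card_congr (Equiv.subtypeUnivEquiv (fun x e he => by
      rw [Subgroup.mem_bot.1 he, one_smul]))
  have hblk : Nat.card (Blk S (Real k)) = r := by
    have h1 := card_blk_mul S (X := Real k) hfree
    rw [hX, mul_comm] at h1
    exact Nat.eq_of_mul_eq_mul_left Nat.card_pos h1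
  obtain ⟨x₀, hx₀⟩ := exists_index_not_dvd S (X := Real k) (p := p) (by rw [hblk]; exact hpr)
  have hιinj : Function.Injective (biIota S (Real k)) := by
    intro a b hab
    have h1 : biIota S (Real k) (b⁻¹ * a) = 1 := by
      rw [map_mul, map_inv, hab, inv_mul_cancel]
    have h2 : ((b⁻¹ * a, 1) : S × S) • x₀ = x₀ :=
      congrArg (fun g : biAut S (Real k) => (g : Equiv.Perm (Real k)) x₀) h1
    have h3 := real_free_left F k hk1 x₀ _ h2
    exact (inv_mul_eq_one.1 h3).symm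
  -- the target group
  have hcomm : commutator ↥S ≤ D.subgroupOf S := by
    rw [commutator_def, Subgroup.commutator_le]
    intro a _ b _
    rw [Subgroup.mem_subgroupOf]
    have h1 := hD (conjHom S b) (F.conj_mem le_rfl b.2) a⁻¹
    have e : ((⁅a, b⁆ : ↥S) : Ω) = ((a⁻¹ : ↥S) : Ω)⁻¹ * conjHom S (b : Ω) a⁻¹ := by
      simp [conjHom, commutatorElement_def, mul_assoc]
    rw [e]
    exact h1
  let lam0 : ↥S →* Abelianization ↥S ⧸ (D.subgroupOf S).map Abelianization.of :=
    (QuotientGroup.mk' _).comp Abelianization.of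
  have hlam0 : ∀ x : ↥S, lam0 x = 1 → (x : Ω) ∈ D := by
    intro x hx
    have h1 : Abelianization.of x ∈ (D.subgroupOf S).map Abelianization.of :=
      (QuotientGroup.eq_one_iff _).1 hx
    obtain ⟨d, hd, hdx⟩ := h1
    have h2 : Abelianization.of (d⁻¹ * x) = 1 := by
      rw [map_mul, map_inv, hdx, inv_mul_cancel]
    have h3 : d⁻¹ * x ∈ commutator ↥S := (QuotientGroup.eq_one_iff _).1 h2
    have h4 : d * (d⁻¹ * x) ∈ D.subgroupOf S := (D.subgroupOf S).mul_mem hd (hcomm h3)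
    rw [mul_inv_cancel_left] at h4
    exact Subgroup.mem_subgroupOf.1 h4
  have hlam0' : ∀ x : ↥S, (x : Ω) ∈ D → lam0 x = 1 := by
    intro x hx
    exact (QuotientGroup.eq_one_iff _).2 ⟨x, Subgroup.mem_subgroupOf.2 hx, rfl⟩
  let Yb : Subgroup (Abelianization ↥S ⧸ (D.subgroupOf S).map Abelianization.of) :=
    (F.focalSubgroup.subgroupOf S).map lam0
  let Yp : Subgroup (Abelianization ↥S ⧸ (D.subgroupOf S).map Abelianization.of) :=
    Yb.map (powMonoidHom p)
  let lam : ↥S →* (Abelianization ↥S ⧸ (D.subgroupOf S).map Abelianization.of) ⧸ Yp :=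
    (QuotientGroup.mk' Yp).comp lam0
  have hlam : ∀ x, lam x = QuotientGroup.mk' Yp (lam0 x) := fun x => rfl
  have hL1 : ∀ (y : Ω) (hy : y ∈ S), y ∈ F.focalSubgroup → lam ⟨y, hy⟩ ^ p = 1 := by
    intro y hy hyF
    rw [hlam, ← map_pow]
    exact (QuotientGroup.eq_one_iff _).2 ⟨lam0 ⟨y, hy⟩, ⟨⟨y, hy⟩, hyF, rfl⟩, rfl⟩
  have hL3 : ∀ (Q : Subgroup Ω) (χ : Q →* Ω) (hχ : χ ∈ F.Hom Q) (q : Q),
      lam ⟨χ q, (F.le_of_mem hχ).2 q⟩ ^ p = lam ⟨q, (F.le_of_mem hχ).1 q.2⟩ ^ p := by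
    intro Q χ hχ q
    have hmem : (q : Ω)⁻¹ * χ q ∈ F.focalSubgroup :=
      Subgroup.subset_closure ⟨Q, χ, q, hχ, rfl⟩
    have hS' : (q : Ω)⁻¹ * χ q ∈ S := focalSubgroup_le F hmem
    have e : (⟨χ q, (F.le_of_mem hχ).2 q⟩ : ↥S) = ⟨q, (F.le_of_mem hχ).1 q.2⟩ * ⟨_, hS'⟩ :=
      Subtype.ext (by simp)
    rw [e, map_mul, mul_pow, hL1 _ hS' hmem, mul_one]
  -- the block homomorphism and its values on conjugates of `S`
  have hC : ∀ g : biAut S (Real k), ∃ (Q : Subgroup Ω) (χ : Q →* Ω) (hχ : χ ∈ F.Hom Q),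
      ∀ (s : S) (w : biAut S (Real k)), w = biIota S (Real k) s →
        ∀ h : g⁻¹ * w * g ∈ MulAction.stabilizer (biAut S (Real k)) (blk S x₀),
          ∃ q : Q, χ q = (s : Ω) ∧
            blkHom S hfree lam⁻¹ x₀ ⟨_, h⟩ = lam ⟨q, (F.le_of_mem hχ).1 q.2⟩ := by
    intro g
    obtain ⟨Q, χ, hχ, hfix⟩ := real_fix_tw F k hk1 ((g : Equiv.Perm (Real k)) x₀)
    refine ⟨Q, χ, hχ, ?_⟩
    rintro s w rfl h
    obtain ⟨b, hb⟩ := (mem_stabilizer_blk S).1 h
    have hθ : blkHom S hfree lam⁻¹ x₀ ⟨_, h⟩ = lam⁻¹ b :=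
      blkHom_apply S hfree lam⁻¹ x₀ ⟨_, h⟩ b hb
    have h1 : ((s, 1) : S × S) • ((g : Equiv.Perm (Real k)) x₀) =
        (((1 : S), b) : S × S) • ((g : Equiv.Perm (Real k)) x₀) := by
      have h2 := congrArg (g : Equiv.Perm (Real k)) hb
      rw [g.2 b x₀] at h2
      rw [← h2]
      simp [Subgroup.coe_mul, Equiv.Perm.mul_apply, biIota_apply]
    have h3 : ((s, b⁻¹) : S × S) • ((g : Equiv.Perm (Real k)) x₀) =
        (g : Equiv.Perm (Real k)) x₀ := by
      have e : ((s, b⁻¹) : S × S) = (((1 : S), b⁻¹) : S × S) * ((s, 1) : S × S) := by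
        ext <;> simp
      rw [e, mul_smul, h1, smul_smul]
      have e2 : (((1 : S), b⁻¹) : S × S) * (((1 : S), b) : S × S) = 1 := by
        ext <;> simp
      rw [e2, one_smul]
    obtain ⟨hq, e⟩ := (hfix _).1 h3
    refine ⟨⟨_, hq⟩, e, ?_⟩
    rw [hθ, MonoidHom.inv_apply, ← map_inv]
  -- the transfer kills the focal subgroup
  have hτ : ∀ (y : Ω) (hy : y ∈ S), y ∈ F.focalSubgroup →
      MonoidHom.transfer (blkHom S hfree lam⁻¹ x₀) (biIota S (Real k) ⟨y, hy⟩) = 1 := by
    intro y hy hyF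
    have hle : F.focalSubgroup ≤ (((MonoidHom.transfer (blkHom S hfree lam⁻¹ x₀)).comp
        (biIota S (Real k))).ker).map S.subtype := by
      unfold FusionSystem.focalSubgroup
      rw [Subgroup.closure_le]
      rintro _ ⟨P, φ, x, hφ, rfl⟩
      refine ⟨⟨x, (F.le_of_mem hφ).1 x.2⟩⁻¹ * ⟨φ x, (F.le_of_mem hφ).2 x⟩, ?_, rfl⟩
      obtain ⟨g, hg⟩ := exists_biAut_conj F k hk1 hk3 (F.le_of_mem hφ).1 hφ (F.le_of_mem hφ).2
      rw [SetLike.mem_coe, MonoidHom.mem_ker, MonoidHom.comp_apply, map_mul, map_inv, hg x,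
        map_mul, map_mul, map_mul, map_inv, map_inv,
        mul_comm (MonoidHom.transfer (blkHom S hfree lam⁻¹ x₀) g), mul_inv_cancel_right,
        inv_mul_cancel]
    obtain ⟨w, hw, hwy⟩ := hle hyF
    have e : w = ⟨y, hy⟩ := Subtype.ext hwy
    rw [e] at hw
    exact hw
  have key : ∀ (n : ℕ) (u : ↥S), (u : Ω) ∈ F.focalSubgroup → orderOf u = n → lam u = 1 := by
    intro n
    induction n using Nat.strong_induction_on with
    | _ n ih =>
      intro u huF hord
      by_contra hne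
      have hu1 : u ≠ 1 := by
        rintro rfl
        apply hne
        exact map_one lam
      obtain ⟨j, hj⟩ := (IsPGroup.iff_orderOf.1 hS) u
      have hj0 : j ≠ 0 := by
        rintro rfl
        rw [pow_zero, orderOf_eq_one_iff] at hj
        exact hu1 hj
      let e := MonoidHom.ofInjective hιinj
      let κ : ↥(biIota S (Real k)).range →*
          (Abelianization ↥S ⧸ (D.subgroupOf S).map Abelianization.of) ⧸ Yp :=
        lam.comp e.symm.toMonoidHom
      have hκ : ∀ s : S, κ ⟨biIota S (Real k) s, ⟨s, rfl⟩⟩ = lam s := by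
        intro s
        show lam (e.symm ⟨biIota S (Real k) s, ⟨s, rfl⟩⟩) = lam s
        congr 1
        exact e.symm_apply_apply s
      have hBp : IsPGroup p ↥(biIota S (Real k)).range :=
        IsPGroup.of_surjective hS (biIota S (Real k)).rangeRestrict
          (biIota S (Real k)).rangeRestrict_surjective
      have hmin : ∀ (g : biAut S (Real k)) (m : ℕ), p ∣ m →
          ∀ h : g⁻¹ * biIota S (Real k) u ^ m * g ∈
            MulAction.stabilizer (biAut S (Real k)) (blk S x₀),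
            blkHom S hfree lam⁻¹ x₀ ⟨_, h⟩ = 1 := by
        intro g m hm h
        obtain ⟨Q, χ, hχ, hC'⟩ := hC g
        obtain ⟨q, hq, hθq⟩ := hC' (u ^ m) _ (map_pow _ _ _).symm h
        rw [hθq]
        have hqS := (F.le_of_mem hχ).1 q.2
        have hmem : (q : Ω)⁻¹ * χ q ∈ F.focalSubgroup :=
          Subgroup.subset_closure ⟨Q, χ, q, hχ, rfl⟩
        have hq' : χ q = (u : Ω) ^ m := hq
        have hqF : (q : Ω) ∈ F.focalSubgroup := by
          have h1 := F.focalSubgroup.mul_mem (F.focalSubgroup.pow_mem huF m)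
            (F.focalSubgroup.inv_mem hmem)
          rw [hq'] at h1
          simpa using h1
        have hordq : orderOf (⟨q, hqS⟩ : ↥S) = orderOf (u ^ m) := by
          rw [Subgroup.orderOf_mk, ← Subgroup.orderOf_coe (u ^ m), ← hq,
            orderOf_injective χ (F.injective_of_mem hχ) q, Subgroup.orderOf_coe]
        have hlt : orderOf (u ^ m) < orderOf u := by
          rw [orderOf_pow]
          apply Nat.div_lt_self (orderOf_pos u)
          have h1 : p ∣ Nat.gcd (orderOf u) m := by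
            apply Nat.dvd_gcd _ hm
            rw [hj]
            exact dvd_pow_self p hj0
          exact lt_of_lt_of_le hp.one_lt
            (Nat.le_of_dvd (Nat.gcd_pos_of_pos_left _ (orderOf_pos u)) h1)
        exact ih _ (by rw [hordq, ← hord]; exact hlt) ⟨q, hqS⟩ hqF rfl
      have hfix : ∀ g : biAut S (Real k), (∀ b ∈ (biIota S (Real k)).range,
          g⁻¹ * b * g ∈ MulAction.stabilizer (biAut S (Real k)) (blk S x₀)) →
          ∀ h : g⁻¹ * biIota S (Real k) u * g ∈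
            MulAction.stabilizer (biAut S (Real k)) (blk S x₀),
            blkHom S hfree lam⁻¹ x₀ ⟨_, h⟩ = κ ⟨biIota S (Real k) u, ⟨u, rfl⟩⟩ := by
        intro g hg h
        obtain ⟨Q, χ, hχ, hC'⟩ := hC g
        have hQS : Q ≤ S := (F.le_of_mem hχ).1
        have hQeq : Q = S := by
          apply Subgroup.eq_of_le_of_card_ge hQS
          have hsurj : Function.Surjective
              (fun q : Q => (⟨χ q, (F.le_of_mem hχ).2 q⟩ : S)) := by
            intro s
            obtain ⟨q, hq, -⟩ := hC' s _ rfl (hg _ ⟨s, rfl⟩)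
            exact ⟨q, Subtype.ext hq⟩
          have : Finite Q := finite_of_le hQS
          exact Nat.card_le_card_of_surjective _ hsurj
        obtain ⟨q, hq, hθq⟩ := hC' u _ rfl h
        rw [hθq, hκ]
        have h1 := aut_focal_mem F D hD Q χ hχ hQeq q
        rw [hq] at h1
        have h2 : lam0 ((⟨q, hQS q.2⟩ : ↥S)⁻¹ * u) = 1 := hlam0' _ h1
        rw [map_mul, map_inv, inv_mul_eq_one] at h2
        rw [hlam, hlam, h2]
      have hstab : ∀ (g d : biAut S (Real k)) (hd : d ∈ (biIota S (Real k)).range)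
          (h : g⁻¹ * d * g ∈ MulAction.stabilizer (biAut S (Real k)) (blk S x₀)),
          blkHom S hfree lam⁻¹ x₀ ⟨_, h⟩ ^ p = κ ⟨d, hd⟩ ^ p := by
        intro g d hd h
        obtain ⟨s, rfl⟩ := hd
        obtain ⟨Q, χ, hχ, hC'⟩ := hC g
        obtain ⟨q, hq, hθq⟩ := hC' s _ rfl h
        rw [hθq, hκ, ← hL3 Q χ hχ q]
        congr 2
        exact Subtype.ext hq
      have hκp : κ ⟨biIota S (Real k) u, ⟨u, rfl⟩⟩ ^ p = 1 := by
        rw [hκ]
        exact hL1 u.1 u.2 huF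
      obtain ⟨f, hf, htr⟩ := transfer_min (p := p)
        (MulAction.stabilizer (biAut S (Real k)) (blk S x₀)) (blkHom S hfree lam⁻¹ x₀)
        (biIota S (Real k)).range hBp (biIota S (Real k) u) ⟨u, rfl⟩ κ hmin hfix hstab hκp
        (fun M hMB hidx huM => star_of_no_wreath hS hno (biIota S (Real k)) _ rfl _ M hMB hidx huM)
      have hpf : ¬ p ∣ f := by
        rw [hf.dvd_iff (dvd_refl p)]
        exact hx₀
      have hθu : lam u ^ f = 1 := by
        rw [hτ u.1 u.2 huF, hκ] at htr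
        exact htr.symm
      have h1 := (pow_gcd_eq_one (a := lam u)).2 ⟨hL1 u.1 u.2 huF, hθu⟩
      rw [(Nat.Prime.coprime_iff_not_dvd hp).2 hpf, pow_one] at h1
      exact hne h1
  -- the image of the focal subgroup is `p`-divisible, hence trivial
  have hle : Yb ≤ Yp := by
    rintro _ ⟨y, hyF, rfl⟩
    have h1 := key _ y hyF rfl
    rw [hlam] at h1
    exact (QuotientGroup.eq_one_iff _).1 h1
  have hYbp : IsPGroup p Yb := (hS.to_subgroup (F.focalSubgroup.subgroupOf S)).map lam0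
  obtain ⟨k', hk'⟩ := IsPGroup.iff_card.1 hYbp
  have hdiv : ∀ j : ℕ, ∀ a ∈ Yb, ∃ b ∈ Yb, a = b ^ p ^ j := by
    intro j
    induction j with
    | zero => intro a ha; exact ⟨a, ha, by simp⟩
    | succ j ih =>
      intro a ha
      obtain ⟨b, hb, rfl⟩ := ih a ha
      obtain ⟨c, hc, rfl⟩ := hle hb
      refine ⟨c, hc, ?_⟩
      show (c ^ p) ^ p ^ j = c ^ p ^ (j + 1)
      rw [← pow_mul, pow_succ']
  have hYbot : ∀ a ∈ Yb, a = 1 := by
    intro a ha
    obtain ⟨b, hb, rfl⟩ := hdiv k' a ha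
    have h1 : (⟨b, hb⟩ : ↥Yb) ^ Nat.card ↥Yb = 1 := pow_card_eq_one'
    rw [hk'] at h1
    exact congrArg Subtype.val h1
  intro y hyF
  have hyS : y ∈ S := focalSubgroup_le F hyF
  exact hlam0 ⟨y, hyS⟩ (hYbot _ ⟨⟨y, hyS⟩, hyF, rfl⟩)

end Cfsg.Agent.Lib.helper40
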